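import Mathlib.RingTheory.LaurentSeries
import Mathlib.RingTheory.Binomial
import Mathlib.RingTheory.PowerSeries.Basic
import Mathlib.Data.Int.Interval

/-!
# Taylor expansion of Laurent series

The Hasse derivatives of Laurent series satisfy the higher product rule, so that
`f ↦ ∑ j, (hasseDeriv j f) T ^ j` is a ring homomorphism `R⸨X⸩ → R⸨X⸩⟦T⟧`.
-/

set_option autoImplicit false

namespace K668.Taylor

open LaurentSeries HahnSeries

variable {R : Type*} [CommRing R]

/-- Coefficients of a product of Laurent series as sums over an interval. -/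
theorem coeff_mul_Icc (f g : R⸨X⸩) (a b : ℤ) (ha : ∀ i < a, f.coeff i = 0)
    (hb : ∀ i < b, g.coeff i = 0) (n : ℤ) :
    (f * g).coeff n = ∑ i ∈ Finset.Icc a (n - b), f.coeff i * g.coeff (n - i) := by
  classical
  rw [HahnSeries.coeff_mul]
  have hinj : Set.InjOn Prod.fst
      (Finset.antidiagonal f.isPWO_support g.isPWO_support n : Set (ℤ × ℤ)) := by
    rintro ⟨x, y⟩ hx ⟨x', y'⟩ hx' (h : x = x')
    rw [Finset.mem_coe, Finset.mem_antidiagonal] at hx hx'
    have h1 : x + y = n := hx.2.2
    have h2 : x' + y' = n := hx'.2.2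
    subst h
    have : y = y' := by omega
    rw [this]
  have h1 : ∑ ij ∈ Finset.antidiagonal f.isPWO_support g.isPWO_support n,
      f.coeff ij.1 * g.coeff ij.2 =
      ∑ i ∈ (Finset.antidiagonal f.isPWO_support g.isPWO_support n).image Prod.fst,
        f.coeff i * g.coeff (n - i) := by
    rw [Finset.sum_image hinj]
    refine Finset.sum_congr rfl fun ij hij => ?_
    rw [Finset.mem_antidiagonal] at hij
    rw [← hij.2.2, add_sub_cancel_left]
  rw [h1]
  refine Finset.sum_subset ?_ ?_
  · intro i hi
    rw [Finset.mem_image] at hi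
    obtain ⟨⟨x, y⟩, hxy, rfl⟩ := hi
    rw [Finset.mem_antidiagonal] at hxy
    obtain ⟨h1, h2, h3⟩ := hxy
    rw [Finset.mem_Icc]
    have h4 : a ≤ x := by
      by_contra h; exact h1 (ha _ (not_le.1 h))
    have h5 : b ≤ y := by
      by_contra h; exact h2 (hb _ (not_le.1 h))
    have h3' : x + y = n := h3
    constructor
    · exact h4
    · change x ≤ n - b
      omega
  · intro i _ hi
    rw [Finset.mem_image] at hi
    by_contra h
    apply hi
    refine ⟨(i, n - i), ?_, rfl⟩
    rw [Finset.mem_antidiagonal]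
    exact ⟨left_ne_zero_of_mul h, right_ne_zero_of_mul h, by simp⟩

/-- The higher product rule. -/
theorem hasseDeriv_mul (j : ℕ) (f g : R⸨X⸩) :
    LaurentSeries.hasseDeriv R j (f * g) =
      ∑ p ∈ Finset.HasAntidiagonal.antidiagonal j, LaurentSeries.hasseDeriv R p.1 f * LaurentSeries.hasseDeriv R p.2 g := by
  classical
  obtain ⟨a, ha⟩ : ∃ a : ℤ, ∀ i < a, f.coeff i = 0 :=
    ⟨f.order, fun i hi => coeff_eq_zero_of_lt_order hi⟩
  obtain ⟨b, hb⟩ : ∃ b : ℤ, ∀ i < b, g.coeff i = 0 :=
    ⟨g.order, fun i hi => coeff_eq_zero_of_lt_order hi⟩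
  ext n
  rw [HahnSeries.coeff_sum, hasseDeriv_coeff, coeff_mul_Icc f g a b ha hb]
  have h1 : ∀ p ∈ Finset.HasAntidiagonal.antidiagonal j,
      (LaurentSeries.hasseDeriv R p.1 f * LaurentSeries.hasseDeriv R p.2 g).coeff n =
      ∑ i ∈ Finset.Icc a (n + j - b), (Ring.choose i p.1 • f.coeff i) *
        (Ring.choose (n + j - i) p.2 • g.coeff (n + j - i)) := by
    intro p hp
    rw [Finset.HasAntidiagonal.mem_antidiagonal] at hp
    rw [coeff_mul_Icc _ _ (a - p.1) (b - p.2)]
    · have : Finset.Icc a (n + j - b) =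
          (Finset.Icc (a - p.1) (n - (b - p.2))).image (fun i => i + (p.1 : ℤ)) := by
        ext i
        rw [Finset.mem_image, Finset.mem_Icc]
        constructor
        · intro h
          refine ⟨i - p.1, ?_, by ring⟩
          rw [Finset.mem_Icc]
          omega
        · rintro ⟨i', h, rfl⟩
          rw [Finset.mem_Icc] at h
          omega
      rw [this, Finset.sum_image (fun x _ y _ h => add_right_cancel h)]
      refine Finset.sum_congr rfl fun i _ => ?_
      rw [hasseDeriv_coeff, hasseDeriv_coeff]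
      have : n + (j : ℤ) - (i + p.1) = n - i + p.2 := by
        rw [← hp]; push_cast; ring
      rw [this]
    · intro i hi
      rw [hasseDeriv_coeff, ha _ (by omega), smul_zero]
    · intro i hi
      rw [hasseDeriv_coeff, hb _ (by omega), smul_zero]
  rw [Finset.sum_congr rfl h1, Finset.sum_comm, Finset.smul_sum]
  refine Finset.sum_congr rfl fun i _ => ?_
  have h2 : n + (j : ℤ) = i + (n + j - i) := by ring
  conv_lhs => rw [h2, Ring.add_choose_eq j (Commute.all _ _), ← h2, Finset.sum_smul]
  refine Finset.sum_congr rfl fun p _ => ?_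
  rw [mul_smul, smul_mul_smul_comm, smul_smul]

theorem hasseDeriv_one (j : ℕ) (hj : j ≠ 0) : LaurentSeries.hasseDeriv R j (1 : R⸨X⸩) = 0 := by
  have : (1 : R⸨X⸩) = single 0 1 := rfl
  rw [this, LaurentSeries.hasseDeriv_single]
  rw [Ring.choose_zero_ite]
  simp [hj]

/-- Taylor expansion of Laurent series. -/
noncomputable def taylor : R⸨X⸩ →+* PowerSeries R⸨X⸩ where
  toFun f := PowerSeries.mk fun j => LaurentSeries.hasseDeriv R j f
  map_one' := by
    ext j : 1
    rw [PowerSeries.coeff_mk, PowerSeries.coeff_one]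
    split_ifs with h
    · subst h; simp
    · exact hasseDeriv_one j h
  map_mul' f g := by
    ext j : 1
    rw [PowerSeries.coeff_mk, PowerSeries.coeff_mul, hasseDeriv_mul]
    refine Finset.sum_congr rfl fun p _ => ?_
    rw [PowerSeries.coeff_mk, PowerSeries.coeff_mk]
  map_zero' := by
    ext j : 1
    rw [PowerSeries.coeff_mk, map_zero, map_zero]
  map_add' f g := by
    ext j : 1
    rw [PowerSeries.coeff_mk, map_add, map_add, PowerSeries.coeff_mk, PowerSeries.coeff_mk]

@[simp]
theorem coeff_taylor (j : ℕ) (f : R⸨X⸩) :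
    PowerSeries.coeff j (taylor f) = LaurentSeries.hasseDeriv R j f := by
  change PowerSeries.coeff j (PowerSeries.mk fun j => LaurentSeries.hasseDeriv R j f) = _
  rw [PowerSeries.coeff_mk]

theorem constantCoeff_taylor (f : R⸨X⸩) : PowerSeries.constantCoeff (taylor f) = f := by
  rw [← PowerSeries.coeff_zero_eq_constantCoeff_apply, coeff_taylor]
  simp

/-- The Taylor expansion of a constant. -/
theorem taylor_C (c : R) : taylor (HahnSeries.C c : R⸨X⸩) = PowerSeries.C (HahnSeries.C c) := by
  ext j : 1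
  rw [coeff_taylor, PowerSeries.coeff_C]
  have : (HahnSeries.C c : R⸨X⸩) = single 0 c := rfl
  rw [this, LaurentSeries.hasseDeriv_single, Ring.choose_zero_ite]
  split_ifs with h
  · subst h; simp
  · simp

/-- The Taylor expansion of `X` is `X + T`. -/
theorem taylor_X : taylor (single 1 1 : R⸨X⸩) = PowerSeries.C (single 1 1) + PowerSeries.X := by
  ext j : 1
  rw [coeff_taylor, LaurentSeries.hasseDeriv_single, map_add, PowerSeries.coeff_C,
    PowerSeries.coeff_X]
  match j with
  | 0 => simp
  | 1 => simp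
  | j + 2 =>
    have : Ring.choose (1 : ℤ) (j + 2) = 0 := by
      have := Ring.choose_natCast (R := ℤ) 1 (j + 2)
      rw [Nat.cast_one] at this
      rw [this, Nat.choose_eq_zero_of_lt (by omega), Nat.cast_zero]
    simp [this]

/-- Taylor expansion of a power series has power series coefficients. -/
theorem hasseDeriv_coe (j : ℕ) (f : PowerSeries R) :
    LaurentSeries.hasseDeriv R j (f : R⸨X⸩) =
      ((PowerSeries.mk fun n => ((n + j).choose j : R) * PowerSeries.coeff (n + j) f :
        PowerSeries R) : R⸨X⸩) := by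
  ext n
  rw [LaurentSeries.hasseDeriv_coeff, PowerSeries.coeff_coe, PowerSeries.coeff_coe]
  split_ifs with h1 h2 h2
  · simp
  · omega
  · have h3 : 0 ≤ n + j := not_lt.1 h1
    obtain ⟨m, hm⟩ := Int.eq_ofNat_of_zero_le h3
    have hm' : m < j := by omega
    have : Ring.choose (n + j : ℤ) j = 0 := by
      rw [hm]
      exact (Ring.choose_natCast (R := ℤ) m j).trans
        (by rw [Nat.choose_eq_zero_of_lt hm', Nat.cast_zero])
    rw [this, zero_smul]
  · have h3 : 0 ≤ n := not_lt.1 h2
    obtain ⟨m, rfl⟩ := Int.eq_ofNat_of_zero_le h3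
    have e1 : ((m : ℤ) + j) = ((m + j : ℕ) : ℤ) := by push_cast; ring
    rw [PowerSeries.coeff_mk, e1, Int.natAbs_natCast, Ring.choose_natCast]
    simp

end K668.Taylor
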