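import Groth.Prelude.Def_LocRes
import Groth.Prelude.Def_W4bk4goldsch23FF
import Groth.Agent.FunFld.K668.Taylor
import Mathlib.FieldTheory.SeparablyGenerated
import Mathlib.RingTheory.Etale.Field
import Mathlib.RingTheory.PowerSeries.Substitution
import Mathlib.Algebra.Polynomial.Taylor

/-!
# Hasse families

Uniqueness of a homomorphism into power series with prescribed constant term and prescribed value
on a separating element; iterativity.
-/

set_option autoImplicit false

namespace K668.Hasse

open LocRes IntermediateField

section Unique

variable {k K L : Type*} [Field k] [Field K] [CommRing L] [IsDomain L] [Algebra k K]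

/-- Two homomorphisms into power series over a domain that have the same constant terms and
agree on a separating element are equal. -/
theorem eq_of_isSeparable (f g : K →+* PowerSeries L) (hk : ∀ c : k, f (algebraMap k K c) = g (algebraMap k K c))
    (s : K) (hs : f s = g s)
    (h0 : ∀ y, PowerSeries.constantCoeff (f y) = PowerSeries.constantCoeff (g y))
    [Algebra.IsSeparable (adjoin k ({s} : Set K)) K] : f = g := by
  have hE : ∀ x ∈ adjoin k ({s} : Set K), f x = g x := by
    intro x hx
    induction hx using adjoin_induction with
    | mem x hx => rw [Set.mem_singleton_iff] at hx; rw [hx, hs]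
    | algebraMap x => exact hk x
    | add x y _ _ hx hy => rw [map_add, map_add, hx, hy]
    | inv x _ hx =>
      by_cases hx0 : x = 0
      · rw [hx0, inv_zero, map_zero, map_zero]
      · have h1 : f x * f x⁻¹ = 1 := by rw [← map_mul, mul_inv_cancel₀ hx0, map_one]
        have h2 : g x * g x⁻¹ = 1 := by rw [← map_mul, mul_inv_cancel₀ hx0, map_one]
        calc f x⁻¹ = f x⁻¹ * (g x * g x⁻¹) := by rw [h2, mul_one]
          _ = (f x * f x⁻¹) * g x⁻¹ := by rw [hx]; ring
          _ = g x⁻¹ := by rw [h1, one_mul]
    | mul x y _ _ hx hy => rw [map_mul, map_mul, hx, hy]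
  let E := adjoin k ({s} : Set K)
  have hfE : f.comp (algebraMap E K) = g.comp (algebraMap E K) := RingHom.ext fun x => hE x x.2
  refine RingHom.ext fun y => ?_
  let p := minpoly E y
  have hsep : p.Separable := Algebra.IsSeparable.isSeparable E y
  have hp0 : Polynomial.aeval y p = 0 := minpoly.aeval E y
  let q : Polynomial (PowerSeries L) := p.map (f.comp (algebraMap E K))
  have hqf : q.eval (f y) = 0 := by
    rw [Polynomial.eval_map, ← Polynomial.hom_eval₂, ← Polynomial.aeval_def, hp0, map_zero]
  have hqg : q.eval (g y) = 0 := by
    change (p.map (f.comp (algebraMap E K))).eval (g y) = 0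
    rw [hfE, Polynomial.eval_map, ← Polynomial.hom_eval₂, ← Polynomial.aeval_def, hp0, map_zero]
  have hd : PowerSeries.constantCoeff (q.derivative.eval (g y)) ≠ 0 := by
    change PowerSeries.constantCoeff ((p.map (f.comp (algebraMap E K))).derivative.eval (g y)) ≠ 0
    rw [hfE, Polynomial.derivative_map, Polynomial.eval_map, ← Polynomial.hom_eval₂,
      ← Polynomial.aeval_def]
    have h1 : Polynomial.aeval y p.derivative ≠ 0 := hsep.aeval_derivative_ne_zero hp0
    intro h2
    exact h1 ((map_eq_zero ((PowerSeries.constantCoeff (R := L)).comp g)).1 h2)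
  obtain ⟨r, hr⟩ := q.binomExpansion (g y) (f y - g y)
  rw [add_sub_cancel, hqf, hqg, zero_add] at hr
  have h3 : (f y - g y) * (q.derivative.eval (g y) + r * (f y - g y)) = 0 := by
    rw [hr]; ring
  rcases mul_eq_zero.1 h3 with h | h
  · exact sub_eq_zero.1 h
  · exfalso
    apply hd
    have h4 := congrArg (PowerSeries.constantCoeff (R := L)) h
    rw [map_add, map_mul, map_sub, h0 y, sub_self, mul_zero, add_zero, map_zero] at h4
    exact h4

end Unique

section FF

variable {k K : Type*} [Field k] [Field K] [Algebra k K]

theorem trdeg_eq_one (hK : FunFld.IsFunctionField k K) : Algebra.trdeg k K = 1 := by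
  obtain ⟨⟨x, hx, hfin⟩, -⟩ := hK
  have hind : AlgebraicIndependent k (fun _ : Unit => x) := by
    rw [algebraicIndependent_unique_type_iff]
    exact hx
  have halg : Algebra.IsAlgebraic (Algebra.adjoin k (Set.range fun _ : Unit => x)) K := by
    rw [Set.range_const, ← IntermediateField.isAlgebraic_adjoin_iff_top]
    infer_instance
  have hb : IsTranscendenceBasis k (fun _ : Unit => x) :=
    isTranscendenceBasis_iff_algebraicIndependent_isAlgebraic.2 ⟨hind, halg⟩
  have := hb.lift_cardinalMk_eq_trdeg
  simpa using this.symm

/-- Every transcendental element is a transcendence basis. -/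
theorem isAlgebraic_adjoin (hK : FunFld.IsFunctionField k K) {z : K} (hz : Transcendental k z) :
    Algebra.IsAlgebraic (adjoin k ({z} : Set K)) K := by
  have hind : AlgebraicIndependent k (fun _ : Unit => z) := by
    rw [algebraicIndependent_unique_type_iff]
    exact hz
  have hb : IsTranscendenceBasis k (fun _ : Unit => z) :=
    hind.isTranscendenceBasis_of_lift_trdeg_le_of_finite (by simp [trdeg_eq_one hK])
  have := hb.isAlgebraic_field
  rwa [Set.range_const] at this

theorem essFiniteType (hK : FunFld.IsFunctionField k K) : Algebra.EssFiniteType k K := by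
  obtain ⟨⟨x, hx, hfin⟩, -⟩ := hK
  have h1 : Algebra.EssFiniteType k (adjoin k ({x} : Set K)) :=
    IntermediateField.essFiniteType_iff.2 (IntermediateField.fg_adjoin_of_finite (Set.finite_singleton x))
  exact Algebra.EssFiniteType.comp k (adjoin k ({x} : Set K)) K

/-- Over a perfect field there is a separating element. -/
theorem exists_isSeparable [PerfectField k] (hK : FunFld.IsFunctionField k K) :
    ∃ x : K, Transcendental k x ∧ Algebra.IsSeparable (adjoin k ({x} : Set K)) K := by
  have := essFiniteType hK
  obtain ⟨s, hs, hs'⟩ := exists_isTranscendenceBasis_and_isSeparable_of_perfectField k K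
  have h1 := hs.cardinalMk_eq_trdeg
  rw [trdeg_eq_one hK] at h1
  have h2 : s.card = 1 := by simpa using h1
  obtain ⟨x, rfl⟩ := Finset.card_eq_one.1 h2
  refine ⟨x, ?_, ?_⟩
  · exact hs.1.transcendental ⟨x, by simp⟩
  · rwa [Finset.coe_singleton] at hs'

end FF

section Der

variable {k K : Type*} [Field k] [Field K] [Algebra k K]

/-- A derivation is determined by its value at a separating element. -/
theorem derivation_eq_zero {x : K} [Algebra.IsSeparable (adjoin k ({x} : Set K)) K]
    {M : Type*} [AddCommGroup M] [Module K M] [Module k M] [IsScalarTower k K M]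
    (δ : Derivation k K M) (hx : δ x = 0) : δ = 0 := by
  have hE : ∀ y ∈ adjoin k ({x} : Set K), δ y = 0 := by
    intro y hy
    induction hy using adjoin_induction with
    | mem y hy => rw [Set.mem_singleton_iff] at hy; rw [hy, hx]
    | algebraMap y => exact δ.map_algebraMap y
    | add y z _ _ hy hz => rw [map_add, hy, hz, add_zero]
    | inv y _ hy =>
      by_cases hy0 : y = 0
      · rw [hy0, inv_zero, map_zero]
      · have h1 : δ (y * y⁻¹) = 0 := by rw [mul_inv_cancel₀ hy0]; exact δ.map_one_eq_zero
        rw [Derivation.leibniz, hy, smul_zero, add_zero] at h1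
        exact (smul_eq_zero.1 h1).resolve_left hy0
    | mul y z _ _ hy hz => rw [Derivation.leibniz, hy, hz, smul_zero, smul_zero, add_zero]
  let E := adjoin k ({x} : Set K)
  have hsm : ∀ (a : E) (m : M), a • m = (algebraMap E K a) • m := fun a m => rfl
  have htower : IsScalarTower E K M := ⟨fun a b m => by
    rw [hsm, smul_smul, Algebra.smul_def]⟩
  let δ' : Derivation E K M :=
    { toFun := δ
      map_add' := map_add δ
      map_smul' := fun a y => by
        rw [Algebra.smul_def, Derivation.leibniz]
        have : δ (algebraMap E K a) = 0 := hE _ a.2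
        rw [this, smul_zero, add_zero]
        rfl
      map_one_eq_zero' := δ.map_one_eq_zero
      leibniz' := δ.leibniz }
  have h1 : Algebra.FormallyUnramified E K := Algebra.FormallyUnramified.of_isSeparable E K
  have h2 : Subsingleton (Ω[K⁄E]) := h1.subsingleton_kaehlerDifferential
  ext y
  have h3 : δ' y = δ'.liftKaehlerDifferential (KaehlerDifferential.D E K y) :=
    (δ'.liftKaehlerDifferential_comp_D y).symm
  rw [Subsingleton.elim (KaehlerDifferential.D E K y) 0, map_zero] at h3
  exact h3

/-- An element on which some derivation is nonzero is separating. -/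
theorem isSeparable_of_derivation [PerfectField k] (hK : FunFld.IsFunctionField k K)
    (D : Derivation k K K) (s : K) (hs : D s ≠ 0) :
    Algebra.IsSeparable (adjoin k ({s} : Set K)) K := by
  obtain ⟨x, hx, hsep⟩ := exists_isSeparable hK
  have hess := essFiniteType hK
  let E := adjoin k ({s} : Set K)
  have hess' : Algebra.EssFiniteType E K := Algebra.EssFiniteType.of_comp k E K
  let M := Ω[K⁄E]
  let δ : Derivation k K M := (KaehlerDifferential.D E K).restrictScalars k
  have hδs : δ s = 0 := by
    change KaehlerDifferential.D E K (algebraMap E K ⟨s, subset_adjoin k _ rfl⟩) = 0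
    exact Derivation.map_algebraMap _ _
  let ε : Derivation k K M := D x • δ - (LinearMap.toSpanSingleton K M (δ x)).compDer D
  have hε : ∀ y, ε y = D x • δ y - D y • δ x := fun y => rfl
  have h1 : ε = 0 := derivation_eq_zero (x := x) ε (by rw [hε, sub_self])
  have h2 : δ x = 0 := by
    have h3 : ε s = 0 := by rw [h1]; rfl
    rw [hε, hδs, smul_zero, zero_sub, neg_eq_zero] at h3
    exact (smul_eq_zero.1 h3).resolve_left hs
  have h3 : δ = 0 := derivation_eq_zero (x := x) δ h2
  have h4 : Subsingleton M := by
    rw [← Submodule.subsingleton_iff K]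
    refine subsingleton_of_bot_eq_top ?_
    rw [eq_comm, ← KaehlerDifferential.span_range_derivation, Submodule.span_eq_bot]
    rintro _ ⟨y, rfl⟩
    exact congrArg (fun d : Derivation k K M => d y) h3
  have h5 : Algebra.FormallyUnramified E K := ⟨h4⟩
  exact Algebra.FormallyUnramified.isSeparable E K

/-- The first coefficient of a homomorphism into power series with constant term the identity
is a derivation. -/
noncomputable def firstDer (H : K →ₐ[k] PowerSeries K) (hH : ∀ y, PowerSeries.constantCoeff (H y) = y) :
    Derivation k K K where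
  toFun y := PowerSeries.coeff 1 (H y)
  map_add' a b := by rw [map_add, map_add]
  map_smul' c y := by
    rw [map_smul]
    exact PowerSeries.coeff_smul _ _ _
  map_one_eq_zero' := by
    change PowerSeries.coeff 1 (H 1) = 0
    rw [map_one, PowerSeries.coeff_one]; simp
  leibniz' a b := by
    change PowerSeries.coeff 1 (H (a * b)) = a * PowerSeries.coeff 1 (H b) + b * PowerSeries.coeff 1 (H a)
    rw [map_mul, PowerSeries.coeff_mul, Finset.Nat.antidiagonal_succ, Finset.sum_cons,
      Finset.sum_map, Finset.Nat.antidiagonal_zero, Finset.sum_singleton]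
    have h0 : ∀ y, PowerSeries.coeff 0 (H y) = y := fun y => by
      rw [PowerSeries.coeff_zero_eq_constantCoeff_apply, hH]
    simp only [Function.Embedding.prodMap, Function.Embedding.coeFn_mk, Prod.map, Function.Embedding.refl_apply]
    rw [h0, h0]
    ring

variable {s : K} {H : K →ₐ[k] PowerSeries K}

theorem isSeparable [PerfectField k] (hK : FunFld.IsFunctionField k K) (hH : IsHasseFamily s H) :
    Algebra.IsSeparable (adjoin k ({s} : Set K)) K := by
  refine isSeparable_of_derivation hK (firstDer H hH.2) s ?_
  change PowerSeries.coeff 1 (H s) ≠ 0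
  rw [hH.1, map_add, PowerSeries.coeff_C]
  simp

end Der

end K668.Hasse
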