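import Groth.Prelude.Def_W4bk4goldsch45p2
import Mathlib.LinearAlgebra.Matrix.Block
import Mathlib.LinearAlgebra.Matrix.ToLin
import Mathlib.LinearAlgebra.Dimension.Constructions
import Mathlib.LinearAlgebra.FiniteDimensional.Basic
import Mathlib.LinearAlgebra.Matrix.NonsingularInverse
import Mathlib.Data.Finset.Sort

/-!
# Jump indices and order sequences of a sequence of vectors

Linear algebra of `FunFld.IsJump` and `FunFld.IsOrders` over a field.
-/

set_option autoImplicit false

namespace K668.Orders

open FunFld Submodule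

section Basic

variable {R M N : Type*} [Field R] [AddCommGroup M] [Module R M] [AddCommGroup N] [Module R N]

/-- The span of the vectors `c m`, `m < j`. -/
abbrev V (c : ℕ → M) (j : ℕ) : Submodule R M := span R (c '' Set.Iio j)

theorem V_mono (c : ℕ → M) {i j : ℕ} (h : i ≤ j) : (V c i : Submodule R M) ≤ V c j :=
  span_mono (Set.image_mono (Set.Iio_subset_Iio h))

theorem mem_V (c : ℕ → M) {i j : ℕ} (h : i < j) : c i ∈ (V c j : Submodule R M) :=
  subset_span ⟨i, h, rfl⟩

theorem V_succ (c : ℕ → M) (j : ℕ) : (V c (j + 1) : Submodule R M) = V c j ⊔ span R {c j} := by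
  rw [V, V, ← span_union, ← Set.image_singleton, ← Set.image_union]
  congr 2
  ext i
  simp only [Set.mem_Iio, Set.mem_union, Set.mem_singleton_iff]
  omega

theorem isJump_iff (c : ℕ → M) (j : ℕ) :
    IsJump R c j ↔ (V c j : Submodule R M) ≠ V c (j + 1) := by
  rw [IsJump, not_iff_comm, not_not, V_succ]
  constructor
  · intro h
    rw [left_eq_sup] at h
    exact h (mem_span_singleton_self _)
  · intro h
    rw [left_eq_sup, span_singleton_le_iff_mem]
    exact h

/-- The jumps only depend on the flag of spans. -/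
theorem isJump_congr {c c' : ℕ → M} (h : ∀ j, (V c j : Submodule R M) = V c' j) (j : ℕ) :
    IsJump R c j ↔ IsJump R c' j := by
  rw [isJump_iff, isJump_iff, h, h]

theorem isOrders_congr {c c' : ℕ → M} (h : ∀ j, (V c j : Submodule R M) = V c' j) {n : ℕ}
    (J : Fin n → ℕ) : IsOrders R c J ↔ IsOrders R c' J := by
  simp only [IsOrders, isJump_congr h]

theorem isJump_comp (e : M →ₗ[R] N) (he : Function.Injective e) (c : ℕ → M) (j : ℕ) :
    IsJump R (fun i => e (c i)) j ↔ IsJump R c j := by
  rw [IsJump, IsJump, not_iff_not]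
  have : (fun i => e (c i)) '' Set.Iio j = e '' (c '' Set.Iio j) := by
    rw [Set.image_image]
  rw [this, span_image]
  constructor
  · rintro ⟨x, hx, hxe⟩
    rwa [← he hxe]
  · intro h
    exact ⟨_, h, rfl⟩

theorem isOrders_comp (e : M →ₗ[R] N) (he : Function.Injective e) (c : ℕ → M) {n : ℕ}
    (J : Fin n → ℕ) : IsOrders R (fun i => e (c i)) J ↔ IsOrders R c J := by
  simp only [IsOrders, isJump_comp e he]

/-- A change of columns that is triangular with nonzero diagonal does not change the flag. -/
theorem V_eq_of_triangular {c c' : ℕ → M}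
    (h : ∀ j, ∃ a : R, a ≠ 0 ∧ c' j - a • c j ∈ (V c j : Submodule R M)) (j : ℕ) :
    (V c' j : Submodule R M) = V c j := by
  induction j with
  | zero => simp [V]
  | succ j ih =>
    obtain ⟨a, ha, hj⟩ := h j
    rw [V_succ, V_succ, ih]
    apply le_antisymm
    · refine sup_le le_sup_left ?_
      rw [span_singleton_le_iff_mem]
      have : c' j = (c' j - a • c j) + a • c j := by abel
      rw [this]
      exact add_mem (mem_sup_left hj) (smul_mem _ _ (mem_sup_right (mem_span_singleton_self _)))
    · refine sup_le le_sup_left ?_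
      rw [span_singleton_le_iff_mem]
      have : c j = a⁻¹ • c' j - a⁻¹ • (c' j - a • c j) := by
        rw [smul_sub, smul_smul, inv_mul_cancel₀ ha, one_smul]; abel
      rw [this]
      exact sub_mem (smul_mem _ _ (mem_sup_right (mem_span_singleton_self _)))
        (smul_mem _ _ (mem_sup_left hj))


/-- The flag is spanned by the jump vectors. -/
theorem V_eq_span_jumps (c : ℕ → M) (j : ℕ) :
    (V c j : Submodule R M) = span R (c '' {i | i < j ∧ IsJump R c i}) := by
  have hmono : ∀ j : ℕ, (span R (c '' {i | i < j ∧ IsJump R c i}) : Submodule R M) ≤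
      span R (c '' {i | i < j + 1 ∧ IsJump R c i}) := fun j => by
    refine span_mono (Set.image_mono ?_)
    rintro i ⟨hi, hi'⟩
    exact ⟨hi.trans (Nat.lt_succ_self _), hi'⟩
  induction j with
  | zero => simp [V]
  | succ j ih =>
    apply le_antisymm
    · rw [V_succ, ih]
      refine sup_le (hmono j) ?_
      rw [span_singleton_le_iff_mem]
      by_cases hj : IsJump R c j
      · exact subset_span ⟨j, ⟨Nat.lt_succ_self _, hj⟩, rfl⟩
      · rw [IsJump, not_not] at hj
        change c j ∈ V c j at hj
        rw [ih] at hj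
        exact hmono j hj
    · exact span_mono (Set.image_mono fun i hi => hi.1)

theorem span_range_eq_span_jumps (c : ℕ → M) :
    (span R (Set.range c) : Submodule R M) = span R (c '' {i | IsJump R c i}) := by
  apply le_antisymm
  · rw [span_le]
    rintro _ ⟨j, rfl⟩
    have : c j ∈ (V c (j + 1) : Submodule R M) := mem_V c (Nat.lt_succ_self _)
    rw [V_eq_span_jumps] at this
    exact span_mono (Set.image_mono fun i hi => hi.2) this
  · exact span_mono (Set.image_subset_range _ _)

/-- The jump vectors are linearly independent. -/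
theorem linearIndependent_jumps (c : ℕ → M) :
    LinearIndependent R (fun i : {i | IsJump R c i} => c i) := by
  classical
  rw [linearIndependent_iff']
  intro s g hg
  by_contra hne
  push Not at hne
  obtain ⟨i₀, hi₀, hgi₀⟩ := hne
  obtain ⟨m, hm, hmax⟩ := (s.filter fun i => g i ≠ 0).exists_max_image (fun i => (i : ℕ))
    ⟨i₀, by simp [hi₀, hgi₀]⟩
  rw [Finset.mem_filter] at hm
  have hmem : g m • c m ∈ (V c m : Submodule R M) := by
    rw [← Finset.add_sum_erase s _ hm.1, add_eq_zero_iff_eq_neg] at hg
    rw [hg]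
    refine neg_mem (sum_mem fun i hi => ?_)
    by_cases hgi : g i = 0
    · rw [hgi, zero_smul]; exact zero_mem _
    · refine smul_mem _ _ (mem_V c ?_)
      have h1 := hmax i (by simp [Finset.mem_of_mem_erase hi, hgi])
      have h2 : (i : ℕ) ≠ m := fun h => (Finset.ne_of_mem_erase hi) (Subtype.ext h)
      omega
  have : c m ∈ (V c m : Submodule R M) := by
    have := smul_mem _ (g m)⁻¹ hmem
    rwa [smul_smul, inv_mul_cancel₀ hm.2, one_smul] at this
  exact m.2 this

end Basic

section Seq

variable {R M : Type*} [Field R] [AddCommGroup M] [Module R M]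

/-- `q` enumerates the jumps of `c` increasingly. -/
def Enum (R : Type*) {M : Type*} [Semiring R] [AddCommMonoid M] [Module R M]
    (c : ℕ → M) {m : ℕ} (q : Fin m → ℕ) : Prop :=
  StrictMono q ∧ ∀ j, IsJump R c j ↔ j ∈ Set.range q

/-- The sequence `0, J 0 + 1, J 1 + 1, …`. -/
def jmp {n : ℕ} (J : Fin n → ℕ) : Fin (n + 1) → ℕ := Fin.cons 0 fun l => J l + 1

@[simp] theorem jmp_zero {n : ℕ} (J : Fin n → ℕ) : jmp J 0 = 0 := rfl

@[simp] theorem jmp_succ {n : ℕ} (J : Fin n → ℕ) (l : Fin n) : jmp J l.succ = J l + 1 := rfl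

theorem strictMono_jmp {n : ℕ} {J : Fin n → ℕ} (hJ : StrictMono J) : StrictMono (jmp J) := by
  intro a b hab
  induction b using Fin.cases with
  | zero => exact absurd hab (Fin.not_lt_zero a)
  | succ b =>
    induction a using Fin.cases with
    | zero => simp
    | succ a =>
      rw [jmp_succ, jmp_succ]
      have := hJ (Fin.succ_lt_succ_iff.1 hab)
      omega

theorem isJump_zero_iff (c : ℕ → M) : IsJump R c 0 ↔ c 0 ≠ 0 := by
  rw [IsJump]
  have : Set.Iio 0 = (∅ : Set ℕ) := by ext; simp
  rw [this, Set.image_empty, span_empty, mem_bot]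

theorem enum_jmp_iff {c : ℕ → M} (h0 : c 0 ≠ 0) {n : ℕ} (J : Fin n → ℕ) :
    Enum R c (jmp J) ↔ IsOrders R c J := by
  constructor
  · rintro ⟨h1, h2⟩
    refine ⟨fun a b hab => ?_, fun j => ?_⟩
    · have := h1 (Fin.succ_lt_succ_iff.2 hab)
      rw [jmp_succ, jmp_succ] at this
      omega
    · rw [h2]
      constructor
      · rintro ⟨l, rfl⟩
        exact ⟨l.succ, rfl⟩
      · rintro ⟨l, hl⟩
        induction l using Fin.cases with
        | zero => rw [jmp_zero] at hl; omega
        | succ l => rw [jmp_succ] at hl; exact ⟨l, by omega⟩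
  · rintro ⟨h1, h2⟩
    refine ⟨strictMono_jmp h1, fun j => ?_⟩
    cases j with
    | zero =>
      rw [isJump_zero_iff]
      exact ⟨fun _ => ⟨0, rfl⟩, fun _ => h0⟩
    | succ j =>
      rw [← h2]
      constructor
      · rintro ⟨l, rfl⟩
        exact ⟨l.succ, rfl⟩
      · rintro ⟨l, hl⟩
        induction l using Fin.cases with
        | zero => rw [jmp_zero] at hl; omega
        | succ l => rw [jmp_succ] at hl; exact ⟨l, by omega⟩

theorem Enum.linearIndependent {c : ℕ → M} {m : ℕ} {q : Fin m → ℕ} (h : Enum R c q) :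
    LinearIndependent R (fun i => c (q i)) := by
  have h1 := linearIndependent_jumps (R := R) c
  let f : Fin m → {i | IsJump R c i} := fun i => ⟨q i, (h.2 _).2 ⟨i, rfl⟩⟩
  have hf : Function.Injective f := fun a b hab => h.1.injective (congrArg Subtype.val hab)
  exact h1.comp f hf

theorem Enum.V_eq {c : ℕ → M} {m : ℕ} {q : Fin m → ℕ} (h : Enum R c q) (j : ℕ) :
    (V c j : Submodule R M) = span R ((fun i => c (q i)) '' {i | q i < j}) := by
  rw [V_eq_span_jumps]
  congr 1
  ext x
  constructor
  · rintro ⟨i, ⟨hi, hi'⟩, rfl⟩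
    obtain ⟨l, rfl⟩ := (h.2 i).1 hi'
    exact ⟨l, hi, rfl⟩
  · rintro ⟨l, hl, rfl⟩
    exact ⟨q l, ⟨hl, (h.2 _).2 ⟨l, rfl⟩⟩, rfl⟩

theorem Enum.V_eq' {c : ℕ → M} {m : ℕ} {q : Fin m → ℕ} (h : Enum R c q) (k : Fin m) :
    (V c (q k) : Submodule R M) = span R ((fun i => c (q i)) '' Set.Iio k) := by
  rw [h.V_eq]
  congr 2
  ext i
  exact h.1.lt_iff_lt

theorem Enum.finrank_V {c : ℕ → M} {m : ℕ} {q : Fin m → ℕ} (h : Enum R c q) (j : ℕ) :
    Module.finrank R (V c j : Submodule R M) = Fintype.card {i // q i < j} := by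
  classical
  rw [h.V_eq]
  have h1 := h.linearIndependent
  have h2 : LinearIndependent R (fun i : {i // q i < j} => c (q i)) :=
    h1.comp (fun i : {i // q i < j} => (i : Fin m)) Subtype.val_injective
  rw [← finrank_span_eq_card h2]
  rw [Set.image_eq_range]
  rfl

theorem exists_enum [Module.Finite R M] (c : ℕ → M) (hc : span R (Set.range c) = ⊤) {m : ℕ}
    (hm : Module.finrank R M = m) : ∃ q : Fin m → ℕ, Enum R c q := by
  classical
  have h1 := linearIndependent_jumps (R := R) c
  have : Finite {i | IsJump R c i} := h1.finite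
  have hf : Set.Finite {i | IsJump R c i} := Set.toFinite _
  have hs : (⊤ : Submodule R M) ≤ span R (Set.range (fun i : {i | IsJump R c i} => c i)) := by
    rw [← hc, span_range_eq_span_jumps, Set.image_eq_range]
  let b := Module.Basis.mk h1 hs
  have hcard : hf.toFinset.card = m := by
    have := Fintype.ofFinite {i | IsJump R c i}
    rw [← hm, Module.finrank_eq_card_basis b, ← Set.toFinset_card]
    congr 1
    ext i
    simp
  refine ⟨hf.toFinset.orderEmbOfFin hcard, (hf.toFinset.orderEmbOfFin hcard).strictMono, fun j => ?_⟩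
  rw [Finset.range_orderEmbOfFin]
  simp

/-- Existence of the order sequence. -/
theorem exists_isOrders {n : ℕ} [Module.Finite R M] (hn : Module.finrank R M = n + 1) (c : ℕ → M)
    (hc : span R (Set.range c) = ⊤) (h0 : c 0 ≠ 0) :
    ∃ J : Fin n → ℕ, IsOrders R c J ∧ Enum R c (jmp J) := by
  obtain ⟨q, hq⟩ := exists_enum c hc hn
  have hq0 : q 0 = 0 := by
    obtain ⟨l, hl⟩ := (hq.2 0).1 ((isJump_zero_iff c).2 h0)
    have : q 0 ≤ q l := hq.1.monotone (Fin.zero_le _)
    omega
  have hpos : ∀ l : Fin n, 0 < q l.succ := fun l => by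
    have : q 0 < q l.succ := hq.1 (Fin.succ_pos l)
    omega
  have hqJ : jmp (fun l : Fin n => q l.succ - 1) = q := by
    funext l
    induction l using Fin.cases with
    | zero => rw [jmp_zero, hq0]
    | succ l => rw [jmp_succ]; have := hpos l; omega
  have : Enum R c (jmp (fun l : Fin n => q l.succ - 1)) := by rw [hqJ]; exact hq
  exact ⟨_, (enum_jmp_iff h0 _).1 this, this⟩

/-- The order sequence is unique. -/
theorem Enum.unique {c : ℕ → M} {m : ℕ} {q q' : Fin m → ℕ} (h : Enum R c q) (h' : Enum R c q') :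
    q = q' := by
  have : Set.range q = Set.range q' := by ext j; rw [← h.2, ← h'.2]
  exact (h.1.range_inj h'.1).1 this

end Seq

section Det

variable {R : Type*} [Field R] {m : ℕ}

/-- The matrix with columns `c (q k)`. -/
def colMat (c : ℕ → Fin m → R) (q : Fin m → ℕ) : Matrix (Fin m) (Fin m) R :=
  Matrix.of fun i k => c (q k) i

theorem det_ne_zero_iff (c : ℕ → Fin m → R) (q : Fin m → ℕ) :
    (colMat c q).det ≠ 0 ↔ LinearIndependent R (fun k => c (q k)) := by
  rw [← isUnit_iff_ne_zero, ← Matrix.isUnit_iff_isUnit_det,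
    ← Matrix.linearIndependent_cols_iff_isUnit]
  rfl

theorem Enum.det_ne_zero {c : ℕ → Fin m → R} {q : Fin m → ℕ} (h : Enum R c q) :
    (colMat c q).det ≠ 0 := (det_ne_zero_iff c q).2 h.linearIndependent

/-- Columns changed by a triangular transformation. -/
theorem Enum.det_of_triangular {c : ℕ → Fin m → R} {q : Fin m → ℕ} (h : Enum R c q)
    (c' : ℕ → Fin m → R) (a : Fin m → R)
    (ha : ∀ k, c' (q k) - a k • c (q k) ∈ (V c (q k) : Submodule R (Fin m → R))) :
    (colMat c' q).det = (∏ k, a k) * (colMat c q).det := by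
  classical
  have key : ∀ k, ∃ u : Fin m → R, (∀ i, k < i → u i = 0) ∧ u k = a k ∧
      c' (q k) = ∑ i, u i • c (q i) := by
    intro k
    have h1 := ha k
    rw [h.V_eq', ← Finset.coe_Iio, mem_span_image_finset_iff_exists_fun'] at h1
    obtain ⟨w, hw⟩ := h1
    refine ⟨fun i => (if i < k then w i else 0) + (if i = k then a k else 0), ?_, ?_, ?_⟩
    · intro i hi
      simp [not_lt_of_gt hi, hi.ne']
    · simp
    · have h2 : c' (q k) = (∑ i ∈ Finset.Iio k, w i • c (q i)) + a k • c (q k) := by
        rw [hw]; abel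
      rw [h2]
      simp_rw [add_smul, ite_smul, zero_smul]
      rw [Finset.sum_add_distrib, Finset.sum_ite_eq' Finset.univ k]
      simp only [Finset.mem_univ, if_true]
      congr 1
      rw [← Finset.sum_filter]
      refine Finset.sum_congr ?_ fun _ _ => rfl
      ext i; simp
  choose u hu1 hu2 hu3 using key
  have hmat : colMat c' q = colMat c q * Matrix.of fun i k => u k i := by
    ext i k
    rw [Matrix.mul_apply]
    simp only [colMat, Matrix.of_apply]
    rw [hu3 k, Finset.sum_apply]
    refine Finset.sum_congr rfl fun j _ => ?_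
    rw [Pi.smul_apply, smul_eq_mul, mul_comm]
  rw [hmat, Matrix.det_mul, Matrix.det_of_isUpperTriangular (M := Matrix.of fun i k => u k i), mul_comm]
  · congr 1
    refine Finset.prod_congr rfl fun k _ => ?_
    rw [Matrix.of_apply, hu2]
  · intro i j hij
    exact hu1 j i hij

/-- The jumps are the lexicographically, hence componentwise, least columns with nonzero
determinant. -/
theorem Enum.le_of_det_ne_zero {c : ℕ → Fin m → R} {q : Fin m → ℕ} (h : Enum R c q)
    {q' : Fin m → ℕ} (hq' : StrictMono q') (hdet : (colMat c q').det ≠ 0) (k : Fin m) :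
    q k ≤ q' k := by
  classical
  by_contra hlt
  rw [not_le] at hlt
  have h1 := (det_ne_zero_iff c q').1 hdet
  have h2 : LinearIndependent R (fun i : Set.Iic k => c (q' i)) :=
    h1.comp (fun i : Set.Iic k => (i : Fin m)) Subtype.val_injective
  have h3 : ∀ i : Set.Iic k, c (q' i) ∈ (V c (q k) : Submodule R (Fin m → R)) := fun i =>
    mem_V c ((hq'.monotone i.2).trans_lt hlt)
  have h4 : Fintype.card (Set.Iic k) ≤ Module.finrank R (V c (q k) : Submodule R (Fin m → R)) := by
    have h5 : LinearIndependent R (fun i : Set.Iic k => (⟨c (q' i), h3 i⟩ :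
        (V c (q k) : Submodule R (Fin m → R)))) :=
      LinearIndependent.of_comp (Submodule.subtype _) h2
    exact h5.fintype_card_le_finrank
  rw [h.finrank_V] at h4
  have h5 : Fintype.card {i // q i < q k} = (k : ℕ) := by
    have : Fintype.card {i // q i < q k} = Fintype.card {i // i < k} :=
      Fintype.card_congr (Equiv.subtypeEquivRight fun i => h.1.lt_iff_lt)
    rw [this, Fintype.card_subtype]
    have : (Finset.univ.filter fun i : Fin m => i < k) = Finset.Iio k := by ext; simp
    rw [this, Fin.card_Iio]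
  rw [h5] at h4
  have h6 : Fintype.card (Set.Iic k) = (k : ℕ) + 1 := by
    rw [← Set.toFinset_card]
    have : (Set.Iic k).toFinset = Finset.Iic k := by ext; simp
    rw [this, Fin.card_Iic]
  omega

end Det

section Wr

variable {k K : Type*} [Field k] [Field K] [Algebra k K]

theorem wrMat_eq {n : ℕ} (τ : K →ₐ[k] K) (H : K →ₐ[k] PowerSeries K) (φ : Fin (n + 1) → K)
    (I : Fin n → ℕ) : wrMat τ H φ I = colMat (hcol τ H φ) (jmp I) := by
  ext i c
  induction c using Fin.cases with
  | zero => rfl
  | succ c => rfl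

end Wr

end K668.Orders
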