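import Groth.Agent.FunFld.K668.Hasse

/-!
# Hasse families: Taylor expansions, iterativity, linear independence, change of variable
-/

set_option autoImplicit false

namespace K668.Hasse

open LocRes IntermediateField LaurentSeries

section Taylor

variable {k K R : Type*} [Field k] [Field K] [Algebra k K] [CommRing R] [IsDomain R]
  {s : K} {H : K →ₐ[k] PowerSeries K}

/-- Hasse derivatives commute with a homomorphism `ψ` into Laurent series sending constants to
constants and `s` to `X + constant`. -/
theorem map_hasseD [Algebra.IsSeparable (adjoin k ({s} : Set K)) K] (hH : IsHasseFamily s H)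
    (ψ : K →+* R⸨X⸩) (hk : ∀ c : k, ∃ r : R, ψ (algebraMap k K c) = HahnSeries.C r)
    (hs : ∃ r : R, ψ s = HahnSeries.C r + HahnSeries.single 1 1) (j : ℕ) (z : K) :
    ψ (hasseD H j z) = LaurentSeries.hasseDeriv R j (ψ z) := by
  have key : (PowerSeries.map ψ).comp (H : K →+* PowerSeries K) = Taylor.taylor.comp ψ := by
    refine eq_of_isSeparable (k := k) (s := s) _ _ ?_ ?_ ?_
    · intro c
      obtain ⟨r, hr⟩ := hk c
      simp only [RingHom.comp_apply, RingHom.coe_coe, AlgHom.commutes]
      rw [hr, Taylor.taylor_C, PowerSeries.algebraMap_apply, PowerSeries.map_C, hr]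
    · obtain ⟨r, hr⟩ := hs
      simp only [RingHom.comp_apply, RingHom.coe_coe]
      rw [hH.1, map_add, PowerSeries.map_C, PowerSeries.map_X, hr, map_add, map_add,
        Taylor.taylor_C, Taylor.taylor_X]
      ring
    · intro y
      simp only [RingHom.comp_apply, RingHom.coe_coe]
      rw [Taylor.constantCoeff_taylor, ← PowerSeries.coeff_zero_eq_constantCoeff_apply,
        PowerSeries.coeff_map, PowerSeries.coeff_zero_eq_constantCoeff_apply, hH.2]
  have h1 := congrArg (fun f : K →+* PowerSeries R⸨X⸩ => PowerSeries.coeff j (f z)) key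
  simp only [RingHom.comp_apply, RingHom.coe_coe] at h1
  rw [PowerSeries.coeff_map, Taylor.coeff_taylor] at h1
  exact h1

/-- Iterativity of the Hasse derivatives. -/
theorem hasseD_hasseD [Algebra.IsSeparable (adjoin k ({s} : Set K)) K] (hH : IsHasseFamily s H)
    (i j : ℕ) (z : K) : hasseD H i (hasseD H j z) = ((i + j).choose j : K) * hasseD H (i + j) z := by
  have h1 := map_hasseD (R := K) hH ((HahnSeries.ofPowerSeries ℤ K).comp (H : K →+* PowerSeries K))
    (fun c => ⟨algebraMap k K c, by
      simp only [RingHom.comp_apply, RingHom.coe_coe, AlgHom.commutes]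
      rw [PowerSeries.algebraMap_apply, HahnSeries.ofPowerSeries_C]⟩)
    ⟨s, by
      simp only [RingHom.comp_apply, RingHom.coe_coe]
      rw [hH.1, map_add, HahnSeries.ofPowerSeries_C, HahnSeries.ofPowerSeries_X]⟩ j z
  simp only [RingHom.comp_apply, RingHom.coe_coe] at h1
  have h2 := Taylor.hasseDeriv_coe j (H z)
  rw [h2] at h1
  have h3 := HahnSeries.ofPowerSeries_injective h1
  have h4 := congrArg (PowerSeries.coeff i) h3
  rw [PowerSeries.coeff_mk] at h4
  exact h4

end Taylor

section Basic

variable {k K : Type*} [Field k] [Field K] [Algebra k K] {s : K} {H : K →ₐ[k] PowerSeries K}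

theorem hasseD_mul (H : K →ₐ[k] PowerSeries K) (j : ℕ) (y z : K) :
    hasseD H j (y * z) = ∑ p ∈ Finset.HasAntidiagonal.antidiagonal j, hasseD H p.1 y * hasseD H p.2 z := by
  simp only [hasseD_apply]
  rw [map_mul, PowerSeries.coeff_mul]

theorem hasseD_zero' (hH : IsHasseFamily s H) (y : K) : hasseD H 0 y = y := by
  rw [hasseD_apply, PowerSeries.coeff_zero_eq_constantCoeff_apply, hH.2]

theorem hasseD_add (H : K →ₐ[k] PowerSeries K) (j : ℕ) (y z : K) :
    hasseD H j (y + z) = hasseD H j y + hasseD H j z := by
  simp only [hasseD_apply, map_add]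

theorem hasseD_smul (H : K →ₐ[k] PowerSeries K) (j : ℕ) (c : k) (z : K) :
    hasseD H j (c • z) = c • hasseD H j z := by
  simp only [hasseD_apply, map_smul]
  exact PowerSeries.coeff_smul _ _ _

/-- The Hasse derivative as a linear map. -/
noncomputable def hasseL (H : K →ₐ[k] PowerSeries K) (j : ℕ) : K →ₗ[k] K where
  toFun := hasseD H j
  map_add' := hasseD_add H j
  map_smul' := hasseD_smul H j

@[simp] theorem hasseL_apply (H : K →ₐ[k] PowerSeries K) (j : ℕ) (z : K) :
    hasseL H j z = hasseD H j z := rfl

theorem hasseD_sum {ι : Type*} (H : K →ₐ[k] PowerSeries K) (j : ℕ) (t : Finset ι) (f : ι → K) :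
    hasseD H j (∑ i ∈ t, f i) = ∑ i ∈ t, hasseD H j (f i) := map_sum (hasseL H j) f t

theorem hasseD_algebraMap (H : K →ₐ[k] PowerSeries K) (j : ℕ) (hj : j ≠ 0) (c : k) :
    hasseD H j (algebraMap k K c) = 0 := by
  rw [hasseD_apply, AlgHom.commutes, PowerSeries.algebraMap_apply, PowerSeries.coeff_C, if_neg hj]

theorem transcendental (hK : FunFld.IsFunctionField k K) (hH : IsHasseFamily s H) :
    Transcendental k s := by
  intro h
  obtain ⟨c, rfl⟩ := hK.2 s h
  have h1 := hH.1
  rw [AlgHom.commutes, PowerSeries.algebraMap_apply, left_eq_add] at h1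
  exact PowerSeries.X_ne_zero h1

/-- The constants of a Hasse family are the constants of the function field. -/
theorem mem_range_of_hasseD_eq_zero (hK : FunFld.IsFunctionField k K) (hH : IsHasseFamily s H)
    {z : K} (hz : ∀ j, j ≠ 0 → hasseD H j z = 0) : z ∈ Set.range (algebraMap k K) := by
  apply hK.2
  by_contra htr
  have halg := isAlgebraic_adjoin hK htr
  have hHz : H z = PowerSeries.C z := by
    ext j
    rw [PowerSeries.coeff_C]
    split_ifs with h
    · subst h; exact hasseD_zero' hH z
    · exact hz j h
  have hE : ∀ x ∈ adjoin k ({z} : Set K), H x = PowerSeries.C x := by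
    intro x hx
    induction hx using adjoin_induction with
    | mem x hx => rw [Set.mem_singleton_iff] at hx; rw [hx, hHz]
    | algebraMap x => rw [AlgHom.commutes, PowerSeries.algebraMap_apply]
    | add x y _ _ hx hy => rw [map_add, map_add, hx, hy]
    | inv x _ hx =>
      by_cases hx0 : x = 0
      · rw [hx0, inv_zero, map_zero, map_zero]
      · have h1 : H x * H x⁻¹ = 1 := by rw [← map_mul, mul_inv_cancel₀ hx0, map_one]
        have h2 : (PowerSeries.C x : PowerSeries K) * PowerSeries.C x⁻¹ = 1 := by
          rw [← map_mul, mul_inv_cancel₀ hx0, map_one]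
        calc H x⁻¹ = H x⁻¹ * (PowerSeries.C x * PowerSeries.C x⁻¹) := by rw [h2, mul_one]
          _ = (H x * H x⁻¹) * PowerSeries.C x⁻¹ := by rw [hx]; ring
          _ = PowerSeries.C x⁻¹ := by rw [h1, one_mul]
    | mul x y _ _ hx hy => rw [map_mul, map_mul, hx, hy]
  obtain ⟨p, hp0, hp⟩ := halg.isAlgebraic s
  let q : Polynomial K := p.map (algebraMap (adjoin k ({z} : Set K)) K)
  have hq0 : q ≠ 0 := (Polynomial.map_ne_zero_iff Subtype.val_injective).2 hp0
  have h1 : H (Polynomial.aeval s p) = 0 := by rw [hp, map_zero]
  have h2 : (H : K →+* PowerSeries K).comp (algebraMap (adjoin k ({z} : Set K)) K) =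
      (PowerSeries.C (R := K)).comp (algebraMap (adjoin k ({z} : Set K)) K) :=
    RingHom.ext fun x => hE x x.2
  have h3 : H (Polynomial.aeval s p) = q.eval₂ (PowerSeries.C (R := K)) (H s) := by
    rw [Polynomial.aeval_def]
    change (H : K →+* PowerSeries K) _ = _
    rw [Polynomial.hom_eval₂, h2, Polynomial.eval₂_map]
    rfl
  have h4 : q.eval₂ (PowerSeries.C (R := K)) (H s) =
      ((Polynomial.taylor s q : Polynomial K) : PowerSeries K) := by
    rw [hH.1, Polynomial.taylor_apply]
    have e1 : ((q.comp (Polynomial.X + Polynomial.C s) : Polynomial K) : PowerSeries K) =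
        Polynomial.coeToPowerSeries.ringHom (q.comp (Polynomial.X + Polynomial.C s)) := rfl
    rw [e1, Polynomial.comp, Polynomial.hom_eval₂]
    congr 1
    · refine RingHom.ext fun x => ?_
      simp
    · simp [add_comm]
  rw [h1] at h3
  rw [← h3] at h4
  have h5 : Polynomial.taylor s q = 0 := by
    have := h4.symm
    rwa [Polynomial.coe_eq_zero_iff] at this
  exact hq0 ((Polynomial.taylor_injective s) (by rw [h5, map_zero]))

/-- The relations between the columns of Hasse derivatives are stable under Hasse derivation. -/
theorem relation_stable [Algebra.IsSeparable (adjoin k ({s} : Set K)) K] (hH : IsHasseFamily s H)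
    {ι : Type*} (t : Finset ι) (φ y : ι → K)
    (h : ∀ j, ∑ i ∈ t, y i * hasseD H j (φ i) = 0) (m j : ℕ) :
    ∑ i ∈ t, hasseD H m (y i) * hasseD H j (φ i) = 0 := by
  induction m using Nat.strong_induction_on generalizing j with
  | _ m ih =>
    have h1 := congrArg (hasseD H m) (h j)
    rw [hasseD_sum] at h1
    simp_rw [hasseD_mul, hasseD_hasseD hH] at h1
    rw [Finset.sum_comm] at h1
    have h2 : hasseD H m (0 : K) = 0 := (hasseL H m).map_zero
    rw [h2] at h1
    have h3 : ∀ p ∈ Finset.HasAntidiagonal.antidiagonal m, p ≠ (m, 0) →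
        ∑ i ∈ t, hasseD H p.1 (y i) * (((p.2 + j).choose j : K) * hasseD H (p.2 + j) (φ i)) = 0 := by
      intro p hp hne
      rw [Finset.HasAntidiagonal.mem_antidiagonal] at hp
      have hlt : p.1 < m := by
        rcases Nat.lt_or_ge p.1 m with h | h
        · exact h
        · exfalso
          apply hne
          ext
          · change p.1 = m; omega
          · change p.2 = 0; omega
      have h4 := ih p.1 hlt (p.2 + j)
      have h5 : ∀ i, hasseD H p.1 (y i) * (((p.2 + j).choose j : K) * hasseD H (p.2 + j) (φ i)) =
          ((p.2 + j).choose j : K) * (hasseD H p.1 (y i) * hasseD H (p.2 + j) (φ i)) := fun i => by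
        ring
      simp_rw [h5]
      rw [← Finset.mul_sum, h4, mul_zero]
    rw [Finset.sum_eq_single (m, 0) h3] at h1
    · simpa using h1
    · intro h4
      exact absurd (Finset.HasAntidiagonal.mem_antidiagonal.2 (by simp)) h4

/-- Functions that are linearly independent over the constants have linearly independent
Hasse expansions. -/
theorem linearIndependent_H [Algebra.IsSeparable (adjoin k ({s} : Set K)) K]
    (hK : FunFld.IsFunctionField k K) (hH : IsHasseFamily s H) {ι : Type*} (φ : ι → K)
    (hφ : LinearIndependent k φ) : LinearIndependent K (fun i => fun j : ℕ => hasseD H j (φ i)) := by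
  classical
  rw [linearIndependent_iff']
  intro t
  induction t using Finset.induction_on with
  | empty => simp
  | insert a t hat ih =>
    intro y hy
    have hrel : ∀ j, ∑ i ∈ insert a t, y i * hasseD H j (φ i) = 0 := fun j => by
      have := congrFun hy j
      rw [Finset.sum_apply] at this
      exact this
    by_cases hya : y a = 0
    · rw [Finset.sum_insert hat, hya, zero_smul, zero_add] at hy
      have := ih y hy
      intro i hi
      rcases Finset.mem_insert.1 hi with rfl | hi
      · exact hya
      · exact this i hi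
    · exfalso
      -- normalise `y a = 1`
      let z : ι → K := fun i => (y a)⁻¹ * y i
      have hza : z a = 1 := inv_mul_cancel₀ hya
      have hzrel : ∀ j, ∑ i ∈ insert a t, z i * hasseD H j (φ i) = 0 := fun j => by
        have : ∀ i, z i * hasseD H j (φ i) = (y a)⁻¹ * (y i * hasseD H j (φ i)) := fun i =>
          mul_assoc _ _ _
        simp_rw [this]
        rw [← Finset.mul_sum, hrel, mul_zero]
      have hconst : ∀ i ∈ insert a t, ∀ m, m ≠ 0 → hasseD H m (z i) = 0 := by
        have h1 : ∀ m, m ≠ 0 → hasseD H m (z a) = 0 := fun m hm => by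
          rw [hza, ← map_one (algebraMap k K)]
          exact hasseD_algebraMap H m hm 1
        intro i hi m hm
        rcases Finset.mem_insert.1 hi with rfl | hi
        · exact h1 m hm
        · refine ih (fun i => hasseD H m (z i)) ?_ i hi
          funext j
          rw [Finset.sum_apply]
          have h2 := relation_stable hH (insert a t) φ z hzrel m j
          rw [Finset.sum_insert hat, h1 m hm, zero_mul, zero_add] at h2
          exact h2
      have hc : ∀ i ∈ insert a t, ∃ c : k, algebraMap k K c = z i := fun i hi =>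
        mem_range_of_hasseD_eq_zero hK hH (hconst i hi)
      choose! c hc using hc
      have h0 := hzrel 0
      have h2 : ∑ i ∈ insert a t, c i • φ i = 0 := by
        rw [← h0]
        refine Finset.sum_congr rfl fun i hi => ?_
        rw [hasseD_zero' hH, Algebra.smul_def, hc i hi]
      rw [linearIndependent_iff'] at hφ
      have h3 := hφ (insert a t) c h2 a (Finset.mem_insert_self _ _)
      have h4 := hc a (Finset.mem_insert_self _ _)
      rw [h3, map_zero, hza] at h4
      exact zero_ne_one h4

end Basic

end K668.Hasse
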