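import Groth.Agent.FunFld.K668.OrdersCons
import Groth.Agent.FunFld.K668.HasseIter

/-!
# Hasse families: change of variable
-/

set_option autoImplicit false

namespace K668.Hasse

open LocRes IntermediateField

section Coeff

variable {R : Type*} [CommRing R]

theorem coeff_pow_eq_zero {a : PowerSeries R} (ha : PowerSeries.constantCoeff a = 0) {i j : ℕ}
    (h : j < i) : PowerSeries.coeff j (a ^ i) = 0 := by
  have h1 : (PowerSeries.X : PowerSeries R) ∣ a := PowerSeries.X_dvd_iff.2 ha
  exact PowerSeries.X_pow_dvd_iff.1 (pow_dvd_pow_of_dvd h1 i) j h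

theorem coeff_pow_self {a : PowerSeries R} (ha : PowerSeries.constantCoeff a = 0) (i : ℕ) :
    PowerSeries.coeff i (a ^ i) = PowerSeries.coeff 1 a ^ i := by
  obtain ⟨b, rfl⟩ := PowerSeries.X_dvd_iff.2 ha
  rw [mul_pow]
  have h1 := PowerSeries.coeff_X_pow_mul (b ^ i) i 0
  rw [zero_add] at h1
  rw [h1]
  have h2 := PowerSeries.coeff_succ_X_mul 0 b
  rw [zero_add] at h2
  rw [h2, PowerSeries.coeff_zero_eq_constantCoeff_apply, map_pow,
    PowerSeries.coeff_zero_eq_constantCoeff_apply]

theorem coeff_subst_eq_sum {a : PowerSeries R} (ha : PowerSeries.constantCoeff a = 0)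
    (f : PowerSeries R) (j : ℕ) :
    PowerSeries.coeff j (PowerSeries.subst a f) =
      ∑ i ∈ Finset.range (j + 1), PowerSeries.coeff i f * PowerSeries.coeff j (a ^ i) := by
  rw [PowerSeries.coeff_subst' (PowerSeries.HasSubst.of_constantCoeff_zero' ha)]
  rw [finsum_eq_sum_of_support_subset (s := Finset.range (j + 1))]
  · rfl
  · intro i hi
    rw [Finset.coe_range, Set.mem_Iio]
    by_contra h
    apply hi
    change PowerSeries.coeff i f • PowerSeries.coeff j (a ^ i) = 0
    rw [coeff_pow_eq_zero ha (by omega), smul_zero]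

end Coeff

variable {k K : Type*} [Field k] [Field K] [Algebra k K] {s t : K}
  {Hs Ht : K →ₐ[k] PowerSeries K}

theorem constantCoeff_sub_C (hHt : IsHasseFamily t Ht) (s : K) :
    PowerSeries.constantCoeff (Ht s - PowerSeries.C s) = 0 := by
  rw [map_sub, hHt.2, PowerSeries.constantCoeff_C, sub_self]

/-- Hasse derivatives with respect to `t` in terms of those with respect to `s`. -/
theorem hasseD_change [Algebra.IsSeparable (adjoin k ({s} : Set K)) K] (hHs : IsHasseFamily s Hs)
    (hHt : IsHasseFamily t Ht) (j : ℕ) (z : K) :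
    hasseD Ht j z = ∑ i ∈ Finset.range (j + 1),
      hasseD Hs i z * PowerSeries.coeff j ((Ht s - PowerSeries.C s) ^ i) := by
  have ha := constantCoeff_sub_C hHt s
  have hsub := PowerSeries.HasSubst.of_constantCoeff_zero' ha
  have hC : ∀ c : K, (PowerSeries.substAlgHom (R := K) hsub : PowerSeries K →ₐ[K] PowerSeries K)
      (PowerSeries.C c) = PowerSeries.C c := fun c => by
    have := (PowerSeries.substAlgHom (R := K) hsub : PowerSeries K →ₐ[K] PowerSeries K).commutes c
    rwa [PowerSeries.algebraMap_apply] at this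
  have key : (Ht : K →+* PowerSeries K) =
      ((PowerSeries.substAlgHom (R := K) hsub : PowerSeries K →ₐ[K] PowerSeries K) :
        PowerSeries K →+* PowerSeries K).comp (Hs : K →+* PowerSeries K) := by
    refine eq_of_isSeparable (k := k) (s := s) _ _ ?_ ?_ ?_
    · intro c
      simp only [RingHom.comp_apply, RingHom.coe_coe, AlgHom.commutes]
      rw [PowerSeries.algebraMap_apply]
      exact (hC _).symm
    · simp only [RingHom.comp_apply, RingHom.coe_coe]
      rw [hHs.1, map_add]
      have : (PowerSeries.substAlgHom (R := K) hsub) PowerSeries.X = Ht s - PowerSeries.C s :=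
        PowerSeries.substAlgHom_X hsub
      rw [this]
      refine Eq.trans ?_ (congrArg (· + (Ht s - PowerSeries.C s)) (hC s).symm)
      ring
    · intro y
      simp only [RingHom.comp_apply, RingHom.coe_coe]
      rw [hHt.2, PowerSeries.coe_substAlgHom, ← PowerSeries.coeff_zero_eq_constantCoeff_apply,
        coeff_subst_eq_sum ha]
      simp [hHs.2]
  have h1 := congrArg (fun f : K →+* PowerSeries K => PowerSeries.coeff j (f z)) key
  simp only [RingHom.comp_apply, RingHom.coe_coe] at h1
  rw [PowerSeries.coe_substAlgHom, coeff_subst_eq_sum ha] at h1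
  exact h1

/-- The first derivatives are inverse to each other. -/
theorem hasseD_one_mul [Algebra.IsSeparable (adjoin k ({s} : Set K)) K] (hHs : IsHasseFamily s Hs)
    (hHt : IsHasseFamily t Ht) : hasseD Hs 1 t * hasseD Ht 1 s = 1 := by
  have h1 := hasseD_change hHs hHt 1 t
  have h2 : hasseD Ht 1 t = 1 := by
    rw [hasseD_apply, hHt.1, map_add, PowerSeries.coeff_C, PowerSeries.coeff_X]
    simp
  rw [h2, Finset.sum_range_succ, Finset.sum_range_one, pow_zero, pow_one, map_sub,
    PowerSeries.coeff_C, PowerSeries.coeff_one] at h1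
  simp at h1
  rw [hasseD_apply, hasseD_apply]
  exact h1.symm

theorem hasseD_one_ne_zero [Algebra.IsSeparable (adjoin k ({s} : Set K)) K] (hHs : IsHasseFamily s Hs)
    (hHt : IsHasseFamily t Ht) : hasseD Ht 1 s ≠ 0 := fun h => by
  have := hasseD_one_mul hHs hHt
  rw [h, mul_zero] at this
  exact zero_ne_one this

/-- Change of variable modulo lower derivatives. -/
theorem hasseD_change' [Algebra.IsSeparable (adjoin k ({s} : Set K)) K] (hHs : IsHasseFamily s Hs)
    (hHt : IsHasseFamily t Ht) (j : ℕ) (z : K) :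
    hasseD Ht j z = hasseD Ht 1 s ^ j * hasseD Hs j z + ∑ i ∈ Finset.range j,
      PowerSeries.coeff j ((Ht s - PowerSeries.C s) ^ i) * hasseD Hs i z := by
  rw [hasseD_change hHs hHt, Finset.sum_range_succ, coeff_pow_self (constantCoeff_sub_C hHt s),
    add_comm, map_sub, PowerSeries.coeff_C, mul_comm]
  simp only [hasseD_apply]
  simp [mul_comm]

theorem hcol_change [Algebra.IsSeparable (adjoin k ({s} : Set K)) K] (hHs : IsHasseFamily s Hs)
    (hHt : IsHasseFamily t Ht) {ι : Type*} (φ : ι → K) (τ : K →ₐ[k] K) (j : ℕ) :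
    FunFld.hcol τ Ht φ j - (if j = 0 then 1 else hasseD Ht 1 s ^ (j - 1)) • FunFld.hcol τ Hs φ j ∈
      (K668.Orders.V (FunFld.hcol τ Hs φ) j : Submodule K (ι → K)) := by
  cases j with
  | zero =>
    have : FunFld.hcol τ Ht φ 0 - (if (0 : ℕ) = 0 then 1 else hasseD Ht 1 s ^ (0 - 1)) •
        FunFld.hcol τ Hs φ 0 = 0 := by
      rw [if_pos rfl, one_smul]
      exact sub_self _
    rw [this]
    exact zero_mem _
  | succ j =>
    have : FunFld.hcol τ Ht φ (j + 1) - (if (j + 1 : ℕ) = 0 then 1 else hasseD Ht 1 s ^ (j + 1 - 1)) •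
        FunFld.hcol τ Hs φ (j + 1) = ∑ i ∈ Finset.range j,
          PowerSeries.coeff j ((Ht s - PowerSeries.C s) ^ i) • FunFld.hcol τ Hs φ (i + 1) := by
      rw [if_neg (Nat.succ_ne_zero j), Nat.add_sub_cancel]
      funext i
      rw [Finset.sum_apply]
      change hasseD Ht j (φ i) - hasseD Ht 1 s ^ j * hasseD Hs j (φ i) = _
      rw [hasseD_change' hHs hHt j (φ i), add_sub_cancel_left]
      rfl
    rw [this]
    refine sum_mem fun i hi => Submodule.smul_mem _ _ (K668.Orders.mem_V _ ?_)
    rw [Finset.mem_range] at hi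
    omega

theorem V_hcol_change [Algebra.IsSeparable (adjoin k ({s} : Set K)) K] (hHs : IsHasseFamily s Hs)
    (hHt : IsHasseFamily t Ht) {ι : Type*} (φ : ι → K) (τ : K →ₐ[k] K) (j : ℕ) :
    (K668.Orders.V (FunFld.hcol τ Ht φ) j : Submodule K (ι → K)) =
      K668.Orders.V (FunFld.hcol τ Hs φ) j :=
  K668.Orders.V_eq_of_triangular (fun j => ⟨_, by
    split_ifs
    · exact one_ne_zero
    · exact pow_ne_zero _ (hasseD_one_ne_zero hHs hHt), hcol_change hHs hHt φ τ j⟩) j

end K668.Hasse
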