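import Groth.Agent.FunFld.K668.OrdersCons
import Groth.Agent.FunFld.K668.HasseIter

/-!
# Rank of the matrix of Hasse derivatives
-/

set_option autoImplicit false

namespace K668.Orders

open FunFld Submodule

/-- If the rows are linearly independent the columns span. -/
theorem span_eq_top_of_rows {R : Type*} [Field R] {m : ℕ} {κ : Type*} (D : κ → Fin m → R)
    (h : LinearIndependent R (fun i : Fin m => fun j : κ => D j i)) :
    (span R (Set.range D) : Submodule R (Fin m → R)) = ⊤ := by
  classical
  by_contra hne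
  obtain ⟨f, hf0, hf⟩ := Submodule.exists_le_ker_of_lt_top _ (lt_top_iff_ne_top.2 hne)
  apply hf0
  have hfe : ∀ v : Fin m → R, f v = ∑ i, f (Pi.single i 1) * v i := fun v => by
    conv_lhs => rw [← Finset.univ_sum_single v]
    rw [map_sum]
    refine Finset.sum_congr rfl fun i _ => ?_
    have : (Pi.single i (v i) : Fin m → R) = v i • Pi.single i 1 := by
      rw [← Pi.single_smul', smul_eq_mul, mul_one]
    rw [this, map_smul, smul_eq_mul, mul_comm]
  have h1 : ∀ j, f (D j) = 0 := fun j => hf (subset_span ⟨j, rfl⟩)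
  rw [Fintype.linearIndependent_iff] at h
  have h2 := h (fun i => f (Pi.single i 1)) (by
    funext j
    rw [Finset.sum_apply]
    have := h1 j
    rw [hfe] at this
    exact this)
  ext v
  simp [h2]

variable {k K : Type*} [Field k] [PerfectField k] [Field K] [Algebra k K]

theorem span_hcol_eq_top (hK : FunFld.IsFunctionField k K) {n : ℕ} (φ : Fin (n + 1) → K)
    (hφ : LinearIndependent k φ) (τ : K →ₐ[k] K) {s : K} {H : K →ₐ[k] PowerSeries K}
    (hH : LocRes.IsHasseFamily s H) :
    (span K (Set.range (hcol τ H φ)) : Submodule K (Fin (n + 1) → K)) = ⊤ := by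
  have hsep := Hasse.isSeparable hK hH
  rw [eq_top_iff, ← span_eq_top_of_rows (dcol H φ) (Hasse.linearIndependent_H hK hH φ hφ)]
  refine span_mono ?_
  rintro _ ⟨j, rfl⟩
  exact ⟨j + 1, rfl⟩

theorem exists_enum_hcol (hK : FunFld.IsFunctionField k K) {n : ℕ} (φ : Fin (n + 1) → K)
    (hφ : LinearIndependent k φ) (τ : K →ₐ[k] K) {s : K} {H : K →ₐ[k] PowerSeries K}
    (hH : LocRes.IsHasseFamily s H) :
    ∃ J : Fin n → ℕ, IsOrders K (hcol τ H φ) J ∧ Enum K (hcol τ H φ) (jmp J) := by
  refine exists_isOrders (by simp) _ (span_hcol_eq_top hK φ hφ τ hH) fun h => ?_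
  have : τ (φ 0) = 0 := congrFun h 0
  rw [map_eq_zero] at this
  exact hφ.ne_zero 0 this

end K668.Orders
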