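import Groth.Agent.FunFld.K668.WrLocal
import Groth.Agent.S12597
import Groth.Agent.S12601

/-!
# The orders at a strong fixed point
-/

set_option autoImplicit false

namespace K668.Loc

open FunFld LocRes LaurentSeries WithZero IntermediateField K668.Orders

variable {k K : Type*} [Field k] [Field K] [Algebra k K]
variable {P : Place k K} {t : K} {ψ : K →ₐ[k] k⸨X⸩} {Ht : K →ₐ[k] PowerSeries K}

theorem IsExp.coeff_zpow_mul (h : IsExp P t ψ) (m : ℤ) (z : K) (i : ℤ) :
    (ψ (t ^ m * z)).coeff i = (ψ z).coeff (i - m) := by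
  rw [map_mul, map_zpow₀, h.map_t, ← RatFunc.single_zpow, HahnSeries.coeff_single_mul, one_mul]

/-- The generalized Wronskian of `t⁻ᵐ φ'` at the indices `J' l - m`, `m = J' 0`, is nonzero at a
strong fixed point. -/
theorem IsExp.det_wrMat_ne_zero [IsAlgClosed k] (hK : IsFunctionField k K) (h : IsExp P t ψ)
    [Algebra.IsSeparable (adjoin k ({t} : Set K)) K]
    (hHt : IsHasseFamily t Ht) {n : ℕ} (hn : 0 < n) {τ : K →ₐ[k] K} (hP : IsStrongFixedPt τ P)
    (φ : Fin (n + 1) → K) (J' : Fin n → ℕ) (hJ' : StrictMono J') (hpos : ∀ l, 0 < J' l)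
    (hlow : ∀ r, ∀ i < (cz J' r : ℤ), (ψ (φ r)).coeff i = 0)
    (h1 : ∀ r, (ψ (φ r)).coeff (cz J' r) = 1) :
    (wrMat τ Ht ((t ^ (-(J' ⟨0, hn⟩ : ℤ))) • φ) (fun l => J' l - J' ⟨0, hn⟩)).det ≠ 0 := by
  classical
  set m : ℕ := J' ⟨0, hn⟩ with hm
  have hmle : ∀ l, m ≤ J' l := fun l => hJ'.monotone (Fin.mk_le_of_le_val (Nat.zero_le _))
  have hFix := IsStrongFixedPt.isFixedPt hP
  have ht0 : t ≠ 0 := K660.Ord.ne_zero_of_val P h.val_t
  have hτt0 : τ t ≠ 0 := by rw [Ne, map_eq_zero]; exact ht0
  set e : ℤ := P.ord (τ t) with he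
  have hvτt : P.1 (τ t) = exp (-e) := K660.Ord.val_eq_exp P hτt0
  have hval : ∀ r, P.1 (φ r) ≤ exp (-(cz J' r : ℤ)) := fun r => h.le_iff.2 (hlow r)
  have hv0 : P.1 (τ (φ 0)) = 1 := by
    have h2 : P.1 (φ 0) ≤ 1 := by simpa using hval 0
    have h3 : (ψ (τ (φ 0))).coeff 0 = 1 := by
      rw [h.coeff_zero_map hFix h2]; exact h1 0
    have h4 := h.le_one_iff.1 (val_map_le_one hK hFix h2)
    have := (h.eq_iff (z := τ (φ 0)) (D := 0) h4).2 (by rw [h3]; exact one_ne_zero)
    simpa using this
  have hτval : ∀ r : Fin n, P.1 (τ (φ r.succ)) ≤ exp (-((2 * J' r : ℕ) : ℤ)) := fun r =>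
    val_map_le_strong hK hP h.val_t (hval r.succ)
  -- the leading coefficients
  let w : Fin (n + 1) → ℤ := fun r => (cz J' r : ℤ) - m
  let v : Fin (n + 1) → ℤ := Fin.cons (m * e - m) (fun l => ((J' l - m : ℕ) : ℤ))
  let α : k := (ψ (τ (t ^ (-(m : ℤ)) * φ 0))).coeff (-(m * e))
  let N : Matrix (Fin (n + 1)) (Fin (n + 1)) k := Matrix.of fun r c =>
    Fin.cases (motive := fun _ => k) (if r = 0 then α else 0)
      (fun l => ((Ring.choose (w r) (J' l - m) : ℤ) : k)) c
  have hval0 : P.1 (τ (t ^ (-(m : ℤ)) * φ 0)) = exp (-(-(m * e))) := by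
    rw [map_mul, map_mul, hv0, mul_one, map_zpow₀, map_zpow₀, hvτt, ← exp_zsmul, smul_eq_mul]
    congr 1
    ring
  have hα : α ≠ 0 := by
    have h2 := h.le_iff.1 hval0.le
    exact (h.eq_iff h2).1 hval0
  have key := DetLead.det_leading
    ((wrMat τ Ht ((t ^ (-(m : ℤ))) • φ) (fun l => J' l - m)).map ψ) w v N ?_ ?_
  · have hN : N.det ≠ 0 := by
      rw [Matrix.det_succ_column_zero, Fin.sum_univ_succ]
      have h2 : ∀ i : Fin n, N i.succ 0 = 0 := fun i => by
        change (if i.succ = 0 then α else 0) = 0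
        rw [if_neg (Fin.succ_ne_zero i)]
      have h3 : N 0 0 = α := by
        change (if (0 : Fin (n + 1)) = 0 then α else 0) = α
        rw [if_pos rfl]
      simp only [h2, mul_zero, zero_mul, Finset.sum_const_zero, add_zero, h3]
      have h4 : (N.submatrix (Fin.succAbove 0) Fin.succ).det = 1 := by
        have hentry : ∀ r l, (N.submatrix (Fin.succAbove 0) Fin.succ) r l =
            (((J' r - m).choose (J' l - m) : ℕ) : k) := fun r l => by
          change ((Ring.choose (w r.succ) (J' l - m) : ℤ) : k) = _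
          have : w r.succ = ((J' r - m : ℕ) : ℤ) := by
            have := hmle r
            change (J' r : ℤ) - m = _
            push_cast [this]
            ring
          rw [this, Ring.choose_natCast]
          simp
        rw [Matrix.det_of_isLowerTriangular]
        · refine Finset.prod_eq_one fun r _ => ?_
          rw [hentry, Nat.choose_self, Nat.cast_one]
        · intro r l hrl
          rw [hentry, Nat.choose_eq_zero_of_lt, Nat.cast_zero]
          have h5 : r < l := hrl
          have h6 := hJ' h5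
          have h7 := hmle r
          omega
      rw [h4]
      simpa using hα
    intro hzero
    have h2 : ((wrMat τ Ht ((t ^ (-(m : ℤ))) • φ) (fun l => J' l - m)).map ψ).det = 0 := by
      have := AlgHom.map_det ψ (wrMat τ Ht ((t ^ (-(m : ℤ))) • φ) (fun l => J' l - m))
      rw [hzero, map_zero] at this
      exact this.symm
    rw [h2] at key
    apply hN
    rw [← key.2, HahnSeries.coeff_zero]
  · intro r c i hi
    induction c using Fin.cases with
    | zero =>
      change (ψ (τ (t ^ (-(m : ℤ)) * φ r))).coeff i = 0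
      change i < (cz J' r : ℤ) - m - (m * e - m) at hi
      induction r using Fin.cases with
      | zero =>
        rw [cz_zero] at hi
        exact h.le_iff.1 hval0.le i (by push_cast at hi; linarith)
      | succ r =>
        rw [cz_succ] at hi
        have h2 : P.1 (τ (t ^ (-(m : ℤ)) * φ r.succ)) ≤ exp (-(2 * J' r - m * e : ℤ)) := by
          rw [map_mul, map_mul, map_zpow₀, map_zpow₀, hvτt, ← exp_zsmul]
          refine (mul_le_mul' le_rfl (hτval r)).trans_eq ?_
          rw [← exp_add]
          congr 1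
          rw [smul_eq_mul]
          push_cast
          ring
        exact h.le_iff.1 h2 i (by linarith)
    | succ l =>
      change (ψ (hasseD Ht (J' l - m) (t ^ (-(m : ℤ)) * φ r))).coeff i = 0
      change i < (cz J' r : ℤ) - m - ((J' l - m : ℕ) : ℤ) at hi
      rw [h.coeff_hasseD hHt, h.coeff_zpow_mul, hlow r _ (by linarith), smul_zero]
  · intro r c
    induction c using Fin.cases with
    | zero =>
      change (ψ (τ (t ^ (-(m : ℤ)) * φ r))).coeff ((cz J' r : ℤ) - m - (m * e - m)) = if r = 0 then α else 0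
      induction r using Fin.cases with
      | zero =>
        rw [if_pos rfl, cz_zero]
        congr 1
        push_cast
        ring
      | succ r =>
        rw [if_neg (Fin.succ_ne_zero r), cz_succ]
        have h2 : P.1 (τ (t ^ (-(m : ℤ)) * φ r.succ)) ≤ exp (-(2 * J' r - m * e : ℤ)) := by
          rw [map_mul, map_mul, map_zpow₀, map_zpow₀, hvτt, ← exp_zsmul]
          refine (mul_le_mul' le_rfl (hτval r)).trans_eq ?_
          rw [← exp_add]
          congr 1
          rw [smul_eq_mul]
          push_cast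
          ring
        refine h.le_iff.1 h2 _ ?_
        have := hpos r
        have : (0 : ℤ) < J' r := by exact_mod_cast this
        linarith
    | succ l =>
      change (ψ (hasseD Ht (J' l - m) (t ^ (-(m : ℤ)) * φ r))).coeff
        ((cz J' r : ℤ) - m - ((J' l - m : ℕ) : ℤ)) = ((Ring.choose (w r) (J' l - m) : ℤ) : k)
      rw [h.coeff_hasseD hHt, sub_add_cancel, h.coeff_zpow_mul]
      have : (cz J' r : ℤ) - m - -(m : ℤ) = cz J' r := by ring
      rw [this, h1 r]
      simp [w]

end K668.Loc

namespace K668.Loc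

theorem linearIndependent_matrix {k K : Type*} [Field k] [AddCommGroup K] [Module k K] {m : ℕ}
    {φ : Fin m → K} (hφ : LinearIndependent k φ) {B : Matrix (Fin m) (Fin m) k} (hB : B.det ≠ 0) :
    LinearIndependent k (fun r => ∑ s, B r s • φ s) := by
  rw [Fintype.linearIndependent_iff] at hφ ⊢
  intro g hg
  have h1 : ∑ s, (∑ r, g r * B r s) • φ s = 0 := by
    rw [← hg]
    simp_rw [Finset.sum_smul, Finset.smul_sum, smul_smul]
    rw [Finset.sum_comm]
  have h2 : Matrix.vecMul g B = 0 := by
    funext s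
    exact hφ _ h1 s
  exact congrFun (Matrix.eq_zero_of_vecMul_eq_zero hB h2)

end K668.Loc
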