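import Groth.Agent.FunFld.K660.Places
import Groth.Agent.FunFld.K660.Compare
import Mathlib.RingTheory.Flat.Basic
import Mathlib.Algebra.Polynomial.Basis
import Mathlib.FieldTheory.IsAlgClosed.AlgebraicClosure

/-!
# Constant field extensions `K' = k' ⊗_k K` (of any degree)
-/

set_option autoImplicit false

namespace K668.ConstExt

open FunFld TensorProduct

section

variable {k k' K K' : Type*} [Field k] [Field k'] [Field K] [Field K'] [Algebra k k']
  [Algebra k K] [Algebra K K'] [Algebra k' K'] [Algebra k K'] [IsScalarTower k k' K']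
  [IsScalarTower k K K']

/-- The comparison map `k' ⊗ K → K'`. -/
noncomputable abbrev pm (k k' K K' : Type*) [Field k] [Field k'] [Field K] [Field K'] [Algebra k k']
    [Algebra k K] [Algebra K K'] [Algebra k' K'] [Algebra k K'] [IsScalarTower k k' K']
    [IsScalarTower k K K'] : k' ⊗[k] K →ₐ[k] K' :=
  Algebra.TensorProduct.productMap (IsScalarTower.toAlgHom k k' K') (IsScalarTower.toAlgHom k K K')

theorem pm_tmul (c : k') (x : K) : pm k k' K K' (c ⊗ₜ x) = algebraMap k' K' c * algebraMap K K' x := by
  rw [Algebra.TensorProduct.productMap_apply_tmul]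
  rfl

variable (h : Function.Bijective (pm k k' K K'))

include h

theorem linearIndependent_map {ι : Type*} {v : ι → K} (hv : LinearIndependent k v) :
    LinearIndependent k' (fun i => algebraMap K K' (v i)) := by
  have h1 : LinearIndependent k' (fun i => (1 : k') ⊗ₜ[k] v i) := Module.Flat.linearIndependent_one_tmul hv
  rw [linearIndependent_iff'] at h1 ⊢
  intro s g hg i hi
  refine h1 s g ?_ i hi
  apply h.1
  rw [map_zero, map_sum, ← hg]
  refine Finset.sum_congr rfl fun i _ => ?_
  rw [smul_tmul', smul_eq_mul, mul_one, pm_tmul, Algebra.smul_def]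

theorem transcendental_map {x : K} (hx : Transcendental k x) : Transcendental k' (algebraMap K K' x) := by
  have h1 : LinearIndependent k (fun n : ℕ => x ^ n) := by
    have := (Polynomial.basisMonomials k).linearIndependent.map' (Polynomial.aeval x).toLinearMap
      (LinearMap.ker_eq_bot.2 (transcendental_iff_injective.1 hx))
    have e : (fun n : ℕ => x ^ n) =
        ⇑(Polynomial.aeval x).toLinearMap ∘ ⇑(Polynomial.basisMonomials k) := by
      funext n
      simp
    rw [e]
    exact this
  have h2 := linearIndependent_map h h1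
  rw [transcendental_iff]
  intro p hp
  rw [Polynomial.aeval_eq_sum_range] at hp
  rw [linearIndependent_iff'] at h2
  have h3 := h2 (Finset.range (p.natDegree + 1)) (fun n => p.coeff n) (by
    simpa [map_pow] using hp)
  ext n
  rw [Polynomial.coeff_zero]
  by_cases hn : n ∈ Finset.range (p.natDegree + 1)
  · exact h3 n hn
  · rw [Finset.mem_range, not_lt] at hn
    exact Polynomial.coeff_eq_zero_of_natDegree_lt (by omega)

omit h in
theorem algebraMap_mem_adjoin {x : K} {a : K} (ha : a ∈ IntermediateField.adjoin k ({x} : Set K)) :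
    algebraMap K K' a ∈ IntermediateField.adjoin k' ({algebraMap K K' x} : Set K') := by
  induction ha using IntermediateField.adjoin_induction with
  | mem x hx =>
    rw [Set.mem_singleton_iff] at hx
    rw [hx]
    exact IntermediateField.subset_adjoin _ _ rfl
  | algebraMap x =>
    rw [← IsScalarTower.algebraMap_apply k K K', IsScalarTower.algebraMap_apply k k' K']
    exact IntermediateField.algebraMap_mem _ _
  | add x y _ _ hx hy => rw [map_add]; exact add_mem hx hy
  | inv x _ hx => rw [map_inv₀]; exact inv_mem hx
  | mul x y _ _ hx hy => rw [map_mul]; exact mul_mem hx hy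

theorem finiteDimensional_adjoin {x : K}
    (hfin : FiniteDimensional (IntermediateField.adjoin k ({x} : Set K)) K) :
    FiniteDimensional (IntermediateField.adjoin k' ({algebraMap K K' x} : Set K')) K' := by
  obtain ⟨S, hS⟩ := hfin.fg_top
  refine ⟨⟨S.map ⟨algebraMap K K', (algebraMap K K').injective⟩, ?_⟩⟩
  rw [eq_top_iff]
  rintro z -
  obtain ⟨w, rfl⟩ := h.2 z
  induction w with
  | zero => rw [map_zero]; exact zero_mem _
  | add a b ha hb => rw [map_add]; exact add_mem ha hb
  | tmul c a =>
    rw [pm_tmul]
    have hc : algebraMap k' K' c * algebraMap K K' a =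
        (⟨algebraMap k' K' c, IntermediateField.algebraMap_mem _ _⟩ :
          IntermediateField.adjoin k' ({algebraMap K K' x} : Set K')) • algebraMap K K' a := rfl
    rw [hc]
    clear hc
    refine Submodule.smul_mem _ _ ?_
    have ha : a ∈ Submodule.span (IntermediateField.adjoin k ({x} : Set K)) (S : Set K) := by
      rw [hS]; exact Submodule.mem_top
    induction ha using Submodule.span_induction with
    | mem a ha =>
      refine Submodule.subset_span ?_
      rw [Finset.mem_coe, Finset.mem_map]
      exact ⟨a, ha, rfl⟩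
    | zero => rw [map_zero]; exact zero_mem _
    | add a b _ _ ha hb => rw [map_add]; exact add_mem ha hb
    | smul r a _ ha =>
      have : algebraMap K K' (r • a) = (⟨algebraMap K K' r, algebraMap_mem_adjoin r.2⟩ :
          IntermediateField.adjoin k' ({algebraMap K K' x} : Set K')) • algebraMap K K' a := by
        rw [Algebra.smul_def, map_mul]
        rfl
      rw [this]
      exact Submodule.smul_mem _ _ ha

theorem isGen {x : K} (hx : K660.Places.IsGen k K x) : K660.Places.IsGen k' K' (algebraMap K K' x) where
  tr := transcendental_map h hx.tr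
  fin := finiteDimensional_adjoin h hx.fin

theorem isFunctionField_of_isAlgClosed [IsAlgClosed k'] (hK : IsFunctionField k K) :
    IsFunctionField k' K' := by
  obtain ⟨x, hx⟩ := K660.Places.exists_isGen hK
  have hx' := isGen h hx
  refine ⟨⟨_, hx'.tr, hx'.fin⟩, fun y hy => ?_⟩
  have h1 : IsIntegral k' y := hy.isIntegral
  have h2 := IsAlgClosed.degree_eq_one_of_irreducible k' (minpoly.irreducible h1)
  exact minpoly.mem_range_of_degree_eq_one k' y h2

omit h [Algebra k K] [Algebra k K'] [IsScalarTower k k' K'] [IsScalarTower k K K'] in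
theorem adjoin_mono {E F : IntermediateField k k'} (hEF : E ≤ F) :
    Algebra.adjoin K (Set.range fun c : E => algebraMap k' K' c) ≤
      Algebra.adjoin K (Set.range fun c : F => algebraMap k' K' c) := by
  refine Algebra.adjoin_mono ?_
  rintro _ ⟨c, rfl⟩
  exact ⟨⟨c, hEF c.2⟩, rfl⟩

theorem exists_finite_mem [Algebra.IsAlgebraic k k'] (z : K') :
    ∃ E : IntermediateField k k', FiniteDimensional k E ∧
      z ∈ Algebra.adjoin K (Set.range fun c : E => algebraMap k' K' c) := by
  obtain ⟨w, rfl⟩ := h.2 z
  induction w with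
  | zero => exact ⟨⊥, inferInstance, by rw [map_zero]; exact zero_mem _⟩
  | add a b ha hb =>
    obtain ⟨E, hE, ha⟩ := ha
    obtain ⟨F, hF, hb⟩ := hb
    refine ⟨E ⊔ F, IntermediateField.finiteDimensional_sup E F, ?_⟩
    rw [map_add]
    exact add_mem (adjoin_mono le_sup_left ha) (adjoin_mono le_sup_right hb)
  | tmul c a =>
    refine ⟨IntermediateField.adjoin k {c},
      IntermediateField.adjoin.finiteDimensional (Algebra.IsAlgebraic.isAlgebraic c).isIntegral, ?_⟩
    rw [pm_tmul]
    refine mul_mem (Algebra.subset_adjoin ⟨⟨c, IntermediateField.mem_adjoin_simple_self k c⟩, rfl⟩) ?_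
    exact Subalgebra.algebraMap_mem _ a

theorem exists_finite_mem_finset [Algebra.IsAlgebraic k k'] (S : Finset K') :
    ∃ E : IntermediateField k k', FiniteDimensional k E ∧
      ∀ z ∈ S, z ∈ Algebra.adjoin K (Set.range fun c : E => algebraMap k' K' c) := by
  classical
  induction S using Finset.induction_on with
  | empty => exact ⟨⊥, inferInstance, by simp⟩
  | insert a S _ ih =>
    obtain ⟨E, hE, hES⟩ := ih
    obtain ⟨F, hF, hFa⟩ := exists_finite_mem h a
    refine ⟨E ⊔ F, IntermediateField.finiteDimensional_sup E F, fun z hz => ?_⟩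
    rcases Finset.mem_insert.1 hz with rfl | hz
    · exact adjoin_mono le_sup_right hFa
    · exact adjoin_mono le_sup_left (hES z hz)

end

/-- A function whose only pole is `Q`. -/
theorem exists_only_pole {k K : Type*} [Field k] [Field K] [Algebra k K] (hK : IsFunctionField k K)
    (Q : Place k K) : ∃ f : K, 1 < Q.1 f ∧ ∀ P : Place k K, P ≠ Q → P.1 f ≤ 1 := by
  have hdeg := K660.Compare.place_deg_pos hK Q
  have hell : 2 ≤ ell (Finsupp.single Q ((genus k K : ℤ) + 1) : Divisor k K) := by
    have h1 := K660.Compare.deg_add_one_sub_ell_le hK (Finsupp.single Q ((genus k K : ℤ) + 1))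
    rw [K660.Compare.deg_single] at h1
    have h2 : (1 : ℤ) ≤ Q.deg := by exact_mod_cast hdeg
    have h3 : ((genus k K : ℤ) + 1) * 1 ≤ ((genus k K : ℤ) + 1) * (Q.deg : ℤ) :=
      mul_le_mul_of_nonneg_left h2 (by positivity)
    omega
  obtain ⟨f, hf, hfc⟩ : ∃ f ∈ L (Finsupp.single Q ((genus k K : ℤ) + 1) : Divisor k K),
      f ∉ Set.range (algebraMap k K) := by
    by_contra hcon
    push Not at hcon
    have h1 : L (Finsupp.single Q ((genus k K : ℤ) + 1) : Divisor k K) ≤ (1 : Submodule k K) := by
      intro f hf
      obtain ⟨c, rfl⟩ := hcon f hf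
      exact Submodule.mem_one.2 ⟨c, rfl⟩
    have h3 : Module.finrank k (1 : Submodule k K) = 1 := by
      rw [Submodule.one_eq_span]
      exact finrank_span_singleton one_ne_zero
    have h4 : FiniteDimensional k (1 : Submodule k K) :=
      Module.finite_of_finrank_pos (by rw [h3]; exact one_pos)
    have h2 := Submodule.finrank_mono h1
    rw [h3] at h2
    change ell _ ≤ 1 at h2
    omega
  have hle : ∀ P : Place k K, P ≠ Q → P.1 f ≤ 1 := fun P hP => by
    have := hf P
    rwa [Finsupp.single_eq_of_ne hP, WithZero.exp_zero] at this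
  refine ⟨f, ?_, hle⟩
  obtain ⟨P, hP⟩ := K660.Places.exists_pole hK hfc
  by_cases h : P = Q
  · rwa [← h]
  · exact absurd (hle P h) (not_le.2 hP)

end K668.ConstExt
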