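import Mathlib.RingTheory.LaurentSeries
import Mathlib.LinearAlgebra.Matrix.Determinant.Basic

/-!
# Leading coefficient of a determinant of Laurent series
-/

set_option autoImplicit false

namespace K668.DetLead

open LaurentSeries

variable {F : Type*} [Field F]

theorem exists_factor (f : F⸨X⸩) (a : ℤ) (h : ∀ i < a, f.coeff i = 0) :
    ∃ g : PowerSeries F, f = HahnSeries.single a 1 * (g : F⸨X⸩) ∧
      PowerSeries.constantCoeff g = f.coeff a := by
  refine ⟨PowerSeries.mk fun n => f.coeff (a + n), ?_, ?_⟩
  · ext n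
    rw [HahnSeries.coeff_single_mul, PowerSeries.coeff_coe, one_mul]
    split_ifs with h1
    · exact h n (by omega)
    · rw [PowerSeries.coeff_mk]
      congr 1
      omega
  · rw [← PowerSeries.coeff_zero_eq_constantCoeff_apply, PowerSeries.coeff_mk]
    simp

theorem coeff_single_mul_coe (a i : ℤ) (g : PowerSeries F) :
    (HahnSeries.single a 1 * (g : F⸨X⸩)).coeff i =
      if i < a then 0 else PowerSeries.coeff (i - a).natAbs g := by
  rw [HahnSeries.coeff_single_mul, PowerSeries.coeff_coe, one_mul]
  by_cases h : i < a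
  · rw [if_pos h, if_pos (by omega)]
  · rw [if_neg h, if_neg (by omega)]

theorem prod_single {ι : Type*} (s : Finset ι) (w : ι → ℤ) :
    ∏ r ∈ s, (HahnSeries.single (w r) (1 : F) : F⸨X⸩) = HahnSeries.single (∑ r ∈ s, w r) 1 := by
  classical
  induction s using Finset.induction_on with
  | empty => simp
  | insert a s ha ih => rw [Finset.prod_insert ha, Finset.sum_insert ha, ih, HahnSeries.single_mul_single,
      one_mul]

/-- The leading coefficient of a determinant. -/
theorem det_leading {m : ℕ} (M : Matrix (Fin m) (Fin m) F⸨X⸩) (w v : Fin m → ℤ)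
    (N : Matrix (Fin m) (Fin m) F) (h0 : ∀ r c, ∀ i < w r - v c, (M r c).coeff i = 0)
    (h1 : ∀ r c, (M r c).coeff (w r - v c) = N r c) :
    (∀ i < ∑ r, w r - ∑ c, v c, M.det.coeff i = 0) ∧
      M.det.coeff (∑ r, w r - ∑ c, v c) = N.det := by
  classical
  have hf : ∀ r c, ∃ g : PowerSeries F, M r c = HahnSeries.single (w r - v c) 1 * (g : F⸨X⸩) ∧
      PowerSeries.constantCoeff g = N r c := fun r c => by
    obtain ⟨g, hg, hg'⟩ := exists_factor (M r c) (w r - v c) (h0 r c)
    exact ⟨g, hg, hg'.trans (h1 r c)⟩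
  choose g hg hgN using hf
  let G : Matrix (Fin m) (Fin m) (PowerSeries F) := Matrix.of g
  have hM : M = Matrix.of fun r c => HahnSeries.single (w r) 1 *
      (Matrix.of fun r c => HahnSeries.single (-v c) 1 *
        ((HahnSeries.ofPowerSeries ℤ F).mapMatrix G) r c) r c := by
    ext1 r c
    simp only [Matrix.of_apply]
    rw [hg r c, ← mul_assoc, HahnSeries.single_mul_single, one_mul, sub_eq_add_neg]
    rfl
  have hdet : M.det = HahnSeries.single (∑ r, w r - ∑ c, v c) 1 * (G.det : F⸨X⸩) := by
    rw [hM, Matrix.det_mul_column, Matrix.det_mul_row, ← RingHom.map_det, prod_single, prod_single,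
      ← mul_assoc, HahnSeries.single_mul_single, one_mul, Finset.sum_neg_distrib, ← sub_eq_add_neg]
  have hGN : PowerSeries.constantCoeff G.det = N.det := by
    rw [RingHom.map_det]
    congr 1
    ext r c
    exact hgN r c
  constructor
  · intro i hi
    rw [hdet, coeff_single_mul_coe, if_pos hi]
  · rw [hdet, coeff_single_mul_coe, if_neg (lt_irrefl _), sub_self, Int.natAbs_zero,
      PowerSeries.coeff_zero_eq_constantCoeff_apply, hGN]

/-- Determinant of a matrix with first row `(1, 0, …, 0)`. -/
theorem det_of_row_zero {R : Type*} [CommRing R] {n : ℕ} (N : Matrix (Fin (n + 1)) (Fin (n + 1)) R)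
    (h0 : N 0 0 = 1) (h : ∀ l : Fin n, N 0 l.succ = 0) :
    N.det = (N.submatrix Fin.succ Fin.succ).det := by
  rw [Matrix.det_succ_row_zero, Fin.sum_univ_succ]
  simp only [h, mul_zero, zero_mul, Finset.sum_const_zero, add_zero, h0]
  simp

/-- Determinant of a matrix with first column `(1, 0, …, 0)`. -/
theorem det_of_column_zero {R : Type*} [CommRing R] {n : ℕ} (N : Matrix (Fin (n + 1)) (Fin (n + 1)) R)
    (h0 : N 0 0 = 1) (h : ∀ l : Fin n, N l.succ 0 = 0) :
    N.det = (N.submatrix Fin.succ Fin.succ).det := by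
  rw [Matrix.det_succ_column_zero, Fin.sum_univ_succ]
  simp only [h, mul_zero, zero_mul, Finset.sum_const_zero, add_zero, h0]
  simp

end K668.DetLead
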