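import Groth.Agent.FunFld.K668.OrdersCons
import Groth.Agent.FunFld.K668.DetLead

/-!
# Jumps: semilinear change of scalars, sequences with a repeated first vector, adapted bases
-/

set_option autoImplicit false

namespace K668.Orders

open FunFld Submodule

section Semi

variable {R R' : Type*} [Field R] [Field R'] (σ : R →+* R') [RingHomSurjective σ]

theorem isJump_map {ι : Type*} (c : ℕ → ι → R) (j : ℕ) :
    IsJump R' (fun j i => σ (c j i)) j ↔ IsJump R c j := by
  let e : (ι → R) →ₛₗ[σ] (ι → R') :=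
    { toFun := fun v i => σ (v i)
      map_add' := fun v w => by funext i; exact map_add σ _ _
      map_smul' := fun a v => by funext i; exact map_mul σ _ _ }
  have he : Function.Injective e := fun v w h => by
    funext i
    exact σ.injective (congrFun h i)
  have h1 : (fun j i => σ (c j i)) '' Set.Iio j = e '' (c '' Set.Iio j) := by
    rw [Set.image_image]
    rfl
  rw [IsJump, IsJump, not_iff_not, h1, ← Submodule.map_span e]
  constructor
  · rintro ⟨x, hx, hxe⟩
    rwa [← he hxe]
  · intro h
    exact ⟨_, h, rfl⟩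

theorem isOrders_map {ι : Type*} (c : ℕ → ι → R) {n : ℕ} (J : Fin n → ℕ) :
    IsOrders R' (fun j i => σ (c j i)) J ↔ IsOrders R c J := by
  simp only [IsOrders, isJump_map]

end Semi

section Self

variable {R M : Type*} [Field R] [AddCommGroup M] [Module R M]

/-- The sequence `0, J 0, J 1, …`. -/
def cz {n : ℕ} (J : Fin n → ℕ) : Fin (n + 1) → ℕ := Fin.cons 0 J

@[simp] theorem cz_zero {n : ℕ} (J : Fin n → ℕ) : cz J 0 = 0 := rfl

@[simp] theorem cz_succ {n : ℕ} (J : Fin n → ℕ) (l : Fin n) : cz J l.succ = J l := rfl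

/-- Orders of a sequence `D 0, D 0, D 1, D 2, …`. -/
theorem enum_of_isOrders_cons_self {D : ℕ → M} (hD : D 0 ≠ 0) {n : ℕ} {J : Fin n → ℕ}
    (hJ : IsOrders R (consSeq (D 0) D) J) : (∀ l, 0 < J l) ∧ Enum R D (cz J) := by
  have hpos : ∀ l, 0 < J l := fun l => by
    rw [Nat.pos_iff_ne_zero]
    intro hl
    have h1 := (hJ.2 0).1 ⟨l, hl⟩
    apply h1
    change D 0 ∈ _
    exact subset_span ⟨0, by simp, rfl⟩
  have hV : ∀ j, (V (consSeq (D 0) D) (j + 2) : Submodule R M) = V D (j + 1) := fun j => by
    rw [V_consSeq]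
    exact sup_eq_right.2 ((span_singleton_le_iff_mem _ _).2 (mem_V D (Nat.succ_pos j)))
  refine ⟨hpos, ?_, ?_⟩
  · intro a b hab
    induction b using Fin.cases with
    | zero => exact absurd hab (Fin.not_lt_zero a)
    | succ b =>
      induction a using Fin.cases with
      | zero => simpa using hpos b
      | succ a => simpa using hJ.1 (Fin.succ_lt_succ_iff.1 hab)
  · intro j
    cases j with
    | zero =>
      rw [isJump_zero_iff]
      exact ⟨fun _ => ⟨0, rfl⟩, fun _ => hD⟩
    | succ j =>
      have h1 : IsJump R (consSeq (D 0) D) (j + 1 + 1) ↔ IsJump R D (j + 1) := by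
        change _ ∉ V (consSeq (D 0) D) (j + 2) ↔ _ ∉ V D (j + 1)
        rw [hV]
        rfl
      rw [← h1, ← hJ.2]
      constructor
      · rintro ⟨l, hl⟩
        exact ⟨l.succ, hl⟩
      · rintro ⟨l, hl⟩
        induction l using Fin.cases with
        | zero => exact absurd hl (by simp)
        | succ l => exact ⟨l, hl⟩

end Self

section Adapted

variable {R : Type*} [Field R] {m : ℕ}

/-- Row operations making the coefficient vectors echelon. -/
theorem Enum.exists_adapted {A : ℕ → Fin m → R} {q : Fin m → ℕ} (h : Enum R A q) :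
    ∃ B : Matrix (Fin m) (Fin m) R, B.det ≠ 0 ∧ (∀ r s, Matrix.mulVec B (A (q s)) r = if r = s then 1 else 0) ∧
      ∀ r, ∀ j < q r, Matrix.mulVec B (A j) r = 0 := by
  classical
  have hdet := h.det_ne_zero
  have hunit : IsUnit (colMat A q).det := isUnit_iff_ne_zero.2 hdet
  have h1 : ∀ r s, Matrix.mulVec (colMat A q)⁻¹ (A (q s)) r = if r = s then 1 else 0 := fun r s => by
    have h2 := congrFun (congrFun (Matrix.nonsing_inv_mul (colMat A q) hunit) r) s
    rw [Matrix.one_apply] at h2
    exact h2
  refine ⟨(colMat A q)⁻¹, ?_, h1, fun r j hj => ?_⟩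
  · intro h3
    have h4 := congrArg Matrix.det (Matrix.nonsing_inv_mul (colMat A q) hunit)
    rw [Matrix.det_mul, h3, zero_mul, Matrix.det_one] at h4
    exact zero_ne_one h4
  · have h3 : A j ∈ (V A (q r) : Submodule R (Fin m → R)) := mem_V A hj
    rw [h.V_eq'] at h3
    let f : (Fin m → R) →ₗ[R] R := (LinearMap.proj r).comp (Matrix.mulVecLin (colMat A q)⁻¹)
    have h4 : span R ((fun i => A (q i)) '' Set.Iio r) ≤ LinearMap.ker f := by
      rw [span_le]
      rintro _ ⟨s, hs, rfl⟩
      change Matrix.mulVec (colMat A q)⁻¹ (A (q s)) r = 0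
      rw [h1, if_neg (Set.mem_Iio.1 hs).ne']
    exact h4 h3

end Adapted

end K668.Orders
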