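import Groth.Agent.FunFld.K668.HasseLoc
import Groth.Agent.FunFld.K668.OrdersSemi

/-!
# Adapted bases at a place, fixed points, orders of generalized Wronskians
-/

set_option autoImplicit false

namespace K668.Loc

open FunFld LocRes LaurentSeries WithZero IntermediateField K668.Orders

variable {k K : Type*} [Field k] [Field K] [Algebra k K]
variable {P : Place k K} {t : K} {ψ : K →ₐ[k] k⸨X⸩} {Ht : K →ₐ[k] PowerSeries K}

/-- Coefficients of expansions as linear forms. -/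
noncomputable def coeffL (ψ : K →ₐ[k] k⸨X⸩) (j : ℤ) : K →ₗ[k] k where
  toFun z := (ψ z).coeff j
  map_add' a b := by rw [map_add, HahnSeries.coeff_add]
  map_smul' c z := by
    rw [Algebra.smul_def, map_mul, LocRes.map_algebraMap, HahnSeries.C_mul_eq_smul,
      HahnSeries.coeff_smul]
    rfl

@[simp] theorem coeffL_apply (ψ : K →ₐ[k] k⸨X⸩) (j : ℤ) (z : K) : coeffL ψ j z = (ψ z).coeff j := rfl

theorem coeff_sum_smul {ι : Type*} (ψ : K →ₐ[k] k⸨X⸩) (j : ℤ) (s : Finset ι) (c : ι → k) (φ : ι → K) :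
    (ψ (∑ i ∈ s, c i • φ i)).coeff j = ∑ i ∈ s, c i * (ψ (φ i)).coeff j := by
  have := map_sum (coeffL ψ j) (fun i => c i • φ i) s
  simp only [map_smul, coeffL_apply, smul_eq_mul] at this
  exact this

theorem coeff_zero_ne_zero {ι : Type*} {φ : ι → K} (heff : (1 : K) ∈ Submodule.span k (Set.range φ)) :
    (fun i => (ψ (φ i)).coeff 0) ≠ 0 := by
  intro h
  have h1 : Submodule.span k (Set.range φ) ≤ LinearMap.ker (coeffL ψ 0) := by
    rw [Submodule.span_le]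
    rintro _ ⟨i, rfl⟩
    exact congrFun h i
  have h2 := h1 heff
  rw [LinearMap.mem_ker, coeffL_apply, map_one, HahnSeries.coeff_one, if_pos rfl] at h2
  exact one_ne_zero h2

theorem IsExp.enum_of_isOrders (h : IsExp P t ψ) [Algebra.IsSeparable (adjoin k ({t} : Set K)) K]
    (hHt : IsHasseFamily t Ht) {n : ℕ} {φ : Fin (n + 1) → K} (hnorm : ∀ i, P.1 (φ i) ≤ 1)
    (hne : (fun i => (ψ (φ i)).coeff 0) ≠ 0) {J' : Fin n → ℕ}
    (hJ' : IsOrders (IsLocalRing.ResidueField P.O) (hcolAt P Ht φ) J') :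
    (∀ l, 0 < J' l) ∧ Enum k (fun (j : ℕ) i => (ψ (φ i)).coeff j) (cz J') := by
  rw [h.hcolAt_eq hHt hnorm] at hJ'
  have : RingHomSurjective (algebraMap k (IsLocalRing.ResidueField P.O)) :=
    ⟨h.surjective_algebraMap_res⟩
  rw [isOrders_map] at hJ'
  exact enum_of_isOrders_cons_self (D := fun (j : ℕ) i => (ψ (φ i)).coeff j) hne hJ'

/-- Adapted bases. -/
theorem IsExp.exists_adapted (h : IsExp P t ψ) {m : ℕ} {φ : Fin m → K}
    (hnorm : ∀ i, P.1 (φ i) ≤ 1) {q : Fin m → ℕ}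
    (hq : Enum k (fun (j : ℕ) i => (ψ (φ i)).coeff j) q) :
    ∃ B : Matrix (Fin m) (Fin m) k, B.det ≠ 0 ∧ ∀ r,
      (∀ i < (q r : ℤ), (ψ (∑ s, B r s • φ s)).coeff i = 0) ∧
        (ψ (∑ s, B r s • φ s)).coeff (q r) = 1 := by
  obtain ⟨B, hB, h1, h2⟩ := hq.exists_adapted
  refine ⟨B, hB, fun r => ⟨fun i hi => ?_, ?_⟩⟩
  · rw [coeff_sum_smul]
    rcases lt_or_ge i 0 with h0 | h0
    · exact Finset.sum_eq_zero fun s _ => by rw [h.le_one_iff.1 (hnorm s) i h0, mul_zero]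
    · obtain ⟨j, rfl⟩ := Int.eq_ofNat_of_zero_le h0
      exact h2 r j (by exact_mod_cast hi)
  · rw [coeff_sum_smul]
    have := h1 r r
    rw [if_pos rfl] at this
    exact this

section Fixed

variable {τ : K →ₐ[k] K}

theorem IsStrongFixedPt.isFixedPt (hP : IsStrongFixedPt τ P) : IsFixedPt τ P := fun z hz =>
  (hP z hz).trans_lt (by rw [← exp_zero, exp_lt_exp]; norm_num)

theorem val_map_le_one [IsAlgClosed k] (hK : IsFunctionField k K) (hP : IsFixedPt τ P) {z : K}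
    (hz : P.1 z ≤ 1) : P.1 (τ z) ≤ 1 := by
  obtain ⟨c, hc⟩ := K666.Basic.exists_const hK P z hz
  have h1 := hP _ hc
  rw [map_sub, AlgHom.commutes] at h1
  have h2 : τ z = (τ z - algebraMap k K c) + algebraMap k K c := by ring
  rw [h2]
  exact (P.1.map_add _ _).trans (max_le h1.le (P.2.1 c))

theorem val_map_pow_le [IsAlgClosed k] (hK : IsFunctionField k K) (hP : IsFixedPt τ P) {t : K}
    (ht : P.1 t = exp (-1)) {e : ℕ} (he : ∀ z : K, P.1 z < 1 → P.1 (τ z) ≤ exp (-(e : ℤ)))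
    {z : K} {a : ℕ} (hz : P.1 z ≤ exp (-(a : ℤ))) : P.1 (τ z) ≤ exp (-((e * a : ℕ) : ℤ)) := by
  have ht0 : t ≠ 0 := K660.Ord.ne_zero_of_val P ht
  have h1 : z = (z / t ^ a) * t ^ a := by
    rw [div_mul_cancel₀]; exact pow_ne_zero _ ht0
  have h2 : P.1 (z / t ^ a) ≤ 1 := by
    rw [map_div₀, map_pow, ht, ← exp_nsmul]
    rw [div_le_one₀ exp_pos]
    simpa using hz
  have h3 := val_map_le_one hK hP h2
  have h4 : P.1 (τ t) ≤ exp (-(e : ℤ)) := he t (by rw [ht, ← exp_zero, exp_lt_exp]; norm_num)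
  rw [h1, map_mul, map_pow, map_mul, map_pow]
  calc P.1 (τ (z / t ^ a)) * P.1 (τ t) ^ a ≤ 1 * exp (-(e : ℤ)) ^ a :=
        mul_le_mul' h3 (pow_le_pow_left₀ zero_le h4 a)
    _ = exp (-((e * a : ℕ) : ℤ)) := by
        rw [one_mul, ← exp_nsmul]
        congr 1
        push_cast
        rw [nsmul_eq_mul]
        ring

theorem val_map_le [IsAlgClosed k] (hK : IsFunctionField k K) (hP : IsFixedPt τ P) {t : K}
    (ht : P.1 t = exp (-1)) {z : K} {a : ℕ} (hz : P.1 z ≤ exp (-(a : ℤ))) :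
    P.1 (τ z) ≤ exp (-(a : ℤ)) := by
  have := val_map_pow_le hK hP ht (e := 1) (fun z hz => by
    have := K660.Ord.lt_one_iff_le.1 (hP z hz)
    simpa using this) hz
  rwa [one_mul] at this

theorem val_map_le_strong [IsAlgClosed k] (hK : IsFunctionField k K) (hP : IsStrongFixedPt τ P) {t : K}
    (ht : P.1 t = exp (-1)) {z : K} {a : ℕ} (hz : P.1 z ≤ exp (-(a : ℤ))) :
    P.1 (τ z) ≤ exp (-((2 * a : ℕ) : ℤ)) :=
  val_map_pow_le hK (IsStrongFixedPt.isFixedPt hP) ht (e := 2) (fun z hz => by simpa using hP z hz) hz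

/-- At a fixed point `τ` does not change values. -/
theorem IsExp.coeff_zero_map (h : IsExp P t ψ) (hP : IsFixedPt τ P) {z : K} (hz : P.1 z ≤ 1) :
    (ψ (τ z)).coeff 0 = (ψ z).coeff 0 := by
  apply h.coeff_zero_eq
  have := hP _ (h.sub_coeff_lt hz)
  rwa [map_sub, AlgHom.commutes] at this

end Fixed

end K668.Loc
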