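import Mathlib.FieldTheory.PurelyInseparable.PerfectClosure
import Mathlib.FieldTheory.Normal.Basic
import Mathlib.FieldTheory.IsAlgClosed.AlgebraicClosure
import Mathlib.LinearAlgebra.TensorProduct.Basis
import Mathlib.RingTheory.TensorProduct.Free

/-!
# Galois descent for subspaces

A subspace of `ι →₀ L` stable under a set of field endomorphisms of `L` (acting on coordinates) is
spanned by its fixed vectors. Application to `L ⊗_k V`, `L` an algebraic closure of `k`: a stable
subspace is spanned by vectors defined over the perfect closure of `k`.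
-/

set_option autoImplicit false

namespace K668.Descent

open TensorProduct

section Coord

variable {L ι : Type*} [Field L]

/-- The action on coordinates. -/
noncomputable abbrev act (σ : L →+* L) (w : ι →₀ L) : ι →₀ L := w.mapRange σ (map_zero σ)

theorem support_act (σ : L →+* L) (w : ι →₀ L) : (act σ w).support = w.support := by
  ext i
  simp [act]

theorem le_span_fixed (G : Set (L →+* L)) (W : Submodule L (ι →₀ L))
    (hW : ∀ σ ∈ G, ∀ w ∈ W, act σ w ∈ W) :
    W ≤ Submodule.span L {w | w ∈ W ∧ ∀ σ ∈ G, act σ w = w} := by
  classical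
  set S := Submodule.span L {w | w ∈ W ∧ ∀ σ ∈ G, act σ w = w} with hS
  suffices h : ∀ n : ℕ, ∀ w ∈ W, w.support.card ≤ n → w ∈ S from
    fun w hw => h _ w hw le_rfl
  intro n
  induction n with
  | zero =>
    intro w _ hc
    have : w = 0 := by
      rw [← Finsupp.support_eq_empty, ← Finset.card_eq_zero]
      omega
    rw [this]; exact zero_mem _
  | succ n ih =>
    intro w hw hc
    by_cases hw0 : w = 0
    · rw [hw0]; exact zero_mem _
    by_cases hcase : ∃ v ∈ W, v ≠ 0 ∧ v.support ⊂ w.support
    · obtain ⟨v, hv, hv0, hvs⟩ := hcase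
      have hvS : v ∈ S := ih v hv (by have := Finset.card_lt_card hvs; omega)
      obtain ⟨j, hj⟩ := Finsupp.support_nonempty_iff.mpr hv0
      have hjv : v j ≠ 0 := Finsupp.mem_support_iff.mp hj
      have hu : w - (w j / v j) • v ∈ S := by
        apply ih _ (W.sub_mem hw (W.smul_mem _ hv))
        have hsub : (w - (w j / v j) • v).support ⊆ w.support.erase j := by
          intro i hi
          rw [Finset.mem_erase]
          rw [Finsupp.mem_support_iff, Finsupp.sub_apply, Finsupp.smul_apply, smul_eq_mul] at hi
          constructor
          · rintro rfl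
            apply hi
            rw [div_mul_cancel₀ _ hjv, sub_self]
          · rw [Finsupp.mem_support_iff]
            intro hwi
            have hvi : v i ≠ 0 := by
              intro hvi
              apply hi
              rw [hwi, hvi, mul_zero, sub_zero]
            have := hvs.subset (Finsupp.mem_support_iff.mpr hvi)
            exact (Finsupp.mem_support_iff.mp this) hwi
        have h1 := Finset.card_le_card hsub
        rw [Finset.card_erase_of_mem (hvs.subset hj)] at h1
        omega
      have : w = (w - (w j / v j) • v) + (w j / v j) • v := by abel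
      rw [this]
      exact S.add_mem hu (S.smul_mem _ hvS)
    · push Not at hcase
      obtain ⟨i, hi⟩ := Finsupp.support_nonempty_iff.mpr hw0
      have hiw : w i ≠ 0 := Finsupp.mem_support_iff.mp hi
      set u : ι →₀ L := (w i)⁻¹ • w with hu
      have huW : u ∈ W := W.smul_mem _ hw
      have hui : u i = 1 := by
        rw [hu, Finsupp.smul_apply, smul_eq_mul, inv_mul_cancel₀ hiw]
      have hus : u.support ⊆ w.support := Finsupp.support_smul
      have hfix : ∀ σ ∈ G, act σ u = u := by
        intro σ hσ
        by_contra hne
        have hdW : act σ u - u ∈ W := W.sub_mem (hW σ hσ u huW) huW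
        refine hcase _ hdW (sub_ne_zero.mpr hne) ?_
        rw [Finset.ssubset_iff_of_subset]
        · refine ⟨i, hi, ?_⟩
          rw [Finsupp.notMem_support_iff, Finsupp.sub_apply, Finsupp.mapRange_apply, hui, map_one,
            sub_self]
        · intro j hj
          apply hus
          by_contra hju
          rw [Finsupp.notMem_support_iff] at hju
          rw [Finsupp.mem_support_iff, Finsupp.sub_apply, Finsupp.mapRange_apply, hju, map_zero,
            sub_zero] at hj
          exact hj rfl
      have : w = (w i) • u := by
        rw [hu, smul_smul, mul_inv_cancel₀ hiw, one_smul]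
      rw [this]
      exact S.smul_mem _ (Submodule.subset_span ⟨huW, hfix⟩)

end Coord

section AlgClosure

variable {k L : Type*} [Field k] [Field L] [Algebra k L]

/-- In an algebraically closed algebraic extension the elements fixed by all automorphisms are
purely inseparable. -/
theorem mem_perfectClosure_of_fixed [IsAlgClosed L] [Algebra.IsAlgebraic k L] (c : L)
    (hc : ∀ σ : L ≃ₐ[k] L, σ c = c) : c ∈ perfectClosure k L := by
  classical
  have hL : IsAlgClosure k L := ⟨inferInstance, inferInstance⟩
  have hN : Normal k L := IsAlgClosure.normal k L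
  rw [mem_perfectClosure_iff_natSepDegree_eq_one, Polynomial.natSepDegree_eq_of_isAlgClosed L,
    Finset.card_eq_one]
  refine ⟨c, ?_⟩
  have hint : IsIntegral k c := Algebra.IsIntegral.isIntegral c
  ext d
  rw [Multiset.mem_toFinset, Finset.mem_singleton, Polynomial.mem_aroots]
  constructor
  · rintro ⟨-, hd⟩
    obtain ⟨σ, hσ⟩ := minpoly.exists_algEquiv_of_root (K := k) (x := d) (y := c) hint.isAlgebraic hd
    rw [← σ.symm_apply_apply d, hσ, hc]
  · rintro rfl
    exact ⟨minpoly.ne_zero hint, minpoly.aeval k d⟩

variable {V : Type*} [AddCommGroup V] [Module k V]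

/-- The semilinear action of an automorphism on `L ⊗ V`. -/
noncomputable abbrev actT (V : Type*) [AddCommGroup V] [Module k V] (σ : L ≃ₐ[k] L) :
    L ⊗[k] V →ₗ[k] L ⊗[k] V :=
  LinearMap.rTensor V (σ : L →ₐ[k] L).toLinearMap

theorem repr_actT {ι : Type*} (e : Module.Basis ι k V) (σ : L ≃ₐ[k] L) (w : L ⊗[k] V) :
    (e.baseChange L).repr (actT V σ w) = act (σ : L →+* L) ((e.baseChange L).repr w) := by
  induction w using TensorProduct.induction_on with
  | zero => ext i; simp
  | tmul c v =>
    ext i
    rw [LinearMap.rTensor_tmul, Module.Basis.baseChange_repr_tmul, Finsupp.mapRange_apply,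
      Module.Basis.baseChange_repr_tmul, Algebra.smul_def, Algebra.smul_def]
    simp
  | add a b ha hb =>
    rw [map_add, map_add, ha, hb, map_add]
    ext i
    simp

/-- Elements with coordinates in a subfield. -/
theorem mem_range_rTensor {ι : Type*} (e : Module.Basis ι k V) (E : IntermediateField k L)
    (w : L ⊗[k] V) (hw : ∀ i, (e.baseChange L).repr w i ∈ E) :
    w ∈ LinearMap.range (LinearMap.rTensor V E.val.toLinearMap) := by
  rw [← (e.baseChange L).linearCombination_repr w, Finsupp.linearCombination_apply, Finsupp.sum]
  refine Submodule.sum_mem _ fun i _ => ?_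
  rw [Module.Basis.baseChange_apply]
  refine ⟨(⟨_, hw i⟩ : E) ⊗ₜ e i, ?_⟩
  rw [LinearMap.rTensor_tmul, smul_tmul', smul_eq_mul, mul_one]
  rfl

/-- The action of an automorphism as a ring homomorphism. -/
def toHom (σ : L ≃ₐ[k] L) : L →+* L := (σ : L →ₐ[k] L)

theorem tensor_descent_aux [IsAlgClosed L] [Algebra.IsAlgebraic k L] {ι : Type*}
    (e : Module.Basis ι k V) (W : Submodule L (L ⊗[k] V))
    (hW : ∀ σ : L ≃ₐ[k] L, ∀ w ∈ W, actT V σ w ∈ W) :
    W ≤ Submodule.span L {w | w ∈ W ∧ ∃ E : IntermediateField k L, FiniteDimensional k E ∧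
      IsPurelyInseparable k E ∧ w ∈ LinearMap.range (LinearMap.rTensor V E.val.toLinearMap)} := by
  classical
  have hr : ∀ (σ : L ≃ₐ[k] L) (w : L ⊗[k] V),
      (e.baseChange L).repr (actT V σ w) = act (toHom σ) ((e.baseChange L).repr w) :=
    repr_actT e
  have hm : ∀ (E : IntermediateField k L) (w : L ⊗[k] V), (∀ i, (e.baseChange L).repr w i ∈ E) →
      w ∈ LinearMap.range (LinearMap.rTensor V E.val.toLinearMap) := mem_range_rTensor e
  generalize (e.baseChange L).repr = φ at hr hm
  have h1 := le_span_fixed (Set.range (toHom (k := k) (L := L))) (W.comap φ.symm.toLinearMap) (by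
      rintro _ ⟨σ, rfl⟩ w hw
      rw [Submodule.mem_comap] at hw ⊢
      have h2 := hW σ _ hw
      have h3 : φ.symm (act (toHom σ) w) = actT V σ (φ.symm w) := by
        rw [LinearEquiv.symm_apply_eq, hr, LinearEquiv.apply_symm_apply]
      change φ.symm (act (toHom σ) w) ∈ W
      rw [h3]
      exact h2)
  intro w hw
  have h3 : φ w ∈ W.comap φ.symm.toLinearMap := by
    rw [Submodule.mem_comap]
    change φ.symm (φ w) ∈ W
    rw [LinearEquiv.symm_apply_apply]
    exact hw
  have h4 := h1 h3
  have h5 : φ.symm (φ w) ∈ Submodule.span L {w | w ∈ W ∧ ∃ E : IntermediateField k L,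
      FiniteDimensional k E ∧ IsPurelyInseparable k E ∧
      w ∈ LinearMap.range (LinearMap.rTensor V E.val.toLinearMap)} := by
    generalize φ w = u at h4
    induction h4 using Submodule.span_induction with
    | mem u hu =>
      refine Submodule.subset_span ⟨hu.1, ?_⟩
      have h6 : ∀ i, u i ∈ perfectClosure k L := by
        intro i
        apply mem_perfectClosure_of_fixed
        intro σ
        exact DFunLike.congr_fun (hu.2 _ ⟨σ, rfl⟩) i
      refine ⟨IntermediateField.adjoin k (u.support.image u : Set L), ?_, ?_, ?_⟩
      · apply IntermediateField.finiteDimensional_adjoin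
        intro x _
        exact Algebra.IsIntegral.isIntegral x
      · rw [← le_perfectClosure_iff, IntermediateField.adjoin_le_iff]
        intro x hx
        rw [Finset.coe_image] at hx
        obtain ⟨i, -, rfl⟩ := hx
        exact h6 i
      · apply hm
        intro i
        rw [LinearEquiv.apply_symm_apply]
        by_cases hi : i ∈ u.support
        · apply IntermediateField.subset_adjoin
          rw [Finset.coe_image]
          exact ⟨i, hi, rfl⟩
        · rw [Finsupp.notMem_support_iff] at hi
          rw [hi]
          exact zero_mem _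
    | zero => rw [map_zero]; exact zero_mem _
    | add a b _ _ ha hb => rw [map_add]; exact add_mem ha hb
    | smul c a _ ha => rw [map_smul]; exact Submodule.smul_mem _ _ ha
  rwa [LinearEquiv.symm_apply_apply] at h5

/-- **Galois descent**: a subspace of `L ⊗ V` stable under all automorphisms is spanned by vectors
defined over finite purely inseparable extensions of `k`. -/
theorem tensor_descent [IsAlgClosed L] [Algebra.IsAlgebraic k L] (W : Submodule L (L ⊗[k] V))
    (hW : ∀ σ : L ≃ₐ[k] L, ∀ w ∈ W, actT V σ w ∈ W) :
    W ≤ Submodule.span L {w | w ∈ W ∧ ∃ E : IntermediateField k L, FiniteDimensional k E ∧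
      IsPurelyInseparable k E ∧ w ∈ LinearMap.range (LinearMap.rTensor V E.val.toLinearMap)} :=
  tensor_descent_aux (Module.Basis.ofVectorSpace k V) W hW

end AlgClosure

end K668.Descent
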