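import Groth.Agent.FunFld.K668.OrdersCons
import Groth.Agent.FunFld.K668.HasseIter
import Groth.Agent.FunFld.K668.DetLead
import Groth.Agent.FunFld.K669.Expansion
import Groth.Prelude.Def_W4bk4goldsch45p2

/-!
# Hasse derivatives at a place
-/

set_option autoImplicit false

namespace K668.Loc

open FunFld LocRes LaurentSeries WithZero IntermediateField

variable {k K : Type*} [Field k] [Field K] [Algebra k K]

/-- `ψ` is an expansion at `P` with `t ↦ X`. -/
structure IsExp (P : Place k K) (t : K) (ψ : K →ₐ[k] k⸨X⸩) : Prop where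
  val : ∀ f : K, Valued.v (ψ f) = P.1 f
  map_t : ψ t = HahnSeries.single 1 1

theorem exists_isExp [IsAlgClosed k] (hK : IsFunctionField k K) (P : Place k K) (t : K)
    (ht : P.1 t = exp (-1)) : ∃ ψ : K →ₐ[k] k⸨X⸩, IsExp P t ψ := by
  obtain ⟨ψ, h1, h2⟩ := K669.Expansion.exists_expansion hK P t ht
  exact ⟨ψ, h1.1, h2⟩

variable {P : Place k K} {t : K} {ψ : K →ₐ[k] k⸨X⸩}

theorem IsExp.val_t (h : IsExp P t ψ) : P.1 t = exp (-1) := by
  rw [← h.val, h.map_t, LaurentSeries.valuation_single_zpow]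

theorem IsExp.le_iff (h : IsExp P t ψ) {z : K} {D : ℤ} :
    P.1 z ≤ exp (-D) ↔ ∀ n < D, (ψ z).coeff n = 0 := by
  rw [← h.val, LaurentSeries.valuation_le_iff_coeff_lt_eq_zero]

theorem IsExp.le_one_iff (h : IsExp P t ψ) {z : K} : P.1 z ≤ 1 ↔ ∀ n < 0, (ψ z).coeff n = 0 := by
  have := h.le_iff (z := z) (D := 0)
  rwa [neg_zero, exp_zero] at this

theorem IsExp.eq_iff (h : IsExp P t ψ) {z : K} {D : ℤ} (hz : ∀ n < D, (ψ z).coeff n = 0) :
    P.1 z = exp (-D) ↔ (ψ z).coeff D ≠ 0 := by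
  constructor
  · intro h1 h2
    have h3 : P.1 z ≤ exp (-(D + 1)) := h.le_iff.2 fun n hn => by
      rcases (Int.lt_add_one_iff.1 hn).lt_or_eq with h4 | h4
      · exact hz n h4
      · rw [h4, h2]
    rw [h1, exp_le_exp] at h3
    omega
  · intro h1
    apply le_antisymm (h.le_iff.2 hz)
    by_contra h2
    rw [not_le] at h2
    have h3 : P.1 z ≤ exp (-(D + 1)) := by
      have := K660.Ord.lt_exp_iff_le.1 h2
      rwa [show -D - 1 = -(D + 1) by ring] at this
    exact h1 (h.le_iff.1 h3 D (by omega))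

theorem IsExp.coeff_zero_eq (h : IsExp P t ψ) {z : K} {c : k} (hz : P.1 (z - algebraMap k K c) < 1) :
    (ψ z).coeff 0 = c := by
  have h1 : P.1 (z - algebraMap k K c) ≤ exp (-1) := K660.Ord.lt_one_iff_le.1 hz
  have h2 := h.le_iff.1 h1 0 (by norm_num)
  rw [map_sub, LocRes.map_algebraMap, HahnSeries.coeff_sub] at h2
  simpa [sub_eq_zero] using h2

theorem IsExp.sub_coeff_lt (h : IsExp P t ψ) {z : K} (hz : P.1 z ≤ 1) :
    P.1 (z - algebraMap k K ((ψ z).coeff 0)) < 1 := by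
  rw [K660.Ord.lt_one_iff_le]
  refine h.le_iff.2 fun n hn => ?_
  rw [map_sub, LocRes.map_algebraMap, HahnSeries.coeff_sub, HahnSeries.C_apply]
  by_cases h0 : n = 0
  · subst h0; simp
  · rw [h.le_one_iff.1 hz n (by omega), HahnSeries.coeff_single_of_ne h0, sub_zero]

theorem IsExp.evalP_eq (h : IsExp P t ψ) {z : K} (hz : P.1 z ≤ 1) :
    evalP P z = algebraMap k (IsLocalRing.ResidueField P.O) ((ψ z).coeff 0) := by
  rw [evalP, dif_pos hz]
  change IsLocalRing.residue P.O _ = IsLocalRing.residue P.O (algebraMap k P.O ((ψ z).coeff 0))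
  rw [← sub_eq_zero, ← map_sub, IsLocalRing.residue_eq_zero_iff]
  refine (P.O.valuation_lt_one_iff _).2 ?_
  exact P.1.isEquiv_valuation_valuationSubring.lt_one_iff_lt_one.1 (h.sub_coeff_lt hz)

theorem injective_algebraMap_res (P : Place k K) :
    Function.Injective (algebraMap k (IsLocalRing.ResidueField P.O)) :=
  (algebraMap k (IsLocalRing.ResidueField P.O)).injective

theorem IsExp.surjective_algebraMap_res (h : IsExp P t ψ) :
    Function.Surjective (algebraMap k (IsLocalRing.ResidueField P.O)) := by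
  intro x
  obtain ⟨z, rfl⟩ := IsLocalRing.residue_surjective x
  refine ⟨(ψ z).coeff 0, ?_⟩
  have hz : P.1 (z : K) ≤ 1 := z.2
  rw [← h.evalP_eq hz, evalP, dif_pos hz]

section Der

variable {Ht : K →ₐ[k] PowerSeries K}

theorem IsExp.map_hasseD (h : IsExp P t ψ) [Algebra.IsSeparable (adjoin k ({t} : Set K)) K]
    (hHt : IsHasseFamily t Ht) (j : ℕ) (z : K) :
    ψ (hasseD Ht j z) = LaurentSeries.hasseDeriv k j (ψ z) :=
  Hasse.map_hasseD hHt (ψ : K →+* k⸨X⸩) (fun c => ⟨c, LocRes.map_algebraMap ψ c⟩)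
    ⟨0, by rw [map_zero, zero_add]; exact h.map_t⟩ j z

theorem IsExp.coeff_hasseD (h : IsExp P t ψ) [Algebra.IsSeparable (adjoin k ({t} : Set K)) K]
    (hHt : IsHasseFamily t Ht) (j : ℕ) (z : K) (n : ℤ) :
    (ψ (hasseD Ht j z)).coeff n = Ring.choose (n + j) j • (ψ z).coeff (n + j) := by
  rw [h.map_hasseD hHt, LaurentSeries.hasseDeriv_coeff]

theorem IsExp.hasseD_le (h : IsExp P t ψ) [Algebra.IsSeparable (adjoin k ({t} : Set K)) K]
    (hHt : IsHasseFamily t Ht) (j : ℕ) {z : K} {D : ℤ} (hz : P.1 z ≤ exp (-D)) :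
    P.1 (hasseD Ht j z) ≤ exp (-(D - j)) := by
  rw [h.le_iff] at hz ⊢
  intro n hn
  rw [h.coeff_hasseD hHt, hz _ (by omega), smul_zero]

theorem IsExp.hasseD_le_one (h : IsExp P t ψ) [Algebra.IsSeparable (adjoin k ({t} : Set K)) K]
    (hHt : IsHasseFamily t Ht) (j : ℕ) {z : K} (hz : P.1 z ≤ 1) : P.1 (hasseD Ht j z) ≤ 1 := by
  rw [h.le_one_iff] at hz ⊢
  intro n hn
  rw [h.coeff_hasseD hHt]
  by_cases h1 : n + j < 0
  · rw [hz _ h1, smul_zero]
  · obtain ⟨m, hm⟩ := Int.eq_ofNat_of_zero_le (not_lt.1 h1)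
    have : Ring.choose (n + j : ℤ) j = 0 := by
      rw [hm]
      exact (Ring.choose_natCast (R := ℤ) m j).trans
        (by rw [Nat.choose_eq_zero_of_lt (by omega), Nat.cast_zero])
    rw [this, zero_smul]

theorem IsExp.evalP_hasseD (h : IsExp P t ψ) [Algebra.IsSeparable (adjoin k ({t} : Set K)) K]
    (hHt : IsHasseFamily t Ht) (j : ℕ) {z : K} (hz : P.1 z ≤ 1) :
    evalP P (hasseD Ht j z) = algebraMap k (IsLocalRing.ResidueField P.O) ((ψ z).coeff j) := by
  rw [h.evalP_eq (h.hasseD_le_one hHt j hz), h.coeff_hasseD hHt, zero_add]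
  have : Ring.choose (j : ℤ) j = 1 := by
    exact (Ring.choose_natCast (R := ℤ) j j).trans (by rw [Nat.choose_self, Nat.cast_one])
  rw [this, one_smul]

/-- The matrix of values of Hasse derivatives: coefficients of expansions. -/
theorem IsExp.hcolAt_eq (h : IsExp P t ψ) [Algebra.IsSeparable (adjoin k ({t} : Set K)) K]
    (hHt : IsHasseFamily t Ht) {ι : Type*} {φ : ι → K} (hnorm : ∀ i, P.1 (φ i) ≤ 1) :
    hcolAt P Ht φ = fun j i => algebraMap k (IsLocalRing.ResidueField P.O)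
      (K668.Orders.consSeq (fun i => (ψ (φ i)).coeff 0) (fun (j : ℕ) i => (ψ (φ i)).coeff j) j i) := by
  funext j i
  cases j with
  | zero => exact h.evalP_eq (hnorm i)
  | succ j => exact h.evalP_hasseD hHt j (hnorm i)

end Der

end K668.Loc
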