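import Groth.Agent.FunFld.K668.PlaceLoc

/-!
# The integral closure of a valuation ring in a constant extension
-/

set_option autoImplicit false

namespace K668.NonsingExt

open FunFld TensorProduct K660.Places ConstExt ScalarGen

variable {k k' k'' K K' K'' : Type*} [Field k] [Field k'] [Field k''] [Field K] [Field K'] [Field K'']
  [Algebra k k'] [Algebra k K] [Algebra K K'] [Algebra k' K'] [Algebra k K'] [IsScalarTower k k' K']
  [IsScalarTower k K K'] [Algebra k' k''] [Algebra K' K''] [Algebra k'' K''] [Algebra k' K'']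
  [IsScalarTower k' k'' K''] [IsScalarTower k' K' K'']

/-- The data produced by `ScalarGen.gen_all`. -/
def Gens (k : Type*) {K : Type*} [Field k] [Field K] [Algebra k K] (y : K) (E : Type*) [Field E]
    [Algebra k E] (S : Set (E ⊗[k] K)) (L : Type*) [Field L] [Algebra k L] (j : E →ₐ[k] L) : Prop :=
  ∀ z : L ⊗[k] K, Intg k (1 ⊗ₜ y : L ⊗[k] K) z → z ∈ Submodule.span L (pows (1 ⊗ₜ y : L ⊗[k] K)
      (Algebra.TensorProduct.map j (AlgHom.id k K) '' S))

omit [Field k] [Algebra k k'] [Field K] [Algebra k K] [Algebra K K'] [Algebra k K'] [IsScalarTower k k' K']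
  [IsScalarTower k K K'] in
theorem adjoin_le [Algebra.IsIntegral k' k''] (Q : Place k' K') :
    Algebra.adjoin (Q.O.toSubring.map (algebraMap K' K'')) (Set.range (algebraMap k'' K'')) ≤
      integralClosure (Q.O.toSubring.map (algebraMap K' K'')) K'' := by
  rw [Algebra.adjoin_le_iff]
  rintro _ ⟨c, rfl⟩
  obtain ⟨p, hp, hpc⟩ := Algebra.IsIntegral.isIntegral (R := k') c
  let φ : k' →+* Q.O.toSubring.map (algebraMap K' K'') :=
    ((algebraMap K' K'').comp (algebraMap k' K')).codRestrict _ (fun c => ⟨_, Q.2.1 c, rfl⟩)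
  refine ⟨p.map φ, hp.map _, ?_⟩
  rw [Polynomial.eval₂_map]
  have hφ : (algebraMap (Q.O.toSubring.map (algebraMap K' K'')) K'').comp φ =
      (algebraMap k'' K'').comp (algebraMap k' k'') := by
    ext c
    change algebraMap K' K'' (algebraMap k' K' c) = algebraMap k'' K'' (algebraMap k' k'' c)
    rw [← IsScalarTower.algebraMap_apply, ← IsScalarTower.algebraMap_apply]
  rw [hφ, ← Polynomial.hom_eval₂, hpc, map_zero]

theorem integralClosure_eq [Algebra.IsAlgebraic k k'] [Algebra.IsAlgebraic k' k'']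
    (h1 : Function.Bijective (pm k k' K K')) (h2 : Function.Bijective (pm k' k'' K' K''))
    {x : K} (hx : IsGen k K x)
    {E₁ : Type*} [Field E₁] [Algebra k E₁] (S₁ : Set (E₁ ⊗[k] K))
    (hS₁ : ∀ s ∈ S₁, Intg k (1 ⊗ₜ x : E₁ ⊗[k] K) s) (j₁ : E₁ →ₐ[k] k')
    {E₂ : Type*} [Field E₂] [Algebra k E₂] (S₂ : Set (E₂ ⊗[k] K))
    (hS₂ : ∀ s ∈ S₂, Intg k (1 ⊗ₜ x⁻¹ : E₂ ⊗[k] K) s) (j₂ : E₂ →ₐ[k] k')
    (hg₁ : ∀ [Algebra k k''] [IsScalarTower k k' k''],
      Gens k x E₁ S₁ k'' ((IsScalarTower.toAlgHom k k' k'').comp j₁))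
    (hg₂ : ∀ [Algebra k k''] [IsScalarTower k k' k''],
      Gens k x⁻¹ E₂ S₂ k'' ((IsScalarTower.toAlgHom k k' k'').comp j₂))
    (Q : Place k' K') :
    integralClosure (Q.O.toSubring.map (algebraMap K' K'')) K'' =
      Algebra.adjoin (Q.O.toSubring.map (algebraMap K' K'')) (Set.range (algebraMap k'' K'')) := by
  let _ : Algebra k k'' := ((algebraMap k' k'').comp (algebraMap k k')).toAlgebra
  let _ : Algebra K K'' := ((algebraMap K' K'').comp (algebraMap K K')).toAlgebra
  let _ : Algebra k K'' := ((algebraMap K K'').comp (algebraMap k K)).toAlgebra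
  have _ : IsScalarTower k k' k'' := IsScalarTower.of_algebraMap_eq fun _ => rfl
  have _ : IsScalarTower K K' K'' := IsScalarTower.of_algebraMap_eq fun _ => rfl
  have _ : IsScalarTower k K K'' := IsScalarTower.of_algebraMap_eq fun _ => rfl
  have _ : IsScalarTower k k'' K'' := by
    refine IsScalarTower.of_algebraMap_eq fun c => ?_
    change algebraMap K' K'' (algebraMap K K' (algebraMap k K c)) =
      algebraMap k'' K'' (algebraMap k' k'' (algebraMap k k' c))
    rw [← IsScalarTower.algebraMap_apply k K K', ← IsScalarTower.algebraMap_apply k' k'' K'',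
      IsScalarTower.algebraMap_apply k k' K', ← IsScalarTower.algebraMap_apply k' K' K'']
  have _ : Algebra.IsAlgebraic k k'' := Algebra.IsAlgebraic.trans k k' k''
  have _ : Algebra.IsIntegral k' k'' := inferInstance
  apply le_antisymm
  · intro z hz
    rcases K660.Places.le_or_inv_le Q (algebraMap K K' x) with hQ | hQ
    · exact PlaceLoc.mem_adjoin_of_isIntegral h1 h2 hx S₁ hS₁ j₁ hg₁ Q hQ z hz
    · rw [← map_inv₀] at hQ
      exact PlaceLoc.mem_adjoin_of_isIntegral h1 h2 hx.inv S₂ hS₂ j₂ hg₂ Q hQ z hz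
  · exact adjoin_le Q

end K668.NonsingExt

namespace K668.NonsingExt

open FunFld TensorProduct K660.Places ConstExt ScalarGen

universe u v w w'

/-- `ScalarGen.gen_all` with an abstract field `E`. -/
theorem gen_abs {k : Type u} {K : Type v} [Field k] [Field K] [Algebra k K] (hg : IsGeometric k K) {x : K}
    (hx : IsGen k K x) (A : Type w) [Field A]
    [Algebra k A] [Algebra.IsAlgebraic k A] [IsAlgClosed A] :
    ∃ (E : Type w) (_ : Field E) (_ : Algebra k E), Nonempty (E →ₐ[k] A) ∧ FiniteDimensional k E ∧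
      IsPurelyInseparable k E ∧
      ∃ S : Finset (E ⊗[k] K), (∀ s ∈ S, Intg k (1 ⊗ₜ x : E ⊗[k] K) s) ∧
      ∀ (L : Type w') [Field L] [Algebra k L] [Algebra.IsAlgebraic k L] (j : E →ₐ[k] L),
        Gens k x E (S : Set (E ⊗[k] K)) L j := by
  obtain ⟨E, h1, h2, S, hS, hg⟩ := gen_all hg hx A
  exact ⟨E, inferInstance, inferInstance, ⟨E.val⟩, h1, h2, S, hS, hg⟩

theorem exists_pair {k : Type u} [Field k] (A : Type w) [Field A] [Algebra k A]
    {E₁ E₂ : Type*} [Field E₁] [Algebra k E₁] [Field E₂] [Algebra k E₂] (e₁ : E₁ →ₐ[k] A) (e₂ : E₂ →ₐ[k] A)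
    (f₁ : FiniteDimensional k E₁)
    (p₁ : IsPurelyInseparable k E₁) (f₂ : FiniteDimensional k E₂) (p₂ : IsPurelyInseparable k E₂) :
    ∃ (k' : Type w) (_ : Field k') (_ : Algebra k k'), FiniteDimensional k k' ∧
      IsPurelyInseparable k k' ∧ Nonempty (k' →ₐ[k] A) ∧ Nonempty (E₁ →ₐ[k] k') ∧
      Nonempty (E₂ →ₐ[k] k') := by
  have f₁' : FiniteDimensional k e₁.fieldRange :=
    Module.Finite.equiv (AlgEquiv.ofInjectiveField e₁).toLinearEquiv
  have f₂' : FiniteDimensional k e₂.fieldRange :=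
    Module.Finite.equiv (AlgEquiv.ofInjectiveField e₂).toLinearEquiv
  have p₁' : IsPurelyInseparable k e₁.fieldRange :=
    (AlgEquiv.ofInjectiveField e₁).isPurelyInseparable
  have p₂' : IsPurelyInseparable k e₂.fieldRange :=
    (AlgEquiv.ofInjectiveField e₂).isPurelyInseparable
  refine ⟨↥(e₁.fieldRange ⊔ e₂.fieldRange), inferInstance, inferInstance,
    IntermediateField.finiteDimensional_sup _ _, ?_, ⟨IntermediateField.val _⟩, ?_, ?_⟩
  · rw [← le_perfectClosure_iff] at p₁' p₂' ⊢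
    exact sup_le p₁' p₂'
  · exact ⟨(IntermediateField.inclusion le_sup_left).comp (AlgEquiv.ofInjectiveField e₁).toAlgHom⟩
  · exact ⟨(IntermediateField.inclusion le_sup_right).comp (AlgEquiv.ofInjectiveField e₂).toAlgHom⟩

/-- The conclusion for a fixed `k'` receiving both `E₁` and `E₂`. -/
theorem final {k : Type u} {K : Type v} [Field k] [Field K] [Algebra k K] {x : K} (hx : IsGen k K x)
    {E₁ : Type*} [Field E₁] [Algebra k E₁] (S₁ : Set (E₁ ⊗[k] K))
    (hS₁ : ∀ s ∈ S₁, Intg k (1 ⊗ₜ x : E₁ ⊗[k] K) s)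
    {E₂ : Type*} [Field E₂] [Algebra k E₂] (S₂ : Set (E₂ ⊗[k] K))
    (hS₂ : ∀ s ∈ S₂, Intg k (1 ⊗ₜ x⁻¹ : E₂ ⊗[k] K) s)
    (hg₁ : ∀ (L : Type u) [Field L] [Algebra k L] [Algebra.IsAlgebraic k L] (j : E₁ →ₐ[k] L),
      Gens k x E₁ S₁ L j)
    (hg₂ : ∀ (L : Type u) [Field L] [Algebra k L] [Algebra.IsAlgebraic k L] (j : E₂ →ₐ[k] L),
      Gens k x⁻¹ E₂ S₂ L j)
    (k' : Type u) [Field k'] [Algebra k k'] [FiniteDimensional k k'] (j₁ : E₁ →ₐ[k] k')
    (j₂ : E₂ →ₐ[k] k') :
    ∀ (K' : Type v) [Field K'] [Algebra K K'] [Algebra k' K'] [Algebra k K']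
        [IsScalarTower k k' K'] [IsScalarTower k K K'],
        Function.Bijective (Algebra.TensorProduct.productMap
          (IsScalarTower.toAlgHom k k' K') (IsScalarTower.toAlgHom k K K')) →
        ∀ (Q : FunFld.Place k' K') (k'' : Type u) [Field k''] [Algebra k' k''] [FiniteDimensional k' k'']
          (K'' : Type v) [Field K''] [Algebra K' K''] [Algebra k'' K''] [Algebra k' K'']
          [IsScalarTower k' k'' K''] [IsScalarTower k' K' K''],
          Function.Bijective (Algebra.TensorProduct.productMap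
            (IsScalarTower.toAlgHom k' k'' K'') (IsScalarTower.toAlgHom k' K' K'')) →
          integralClosure (Q.O.toSubring.map (algebraMap K' K'')) K'' =
            Algebra.adjoin (Q.O.toSubring.map (algebraMap K' K'')) (Set.range (algebraMap k'' K'')) := by
  intro K' _ _ _ _ _ _ h1 Q k'' _ _ _ K'' _ _ _ _ _ _ h2
  have i1 : Algebra.IsAlgebraic k k' := inferInstance
  have i2 : Algebra.IsAlgebraic k' k'' := inferInstance
  refine integralClosure_eq h1 h2 hx S₁ hS₁ j₁ S₂ hS₂ j₂ ?_ ?_ Q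
  · intro _ _
    have _ : Algebra.IsAlgebraic k k'' := Algebra.IsAlgebraic.trans k k' k''
    exact hg₁ k'' _
  · intro _ _
    have _ : Algebra.IsAlgebraic k k'' := Algebra.IsAlgebraic.trans k k' k''
    exact hg₂ k'' _

end K668.NonsingExt
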