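import Groth.Agent.FunFld.K668.Orders

/-!
# Jumps of a sequence of vectors preceded by one more vector
-/

set_option autoImplicit false

namespace K668.Orders

open FunFld Submodule

variable {R M : Type*} [Field R] [AddCommGroup M] [Module R M]

/-- The sequence `w, D 0, D 1, …`. -/
def consSeq (w : M) (D : ℕ → M) : ℕ → M
  | 0 => w
  | j + 1 => D j

theorem V_consSeq (w : M) (D : ℕ → M) (j : ℕ) :
    (V (consSeq w D) (j + 1) : Submodule R M) = span R {w} ⊔ V D j := by
  rw [V, V, ← span_union]
  congr 1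
  ext x
  constructor
  · rintro ⟨i, hi, rfl⟩
    cases i with
    | zero => exact Or.inl rfl
    | succ i => exact Or.inr ⟨i, by simpa using hi, rfl⟩
  · rintro (rfl | ⟨i, hi, rfl⟩)
    · exact ⟨0, Nat.succ_pos _, rfl⟩
    · exact ⟨i + 1, by simpa using hi, rfl⟩

/-- Inserting a vector `w`, lying in the flag first at step `m + 1`, in front of the sequence
`D` removes exactly the jump `m`. -/
theorem isJump_consSeq_iff (w : M) (D : ℕ → M) (m : ℕ) (hm : w ∈ (V D (m + 1) : Submodule R M))
    (hm' : w ∉ (V D m : Submodule R M)) :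
    IsJump R D m ∧ ∀ j, IsJump R (consSeq w D) (j + 1) ↔ (IsJump R D j ∧ j ≠ m) := by
  have hDm : IsJump R D m := by
    rw [isJump_iff]
    intro h
    rw [h] at hm'
    exact hm' hm
  refine ⟨hDm, fun j => ?_⟩
  have e : ∀ j, IsJump R (consSeq w D) (j + 1) ↔ D j ∉ (span R {w} ⊔ V D j : Submodule R M) :=
    fun j => by rw [← V_consSeq]; rfl
  rw [e]
  rcases lt_trichotomy j m with h | h | h
  · have : (D j ∈ (span R {w} ⊔ V D j : Submodule R M)) ↔ D j ∈ (V D j : Submodule R M) := by
      refine ⟨fun h1 => ?_, fun h1 => mem_sup_right h1⟩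
      rw [mem_sup] at h1
      obtain ⟨u, hu, v, hv, huv⟩ := h1
      rw [mem_span_singleton] at hu
      obtain ⟨a, rfl⟩ := hu
      by_cases ha : a = 0
      · rw [ha, zero_smul, zero_add] at huv
        rwa [← huv]
      · exfalso
        apply hm'
        have : w = a⁻¹ • (D j - v) := by
          rw [← huv, add_sub_cancel_right, smul_smul, inv_mul_cancel₀ ha, one_smul]
        rw [this]
        exact smul_mem _ _ (sub_mem (mem_V D h) (V_mono D h.le hv))
    rw [this]
    exact ⟨fun h1 => ⟨h1, h.ne⟩, fun h1 => h1.1⟩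
  · subst h
    refine ⟨fun h1 => absurd ?_ h1, fun h1 => absurd rfl h1.2⟩
    rw [V_succ, mem_sup] at hm
    obtain ⟨u, hu, v, hv, huv⟩ := hm
    rw [mem_span_singleton] at hv
    obtain ⟨a, rfl⟩ := hv
    have ha : a ≠ 0 := by
      rintro rfl
      rw [zero_smul, add_zero] at huv
      exact hm' (huv ▸ hu)
    have : D j = a⁻¹ • (w - u) := by
      rw [← huv, add_sub_cancel_left, smul_smul, inv_mul_cancel₀ ha, one_smul]
    rw [this]
    exact smul_mem _ _ (sub_mem (mem_sup_left (mem_span_singleton_self _)) (mem_sup_right hu))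
  · have hw : w ∈ (V D j : Submodule R M) := V_mono D (by omega) hm
    have : (span R {w} ⊔ V D j : Submodule R M) = V D j :=
      sup_eq_right.2 ((span_singleton_le_iff_mem _ _).2 hw)
    rw [this]
    exact ⟨fun h1 => ⟨h1, h.ne'⟩, fun h1 => h1.1⟩

/-- For a sequence of orders of full length the flag is eventually everything. -/
theorem Enum.exists_V_eq_top {m : ℕ} {c : ℕ → Fin m → R} {q : Fin m → ℕ} (h : Enum R c q) :
    ∃ N, ∀ j, N ≤ j → (V c j : Submodule R (Fin m → R)) = ⊤ := by
  classical
  refine ⟨(Finset.univ.sup q) + 1, fun j hj => ?_⟩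
  rw [eq_top_iff]
  have h1 : (⊤ : Submodule R (Fin m → R)) ≤ span R (Set.range fun i => c (q i)) :=
    top_le_iff.2 (h.linearIndependent.span_eq_top_of_card_eq_finrank' (by simp))
  refine h1.trans ?_
  rw [span_le]
  rintro _ ⟨i, rfl⟩
  refine mem_V c ?_
  have : q i ≤ Finset.univ.sup q := Finset.le_sup (Finset.mem_univ i)
  omega

section Hcol

variable {k K : Type*} [Field k] [Field K] [Algebra k K]

/-- The sequence of columns of Hasse derivatives. -/
noncomputable def dcol {ι : Type*} (H : K →ₐ[k] PowerSeries K) (φ : ι → K) (j : ℕ) (i : ι) : K :=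
  LocRes.hasseD H j (φ i)

theorem hcol_eq {ι : Type*} (τ : K →ₐ[k] K) (H : K →ₐ[k] PowerSeries K) (φ : ι → K) :
    hcol τ H φ = consSeq (fun i => τ (φ i)) (dcol H φ) := by
  funext j
  cases j <;> rfl

end Hcol

end K668.Orders
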