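import Groth.Agent.FunFld.K668.ScalarGen
import Groth.Agent.FunFld.K668.ConstExt

/-!
# Denominators at a place; towers of constant extensions
-/

set_option autoImplicit false

namespace K668.PlaceLoc

open FunFld TensorProduct K660.Places IsDedekindDomain

section Loc

variable {k K : Type*} [Field k] [Field K] [Algebra k K]

attribute [local instance] instDed instFrac

/-- An element integral at `Q` is a quotient of elements integral over `k[t]` with denominator a unit at
`Q`. -/
theorem exists_denominator {t : K} (h : IsGen k K t) (Q : Place k K) (hQ : Q.1 t ≤ 1) {a : K}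
    (ha : Q.1 a ≤ 1) : ∃ s : K, IsIntegral (Algebra.adjoin k {t}) s ∧ Q.1 s = 1 ∧
      IsIntegral (Algebra.adjoin k {t}) (s * a) := by
  have _ : Fact (IsGen k K t) := ⟨h⟩
  obtain ⟨p, rfl⟩ := exists_ofPrime_eq (t := t) Q hQ
  have h1 : a ∈ HeightOneSpectrum.valuationSubringAtPrime K p := by
    rw [HeightOneSpectrum.valuationSubringAtPrime_eq_valuationSubring]
    exact ha
  obtain ⟨b, s, hs, rfl⟩ := h1
  refine ⟨algebraMap _ K s, s.2, ?_, ?_⟩
  · rw [ofPrime_val]
    exact (p.valuation_eq_one_iff_notMem (K := K) (r := s)).2 hs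
  · have hs0 : (algebraMap _ K s : K) ≠ 0 := by
      intro h0
      rw [FaithfulSMul.algebraMap_eq_zero_iff] at h0
      rw [h0] at hs
      exact hs (zero_mem _)
    have : algebraMap (integralClosure (Algebra.adjoin k {t}) K) K s *
        (algebraMap (integralClosure (Algebra.adjoin k {t}) K) K b *
          (algebraMap (integralClosure (Algebra.adjoin k {t}) K) K s)⁻¹) = algebraMap _ K b := by
      field_simp
    rw [this]
    exact b.2

theorem exists_denominator_finset {t : K} (h : IsGen k K t) (Q : Place k K) (hQ : Q.1 t ≤ 1)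
    (S : Finset K) (hS : ∀ a ∈ S, Q.1 a ≤ 1) : ∃ s : K, IsIntegral (Algebra.adjoin k {t}) s ∧ Q.1 s = 1 ∧
      ∀ a ∈ S, IsIntegral (Algebra.adjoin k {t}) (s * a) := by
  classical
  induction S using Finset.induction_on with
  | empty => exact ⟨1, isIntegral_one, map_one _, by simp⟩
  | insert a S _ ih =>
    obtain ⟨s, hs, hs1, hsS⟩ := ih (fun b hb => hS b (Finset.mem_insert_of_mem hb))
    obtain ⟨r, hr, hr1, hra⟩ := exists_denominator h Q hQ (hS a (Finset.mem_insert_self _ _))
    refine ⟨s * r, hs.mul hr, by rw [map_mul, hs1, hr1, one_mul], fun b hb => ?_⟩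
    rcases Finset.mem_insert.1 hb with rfl | hb
    · rw [mul_assoc]; exact hs.mul hra
    · have : s * r * b = r * (s * b) := by ring
      rw [this]; exact hr.mul (hsS b hb)

end Loc

section Basic

open ConstExt

variable {k k' K K' : Type*} [Field k] [Field k'] [Field K] [Field K']
  [Algebra k k'] [Algebra k K] [Algebra K K'] [Algebra k' K'] [Algebra k K'] [IsScalarTower k k' K']
  [IsScalarTower k K K']

theorem pm_smul (c : k') (w : k' ⊗[k] K) :
    pm k k' K K' (c • w) = algebraMap k' K' c * pm k k' K K' w := by
  induction w using TensorProduct.induction_on with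
  | zero => rw [smul_zero, map_zero, mul_zero]
  | tmul d a => rw [smul_tmul', pm_tmul, pm_tmul, smul_eq_mul, map_mul, mul_assoc]
  | add a b ha hb => rw [smul_add, map_add, map_add, mul_add, ha, hb]

end Basic

section Tower

open ConstExt

variable {k k' k'' K K' K'' : Type*} [Field k] [Field k'] [Field k''] [Field K] [Field K'] [Field K'']
  [Algebra k k'] [Algebra k K] [Algebra K K'] [Algebra k' K'] [Algebra k K'] [IsScalarTower k k' K']
  [IsScalarTower k K K'] [Algebra k' k''] [Algebra K' K''] [Algebra k'' K''] [Algebra k' K'']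
  [IsScalarTower k' k'' K''] [IsScalarTower k' K' K''] [Algebra k k''] [IsScalarTower k k' k'']
  [Algebra K K''] [IsScalarTower K K' K''] [Algebra k K''] [IsScalarTower k k'' K'']
  [IsScalarTower k K K'']

omit [IsScalarTower k k' k''] in
theorem pm_trans (h1 : Function.Bijective (pm k k' K K')) (h2 : Function.Bijective (pm k' k'' K' K'')) :
    Function.Bijective (pm k k'' K K'') := by
  constructor
  · rw [injective_iff_map_eq_zero]
    intro w hw
    let e := Module.Basis.ofVectorSpace k K
    have hli : LinearIndependent k'' (fun i => algebraMap K K'' (e i)) := by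
      have h3 := linearIndependent_map h2 (linearIndependent_map h1 e.linearIndependent)
      simpa only [← IsScalarTower.algebraMap_apply] using h3
    have h4 : ∀ w : k'' ⊗[k] K, pm k k'' K K'' w =
        Finsupp.linearCombination k'' (fun i => algebraMap K K'' (e i)) ((e.baseChange k'').repr w) := by
      intro w
      induction w using TensorProduct.induction_on with
      | zero => rw [map_zero, map_zero, map_zero]
      | tmul c a =>
        have h5 : (e.baseChange k'').repr (c ⊗ₜ[k] a) = c • (e.repr a).mapRange (algebraMap k k'')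
            (map_zero _) := by
          ext i
          rw [Module.Basis.baseChange_repr_tmul, Finsupp.smul_apply, Finsupp.mapRange_apply,
            Algebra.smul_def, smul_eq_mul, mul_comm]
        rw [h5, map_smul, pm_tmul, Algebra.smul_def]
        congr 1
        conv_lhs => rw [← e.linearCombination_repr a]
        rw [Finsupp.linearCombination_apply, Finsupp.linearCombination_apply, Finsupp.sum_mapRange_index
          (by simp), Finsupp.sum, map_sum, Finsupp.sum]
        refine Finset.sum_congr rfl fun i _ => ?_
        rw [Algebra.smul_def, map_mul, Algebra.smul_def, ← IsScalarTower.algebraMap_apply k K K'',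
          ← IsScalarTower.algebraMap_apply k k'' K'']
      | add a b ha hb => rw [map_add, map_add, map_add, ha, hb]
    rw [h4] at hw
    have h6 := (linearIndependent_iff.1 hli) _ hw
    exact (e.baseChange k'').repr.map_eq_zero_iff.1 h6
  · intro z
    obtain ⟨w, rfl⟩ := h2.2 z
    change _ ∈ (pm k k'' K K'').range
    induction w using TensorProduct.induction_on with
    | zero => rw [map_zero]; exact zero_mem _
    | tmul c a =>
      obtain ⟨v, rfl⟩ := h1.2 a
      rw [pm_tmul]
      refine mul_mem ⟨c ⊗ₜ 1, by
        show pm k k'' K K'' (c ⊗ₜ 1) = _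
        rw [pm_tmul, map_one, mul_one]⟩ ?_
      induction v using TensorProduct.induction_on with
      | zero => rw [map_zero, map_zero]; exact zero_mem _
      | tmul d a =>
        refine ⟨algebraMap k' k'' d ⊗ₜ a, ?_⟩
        show pm k k'' K K'' (algebraMap k' k'' d ⊗ₜ a) = _
        rw [pm_tmul, pm_tmul, map_mul, ← IsScalarTower.algebraMap_apply k' k'' K'',
          ← IsScalarTower.algebraMap_apply k' K' K'', ← IsScalarTower.algebraMap_apply K K' K'']
      | add a b ha hb => rw [map_add, map_add]; exact add_mem ha hb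
    | add a b ha hb => rw [map_add]; exact add_mem ha hb

/-- Clearing denominators in an equation of integral dependence. -/
theorem isIntegral_mul {R₀ A : Type*} [CommRing R₀] [CommRing A] [Nontrivial A] [Algebra R₀ A] {p : Polynomial A}
    (hp : p.Monic) {z s : A} (hz : p.eval z = 0) (hs : IsIntegral R₀ s)
    (hc : ∀ i, i < p.natDegree → IsIntegral R₀ (s * p.coeff i)) : IsIntegral R₀ (s * z) := by
  have hdeg : p.natDegree ≠ 0 := by
    intro h0
    rw [Polynomial.Monic.natDegree_eq_zero hp] at h0
    rw [h0, Polynomial.eval_one] at hz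
    exact one_ne_zero hz
  refine IsIntegral.of_aeval_monic_of_isIntegral_coeff (p := p.scaleRoots s)
    ((Polynomial.monic_scaleRoots_iff s).2 hp) (by rwa [Polynomial.natDegree_scaleRoots]) ?_ ?_
  · have h1 := Polynomial.scaleRoots_eval₂_eq_zero (p := p) (RingHom.id A) (r := z) (s := s)
      (by rw [Polynomial.eval₂_id]; exact hz)
    rw [Polynomial.eval₂_id, RingHom.id_apply] at h1
    rw [h1]
    exact isIntegral_zero
  · intro i
    rw [Polynomial.coeff_scaleRoots]
    rcases lt_trichotomy i p.natDegree with h | h | h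
    · have h2 : p.coeff i * s ^ (p.natDegree - i) = (s * p.coeff i) * s ^ (p.natDegree - i - 1) := by
        obtain ⟨d, hd⟩ : ∃ d, p.natDegree - i = d + 1 := ⟨p.natDegree - i - 1, by omega⟩
        rw [hd, Nat.add_sub_cancel]
        ring
      rw [h2]
      exact (hc i h).mul (hs.pow _)
    · rw [h, Nat.sub_self, pow_zero, mul_one, Polynomial.Monic.coeff_natDegree hp]
      exact isIntegral_one
    · rw [Polynomial.coeff_eq_zero_of_natDegree_lt h, zero_mul]
      exact isIntegral_zero

open ScalarGen in
/-- An element of `K'' = k'' ⊗ K'` integral over the valuation ring of the place `Q` of `K'` is in the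
ring generated by `k''`, as soon as `k''[y]`-integral elements are generated by elements of `K'`. -/
theorem mem_adjoin_of_isIntegral (h1 : Function.Bijective (pm k k' K K'))
    (h2 : Function.Bijective (pm k' k'' K' K'')) [Algebra.IsAlgebraic k k']
    {E : Type*} [Field E] [Algebra k E] {y : K} (hy : IsGen k K y) (S : Set (E ⊗[k] K))
    (hS : ∀ s ∈ S, Intg k (1 ⊗ₜ y : E ⊗[k] K) s) (j : E →ₐ[k] k')
    (hgen : ∀ z : k'' ⊗[k] K, Intg k (1 ⊗ₜ y : k'' ⊗[k] K) z → z ∈ Submodule.span k'' (pows (1 ⊗ₜ y)
      (Algebra.TensorProduct.map ((IsScalarTower.toAlgHom k k' k'').comp j) (AlgHom.id k K) '' S)))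
    (Q : Place k' K') (hQ : Q.1 (algebraMap K K' y) ≤ 1) (z : K'')
    (hz : IsIntegral (Q.O.toSubring.map (algebraMap K' K'')) z) :
    z ∈ Algebra.adjoin (Q.O.toSubring.map (algebraMap K' K'')) (Set.range (algebraMap k'' K'')) := by
  classical
  have hy' : IsGen k' K' (algebraMap K K' y) := ConstExt.isGen h1 hy
  set R := Q.O.toSubring.map (algebraMap K' K'') with hR
  obtain ⟨p, hp, hpz⟩ := hz
  have hcoef : ∀ i, ∃ a : K', Q.1 a ≤ 1 ∧ algebraMap K' K'' a = (p.coeff i : K'') := fun i => by
    obtain ⟨a, ha, hai⟩ := (p.coeff i).2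
    exact ⟨a, ha, hai⟩
  choose a ha hai using hcoef
  obtain ⟨s, hs, hs1, hsa⟩ := exists_denominator_finset hy' Q hQ ((Finset.range p.natDegree).image a)
    (fun b hb => by
      obtain ⟨i, -, rfl⟩ := Finset.mem_image.1 hb
      exact ha i)
  have hs0 : s ≠ 0 := by
    rintro rfl
    rw [map_zero] at hs1
    exact zero_ne_one hs1
  set y'' : K'' := algebraMap K' K'' (algebraMap K K' y) with hy''
  have hup : ∀ b : K', IsIntegral (Algebra.adjoin k' {algebraMap K K' y}) b →
      IsIntegral (Algebra.adjoin k' {y''}) (algebraMap K' K'' b) := by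
    intro b hb
    rw [← intg_iff] at hb ⊢
    exact hb.map (IsScalarTower.toAlgHom k' K' K'')
  have hsz : IsIntegral (Algebra.adjoin k' {y''}) (algebraMap K' K'' s * z) := by
    refine isIntegral_mul (p := p.map (algebraMap R K'')) (hp.map _) ?_ (hup s hs) ?_
    · rw [Polynomial.eval_map]; exact hpz
    · intro i hi
      rw [hp.natDegree_map] at hi
      have h3 : (p.map (algebraMap R K'')).coeff i = algebraMap K' K'' (a i) := by
        rw [Polynomial.coeff_map, hai]
        rfl
      rw [h3, ← map_mul]
      exact hup _ (hsa _ (Finset.mem_image_of_mem _ (Finset.mem_range.2 hi)))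
  have _ : IsScalarTower k k' K'' := by
    refine IsScalarTower.of_algebraMap_eq fun c => ?_
    rw [IsScalarTower.algebraMap_apply k k'' K'', IsScalarTower.algebraMap_apply k k' k'',
      ← IsScalarTower.algebraMap_apply k' k'' K'']
  have hszk : Intg k y'' (algebraMap K' K'' s * z) := by
    rw [← intg_iff] at hsz
    exact hsz.of_isAlgebraic
  have h12 : Function.Bijective (pm k k'' K K'') := pm_trans h1 h2
  let e : k'' ⊗[k] K ≃ₐ[k] K'' := AlgEquiv.ofBijective _ h12
  have he : ∀ w, e w = pm k k'' K K'' w := fun _ => rfl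
  have hey : e.symm y'' = 1 ⊗ₜ y := by
    rw [AlgEquiv.symm_apply_eq, he, pm_tmul, map_one, one_mul, hy'', ← IsScalarTower.algebraMap_apply]
  have h4 : Intg k (e.symm y'') (e.symm (algebraMap K' K'' s * z)) :=
    hszk.map (e.symm : K'' →ₐ[k] k'' ⊗[k] K)
  rw [hey] at h4
  have h5 := hgen _ h4
  have h6 : ∀ w ∈ Submodule.span k'' (pows (1 ⊗ₜ y) (Algebra.TensorProduct.map
      ((IsScalarTower.toAlgHom k k' k'').comp j) (AlgHom.id k K) '' S)),
      (algebraMap K' K'' s)⁻¹ * pm k k'' K K'' w ∈ Algebra.adjoin R (Set.range (algebraMap k'' K'')) := by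
    intro w hw
    induction hw using Submodule.span_induction with
    | mem w hw =>
      obtain ⟨m, _, ⟨b, hb, rfl⟩, rfl⟩ := hw
      have h7 : ∀ b : E ⊗[k] K, pm k k'' K K'' (Algebra.TensorProduct.map
          ((IsScalarTower.toAlgHom k k' k'').comp j) (AlgHom.id k K) b) =
          algebraMap K' K'' (pm k k' K K' (Algebra.TensorProduct.map j (AlgHom.id k K) b)) := by
        intro b
        induction b using TensorProduct.induction_on with
        | zero => simp only [map_zero]
        | tmul c d =>
          rw [Algebra.TensorProduct.map_tmul, Algebra.TensorProduct.map_tmul, pm_tmul, pm_tmul, map_mul,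
            ← IsScalarTower.algebraMap_apply K K' K'', ← IsScalarTower.algebraMap_apply k' K' K'',
            IsScalarTower.algebraMap_apply k' k'' K'']
          rfl
        | add a b ha hb => simp only [map_add, ha, hb]
      rw [map_mul, map_pow, pm_tmul, map_one, one_mul, h7, IsScalarTower.algebraMap_apply K K' K'',
        ← map_inv₀, ← map_pow, ← map_mul, ← map_mul]
      set b' := pm k k' K K' (Algebra.TensorProduct.map j (AlgHom.id k K) b) with hb'
      have h8 : Q.1 b' ≤ 1 := by
        have h9 := ((hS b hb).map (Algebra.TensorProduct.map j (AlgHom.id k K))).map (pm k k' K K')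
        rw [Algebra.TensorProduct.map_tmul, map_one, pm_tmul, map_one, one_mul] at h9
        have h10 := h9.tower_top (L := k')
        rw [intg_iff] at h10
        exact val_le_one_of_isIntegral Q (fun r => val_adjoin_le Q hQ r) h10
      have h9 : Q.1 (s⁻¹ * ((algebraMap K K' y) ^ m * b')) ≤ 1 := by
        rw [map_mul, map_inv₀, hs1, inv_one, one_mul, map_mul, map_pow]
        exact mul_le_one' (pow_le_one' hQ m) h8
      have h10 : algebraMap K' K'' (s⁻¹ * ((algebraMap K K' y) ^ m * b')) ∈ R := ⟨_, h9, rfl⟩
      exact Subalgebra.algebraMap_mem (Algebra.adjoin R (Set.range (algebraMap k'' K'')))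
        (⟨_, h10⟩ : R)
    | zero => rw [map_zero, mul_zero]; exact zero_mem _
    | add a b _ _ ha hb => rw [map_add, mul_add]; exact add_mem ha hb
    | smul c w _ hw =>
      rw [pm_smul, mul_left_comm]
      exact mul_mem (Algebra.subset_adjoin ⟨c, rfl⟩) hw
  have h7 := h6 _ h5
  rw [← he, AlgEquiv.apply_symm_apply, inv_mul_cancel_left₀] at h7
  · exact h7
  · rwa [Ne, map_eq_zero]

end Tower

end K668.PlaceLoc
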