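import Groth.Agent.FunFld.K668.Descent
import Groth.Agent.FunFld.K668.ConstExt
import Groth.Agent.FunFld.K661.Geom
import Groth.Agent.FunFld.K660.Ded

/-!
# Uniform generation of integral closures under extension of the constant field

`K/k` a geometric function field, `x` transcendental. There is a finite purely inseparable `E/k` such that
for all algebraic `L/E` the elements of `L ⊗ K` integral over `k[x]` form the `L`-span of those of
`E ⊗ K`; more precisely finitely many elements of `E ⊗ K` integral over `k[x]` generate them over `L[x]`.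
-/

set_option autoImplicit false

namespace K668.ScalarGen

open FunFld TensorProduct Polynomial

section Intg

variable {k : Type*} [Field k] {R R' : Type*} [CommRing R] [Algebra k R] [CommRing R'] [Algebra k R']

/-- `z` is integral over `k[y]`. -/
def Intg (k : Type*) [Field k] {R : Type*} [CommRing R] [Algebra k R] (y z : R) : Prop :=
  ∃ p : k[X][X], p.Monic ∧ eval₂ (aeval y : k[X] →ₐ[k] R).toRingHom z p = 0

theorem hom_aux (f : R →ₐ[k] R') (y z : R) (p : k[X][X]) :
    f (eval₂ (aeval y : k[X] →ₐ[k] R).toRingHom z p) =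
      eval₂ (aeval (f y) : k[X] →ₐ[k] R').toRingHom (f z) p := by
  have h1 : f.toRingHom (eval₂ (aeval y : k[X] →ₐ[k] R).toRingHom z p) =
      eval₂ (f.toRingHom.comp (aeval y : k[X] →ₐ[k] R).toRingHom) (f.toRingHom z) p := hom_eval₂ _ _ _ _
  have h2 : f.toRingHom.comp (aeval y : k[X] →ₐ[k] R).toRingHom =
      (aeval (f y) : k[X] →ₐ[k] R').toRingHom := by
    ext q
    · simp
    · simp
  rw [h2] at h1
  exact h1

theorem Intg.map {y z : R} (h : Intg k y z) (f : R →ₐ[k] R') : Intg k (f y) (f z) := by
  obtain ⟨p, hp, hpz⟩ := h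
  exact ⟨p, hp, by rw [← hom_aux, hpz, map_zero]⟩

theorem Intg.of_map {y z : R} {f : R →ₐ[k] R'} (hf : Function.Injective f) (h : Intg k (f y) (f z)) :
    Intg k y z := by
  obtain ⟨p, hp, hpz⟩ := h
  refine ⟨p, hp, hf ?_⟩
  rw [hom_aux, hpz, map_zero]

/-- The map `k[X] → k[y]`. -/
noncomputable def toAdj (y : R) : k[X] →ₐ[k] Algebra.adjoin k {y} :=
  aeval ⟨y, Algebra.self_mem_adjoin_singleton k y⟩

theorem toAdj_surjective (y : R) : Function.Surjective (toAdj (k := k) y) := by
  rintro ⟨r, hr⟩
  obtain ⟨p, hp⟩ := Algebra.adjoin_mem_exists_aeval k y hr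
  refine ⟨p, Subtype.ext (Eq.trans ?_ hp)⟩
  exact (aeval_algebraMap_apply R (⟨y, Algebra.self_mem_adjoin_singleton k y⟩ :
    Algebra.adjoin k {y}) p).symm

theorem toAdj_comp (y : R) : (algebraMap (Algebra.adjoin k {y}) R).comp (toAdj y).toRingHom =
    (aeval y : k[X] →ₐ[k] R).toRingHom := by
  ext q
  · simp [toAdj]
  · simp [toAdj]

theorem intg_iff (y z : R) : Intg k y z ↔ IsIntegral (Algebra.adjoin k {y}) z := by
  constructor
  · rintro ⟨p, hp, hpz⟩
    refine ⟨p.map (toAdj y).toRingHom, hp.map _, ?_⟩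
    rw [eval₂_map, toAdj_comp, hpz]
  · rintro ⟨p, hp, hpz⟩
    have h1 : p ∈ lifts (toAdj (k := k) y).toRingHom := by
      rw [mem_lifts]
      exact map_surjective _ (toAdj_surjective y) p
    obtain ⟨q, hq, -, hqm⟩ := lifts_and_natDegree_eq_and_monic h1 hp
    refine ⟨q, hqm, ?_⟩
    rw [← hq, eval₂_map, toAdj_comp] at hpz
    exact hpz

theorem intg_self (y : R) : Intg k y y := by
  rw [intg_iff]
  exact isIntegral_algebraMap (R := Algebra.adjoin k {y}) (A := R)
    (x := ⟨y, Algebra.self_mem_adjoin_singleton k y⟩)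

/-- Integrality over `L[y]`, `L/k` algebraic. -/
theorem Intg.of_isAlgebraic {L : Type*} [Field L] [Algebra k L] [Algebra L R] [IsScalarTower k L R]
    [Algebra.IsAlgebraic k L] {y z : R} (h : Intg L y z) : Intg k y z := by
  rw [intg_iff] at h ⊢
  have hL : ∀ c : L, IsIntegral (Algebra.adjoin k {y}) (algebraMap L R c) := fun c => by
    have h1 : IsIntegral k c := Algebra.IsIntegral.isIntegral c
    exact (h1.map (IsScalarTower.toAlgHom k L R)).tower_top
  have h3 : ∀ r ∈ Algebra.adjoin L {y}, IsIntegral (Algebra.adjoin k {y}) r := by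
    intro r hr
    induction hr using Algebra.adjoin_induction with
    | mem r hr =>
      rw [Set.mem_singleton_iff.1 hr, ← intg_iff]
      exact intg_self y
    | algebraMap c => exact hL c
    | add a b _ _ ha hb => exact ha.add hb
    | mul a b _ _ ha hb => exact ha.mul hb
  -- transitivity through the integral closure
  set C := integralClosure (Algebra.adjoin k {y}) R with hC
  have h4 : IsIntegral C z := by
    obtain ⟨p, hp, hpz⟩ := h
    let g : Algebra.adjoin L {y} →+* C :=
      { toFun := fun r => ⟨r, h3 r r.2⟩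
        map_one' := rfl
        map_mul' := fun _ _ => rfl
        map_zero' := rfl
        map_add' := fun _ _ => rfl }
    refine ⟨p.map g, hp.map _, ?_⟩
    rw [eval₂_map]
    exact hpz
  exact isIntegral_trans z h4

theorem Intg.tower_top {L : Type*} [Field L] [Algebra k L] [Algebra L R] [IsScalarTower k L R]
    {y z : R} (h : Intg k y z) : Intg L y z := by
  obtain ⟨p, hp, hpz⟩ := h
  refine ⟨p.map (mapRingHom (algebraMap k L)), hp.map _, ?_⟩
  rw [eval₂_map]
  have : (aeval y : L[X] →ₐ[L] R).toRingHom.comp (mapRingHom (algebraMap k L)) =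
      (aeval y : k[X] →ₐ[k] R).toRingHom := by
    ext q
    · simp [← IsScalarTower.algebraMap_apply]
    · simp
  rw [this, hpz]

end Intg

section Field

universe u v w

variable {k : Type u} {K : Type v} [Field k] [Field K] [Algebra k K]

/-- Every element of `A ⊗ K` comes from a finite subextension. -/
theorem exists_finite_range {A : Type w} [Field A] [Algebra k A] [Algebra.IsAlgebraic k A]
    (z : A ⊗[k] K) : ∃ E : IntermediateField k A, FiniteDimensional k E ∧
      z ∈ (Algebra.TensorProduct.map E.val (AlgHom.id k K)).range := by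
  induction z using TensorProduct.induction_on with
  | zero => exact ⟨⊥, inferInstance, zero_mem _⟩
  | tmul c a =>
    refine ⟨IntermediateField.adjoin k {c},
      IntermediateField.adjoin.finiteDimensional (Algebra.IsAlgebraic.isAlgebraic c).isIntegral,
      ⟨⟨c, IntermediateField.mem_adjoin_simple_self k c⟩ ⊗ₜ a, rfl⟩⟩
  | add a b ha hb =>
    obtain ⟨E, hE, a, rfl⟩ := ha
    obtain ⟨F, hF, b, rfl⟩ := hb
    refine ⟨E ⊔ F, IntermediateField.finiteDimensional_sup E F, ?_⟩
    refine add_mem ?_ ?_
    · refine ⟨Algebra.TensorProduct.map (IntermediateField.inclusion (le_sup_left : E ≤ E ⊔ F))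
        (AlgHom.id k K) a, ?_⟩
      induction a using TensorProduct.induction_on with
      | zero => rfl
      | tmul c a => rfl
      | add a b ha hb =>
        simp only [RingHom.coe_coe, AlgHom.toRingHom_eq_coe, map_add] at ha hb ⊢
        rw [ha, hb]
    · refine ⟨Algebra.TensorProduct.map (IntermediateField.inclusion (le_sup_right : F ≤ E ⊔ F))
        (AlgHom.id k K) b, ?_⟩
      induction b using TensorProduct.induction_on with
      | zero => rfl
      | tmul c a => rfl
      | add a b ha hb =>
        simp only [RingHom.coe_coe, AlgHom.toRingHom_eq_coe, map_add] at ha hb ⊢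
        rw [ha, hb]

theorem isField_tensor (hg : IsGeometric k K) (A : Type w) [Field A] [Algebra k A]
    [Algebra.IsAlgebraic k A] : IsField (A ⊗[k] K) where
  exists_pair_ne := exists_pair_ne _
  mul_comm := mul_comm
  mul_inv_cancel := by
    intro a ha
    obtain ⟨E, hE, a, rfl⟩ := exists_finite_range a
    have h1 := K661.Geom.isField hg E
    have ha' : a ≠ 0 := by
      rintro rfl
      exact ha (map_zero _)
    obtain ⟨b, hb⟩ := h1.mul_inv_cancel ha'
    refine ⟨Algebra.TensorProduct.map E.val (AlgHom.id k K) b, ?_⟩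
    have h2 := congrArg (Algebra.TensorProduct.map E.val (AlgHom.id k K)) hb
    rw [map_mul, map_one] at h2
    exact h2

/-- A field isomorphic to `A ⊗ K`. -/
theorem exists_model (hg : IsGeometric k K) (A : Type w) [Field A] [Algebra k A]
    [Algebra.IsAlgebraic k A] : ∃ (Ω : Type (max w v)) (_ : Field Ω) (_ : Algebra A Ω) (_ : Algebra K Ω)
      (_ : Algebra k Ω) (_ : IsScalarTower k A Ω) (_ : IsScalarTower k K Ω),
      Function.Bijective (ConstExt.pm k A K Ω) := by
  have hF := isField_tensor hg A
  have hdom : IsDomain (A ⊗[k] K) := hF.isDomain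
  let Ω := FractionRing (A ⊗[k] K)
  let i1 : Algebra K Ω :=
    ((algebraMap (A ⊗[k] K) Ω).comp (Algebra.TensorProduct.includeRight : K →ₐ[k] A ⊗[k] K).toRingHom).toAlgebra
  have i2 : IsScalarTower k K Ω := by
    refine IsScalarTower.of_algebraMap_eq fun c => ?_
    rw [IsScalarTower.algebraMap_apply k (A ⊗[k] K) Ω]
    change _ = algebraMap (A ⊗[k] K) Ω
      ((Algebra.TensorProduct.includeRight : K →ₐ[k] A ⊗[k] K) (algebraMap k K c))
    rw [AlgHom.commutes]
  refine ⟨Ω, inferInstance, inferInstance, i1, inferInstance, inferInstance, i2, ?_⟩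
  have h1 : ∀ w, ConstExt.pm k A K Ω w = algebraMap (A ⊗[k] K) Ω w := by
    intro w
    induction w using TensorProduct.induction_on with
    | zero => rw [map_zero, map_zero]
    | tmul c a =>
      rw [ConstExt.pm_tmul]
      have h2 : (c ⊗ₜ[k] a : A ⊗[k] K) = (c ⊗ₜ 1) * (1 ⊗ₜ a) := by simp
      rw [h2, map_mul, IsScalarTower.algebraMap_apply A (A ⊗[k] K) Ω]
      rfl
    | add a b ha hb => rw [map_add, map_add, ha, hb]
  have h2 : (ConstExt.pm k A K Ω : A ⊗[k] K → Ω) = algebraMap (A ⊗[k] K) Ω := funext h1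
  rw [h2]
  refine ⟨IsFractionRing.injective _ _, ?_⟩
  intro z
  obtain ⟨a, b, hb, rfl⟩ := IsFractionRing.div_surjective (A := A ⊗[k] K) z
  obtain ⟨c, hc⟩ := hF.mul_inv_cancel (nonZeroDivisors.ne_zero hb)
  refine ⟨a * c, ?_⟩
  have hb0 : algebraMap (A ⊗[k] K) Ω b ≠ 0 := by
    rw [Ne, IsFractionRing.to_map_eq_zero_iff]
    exact nonZeroDivisors.ne_zero hb
  rw [eq_div_iff hb0, ← map_mul, mul_assoc, mul_comm c b, hc, mul_one]

end Field

section Gen

/-- The multiples by powers of `y` of the elements of `S`. -/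
def pows {R : Type*} [CommRing R] (y : R) (S : Set R) : Set R := {w | ∃ (m : ℕ), ∃ s ∈ S, w = y ^ m * s}

theorem mul_mem_span_pows {A R : Type*} [CommRing A] [CommRing R] [Algebra A R] {y : R} {S : Set R} {w r : R}
    (hr : r ∈ Algebra.adjoin A {y}) (hw : w ∈ Submodule.span A (pows y S)) :
    r * w ∈ Submodule.span A (pows y S) := by
  induction hr using Algebra.adjoin_induction generalizing w with
  | mem r hr =>
    rw [Set.mem_singleton_iff.1 hr]
    induction hw using Submodule.span_induction with
    | mem w hw =>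
      obtain ⟨m, s, hs, rfl⟩ := hw
      exact Submodule.subset_span ⟨m + 1, s, hs, by ring⟩
    | zero => rw [mul_zero]; exact zero_mem _
    | add a b _ _ ha hb => rw [mul_add]; exact add_mem ha hb
    | smul c a _ ha => rw [mul_smul_comm]; exact Submodule.smul_mem _ _ ha
  | algebraMap c => rw [← Algebra.smul_def]; exact Submodule.smul_mem _ _ hw
  | add a b _ _ ha hb => rw [add_mul]; exact add_mem (ha hw) (hb hw)
  | mul a b _ _ ha hb => rw [mul_assoc]; exact ha (hb hw)

theorem gen_field {A Ω : Type*} [Field A] [Field Ω] [Algebra A Ω] {y : Ω} (hy : K660.Places.IsGen A Ω y) :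
    ∃ S : Finset Ω, (∀ s ∈ S, Intg A y s) ∧
      ∀ z, Intg A y z → z ∈ Submodule.span A (pows y (S : Set Ω)) := by
  classical
  obtain ⟨T, hT⟩ := (K660.Ded.finite_integralClosure hy.tr hy.fin).fg_top
  refine ⟨T.image Subtype.val, ?_, ?_⟩
  · intro s hs
    rw [Finset.mem_image] at hs
    obtain ⟨t, -, rfl⟩ := hs
    rw [intg_iff]
    exact t.2
  · intro z hz
    rw [intg_iff] at hz
    have h1 : (⟨z, hz⟩ : integralClosure (Algebra.adjoin A {y}) Ω) ∈
        Submodule.span (Algebra.adjoin A {y}) (T : Set (integralClosure (Algebra.adjoin A {y}) Ω)) := by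
      rw [hT]; exact Submodule.mem_top
    have h2 : ∀ w : integralClosure (Algebra.adjoin A {y}) Ω,
        w ∈ Submodule.span (Algebra.adjoin A {y}) (T : Set (integralClosure (Algebra.adjoin A {y}) Ω)) →
        (w : Ω) ∈ Submodule.span A (pows y ((T.image Subtype.val : Finset Ω) : Set Ω)) := by
      intro w hw
      induction hw using Submodule.span_induction with
      | mem w hw =>
        refine Submodule.subset_span ⟨0, w, ?_, by ring⟩
        rw [Finset.coe_image]
        exact ⟨w, hw, rfl⟩
      | zero => exact zero_mem _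
      | add a b _ _ ha hb => exact add_mem ha hb
      | smul c a _ ha => exact mul_mem_span_pows c.2 ha
    exact h2 _ h1

universe u v w w'

variable {k : Type u} {K : Type v} [Field k] [Field K] [Algebra k K]

theorem gen_tensor (hg : IsGeometric k K) {x : K} (hx : K660.Places.IsGen k K x) (A : Type w) [Field A]
    [Algebra k A] [Algebra.IsAlgebraic k A] :
    ∃ S : Finset (A ⊗[k] K), (∀ s ∈ S, Intg k (1 ⊗ₜ x : A ⊗[k] K) s) ∧
      ∀ z : A ⊗[k] K, Intg k (1 ⊗ₜ x : A ⊗[k] K) z →
        z ∈ Submodule.span A (pows (1 ⊗ₜ x : A ⊗[k] K) (S : Set (A ⊗[k] K))) := by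
  classical
  obtain ⟨Ω, _, _, _, _, _, _, hΩ⟩ := exists_model hg A
  obtain ⟨S, hS, hS2⟩ := gen_field (ConstExt.isGen hΩ hx)
  let e : A ⊗[k] K ≃ₐ[k] Ω := AlgEquiv.ofBijective _ hΩ
  have he : ∀ w, e w = ConstExt.pm k A K Ω w := fun _ => rfl
  have hex : e (1 ⊗ₜ x) = algebraMap K Ω x := by
    rw [he, ConstExt.pm_tmul, map_one, one_mul]
  have hexs : e.symm (algebraMap K Ω x) = 1 ⊗ₜ x := by
    rw [← hex, AlgEquiv.symm_apply_apply]
  have hel : ∀ (c : A) w, e (c • w) = c • e w := by
    intro c w
    rw [he, he]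
    induction w using TensorProduct.induction_on with
    | zero => rw [smul_zero, map_zero, smul_zero]
    | tmul d a =>
      rw [smul_tmul', ConstExt.pm_tmul, ConstExt.pm_tmul, smul_eq_mul, map_mul, Algebra.smul_def, mul_assoc]
    | add a b ha hb => rw [smul_add, map_add, map_add, ha, hb, smul_add]
  refine ⟨S.image e.symm, ?_, ?_⟩
  · intro s hs
    rw [Finset.mem_image] at hs
    obtain ⟨t, ht, rfl⟩ := hs
    have h1 := (hS t ht).of_isAlgebraic (k := k)
    have h2 : Intg k (e.symm (algebraMap K Ω x)) (e.symm t) := h1.map (e.symm : Ω →ₐ[k] A ⊗[k] K)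
    rw [hexs] at h2
    exact h2
  · intro z hz
    have h1 : Intg k (e (1 ⊗ₜ x)) (e z) := hz.map (e : A ⊗[k] K →ₐ[k] Ω)
    rw [hex] at h1
    have h2 := hS2 _ (h1.tower_top (L := A))
    have h3 : ∀ w ∈ Submodule.span A (pows (algebraMap K Ω x) (S : Set Ω)),
        e.symm w ∈ Submodule.span A (pows (1 ⊗ₜ x : A ⊗[k] K) ((S.image e.symm : Finset _) : Set (A ⊗[k] K))) := by
      intro w hw
      induction hw using Submodule.span_induction with
      | mem w hw =>
        obtain ⟨m, s, hs, rfl⟩ := hw
        refine Submodule.subset_span ⟨m, e.symm s, ?_, ?_⟩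
        · rw [Finset.coe_image]; exact ⟨s, hs, rfl⟩
        · rw [map_mul, map_pow, hexs]
      | zero => rw [map_zero]; exact zero_mem _
      | add a b _ _ ha hb => rw [map_add]; exact add_mem ha hb
      | smul c a _ ha =>
        have : e.symm (c • a) = c • e.symm a := by
          rw [AlgEquiv.symm_apply_eq, hel, AlgEquiv.apply_symm_apply]
        rw [this]
        exact Submodule.smul_mem _ _ ha
    have h4 := h3 _ h2
    rw [AlgEquiv.symm_apply_apply] at h4
    exact h4

/-- The submodule of elements of `A ⊗ K` integral over `k[x]`. -/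
def intSub (k : Type u) {K : Type v} [Field k] [Field K] [Algebra k K] (x : K) (A : Type w) [Field A]
    [Algebra k A] [Algebra.IsAlgebraic k A] : Submodule A (A ⊗[k] K) where
  carrier := {z | Intg k (1 ⊗ₜ x : A ⊗[k] K) z}
  add_mem' := by
    intro a b ha hb
    rw [Set.mem_ofPred_eq, intg_iff] at *
    exact ha.add hb
  zero_mem' := by
    rw [Set.mem_ofPred_eq, intg_iff]
    exact isIntegral_zero
  smul_mem' := by
    intro c a ha
    rw [Set.mem_ofPred_eq] at *
    have h1 : Intg A (1 ⊗ₜ x : A ⊗[k] K) a := ha.tower_top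
    have h2 : Intg A (1 ⊗ₜ x : A ⊗[k] K) (c • a) := by
      rw [intg_iff] at h1 ⊢
      rw [Algebra.smul_def]
      refine IsIntegral.mul ?_ h1
      exact isIntegral_algebraMap (R := Algebra.adjoin A {(1 ⊗ₜ x : A ⊗[k] K)})
        (A := A ⊗[k] K) (x := algebraMap A _ c)
    exact h2.of_isAlgebraic

theorem mem_intSub {x : K} {A : Type w} [Field A] [Algebra k A] [Algebra.IsAlgebraic k A]
    {z : A ⊗[k] K} : z ∈ intSub k x A ↔ Intg k (1 ⊗ₜ x : A ⊗[k] K) z := Iff.rfl

/-- Over the algebraic closure, finitely many generators defined over a finite purely inseparable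
extension. -/
theorem gen_closure (hg : IsGeometric k K) {x : K} (hx : K660.Places.IsGen k K x) (A : Type w) [Field A]
    [Algebra k A] [Algebra.IsAlgebraic k A] [IsAlgClosed A] :
    ∃ E : IntermediateField k A, FiniteDimensional k E ∧ IsPurelyInseparable k E ∧
      ∃ S : Finset (E ⊗[k] K), (∀ s ∈ S, Intg k (1 ⊗ₜ x : E ⊗[k] K) s) ∧
      ∀ z : A ⊗[k] K, Intg k (1 ⊗ₜ x : A ⊗[k] K) z →
        z ∈ Submodule.span A (pows (1 ⊗ₜ x : A ⊗[k] K)
          (Algebra.TensorProduct.map E.val (AlgHom.id k K) '' (S : Set (E ⊗[k] K)))) := by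
  classical
  obtain ⟨S, hS, hS2⟩ := gen_tensor hg hx A
  have hdesc := Descent.tensor_descent (intSub k x A) (by
    intro σ w hw
    rw [mem_intSub] at hw ⊢
    have h1 := hw.map (Algebra.TensorProduct.map (σ : A →ₐ[k] A) (AlgHom.id k K))
    rw [Algebra.TensorProduct.map_tmul, map_one] at h1
    exact h1)
  -- finitely many rational vectors whose span contains `S`
  set Rat : Set (A ⊗[k] K) := {w | w ∈ intSub k x A ∧ ∃ E : IntermediateField k A, FiniteDimensional k E ∧
      IsPurelyInseparable k E ∧ w ∈ LinearMap.range (LinearMap.rTensor K E.val.toLinearMap)} with hRat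
  have hfin : ∃ T : Finset (A ⊗[k] K), (T : Set (A ⊗[k] K)) ⊆ Rat ∧
      (S : Set (A ⊗[k] K)) ⊆ Submodule.span A (T : Set (A ⊗[k] K)) := by
    have h1 : (S : Set (A ⊗[k] K)) ⊆ Submodule.span A Rat := fun s hs => hdesc (hS s hs)
    clear hS hS2 hdesc
    induction S using Finset.induction_on with
    | empty => exact ⟨∅, by simp, by simp⟩
    | insert a S _ ih =>
      obtain ⟨T, hT, hST⟩ := ih (fun s hs => h1 (by rw [Finset.coe_insert]; exact Set.mem_insert_of_mem _ hs))
      obtain ⟨T', hT', haT'⟩ := Submodule.mem_span_finite_of_mem_span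
        (h1 (by rw [Finset.coe_insert]; exact Set.mem_insert _ _) : a ∈ Submodule.span A Rat)
      refine ⟨T ∪ T', ?_, ?_⟩
      · rw [Finset.coe_union]; exact Set.union_subset hT hT'
      · rw [Finset.coe_insert, Set.insert_subset_iff]
        constructor
        · exact Submodule.span_mono (by rw [Finset.coe_union]; exact Set.subset_union_right) haT'
        · intro s hs
          exact Submodule.span_mono (by rw [Finset.coe_union]; exact Set.subset_union_left) (hST hs)
  obtain ⟨T, hT, hST⟩ := hfin
  -- a common field of definition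
  have hE : ∃ E : IntermediateField k A, FiniteDimensional k E ∧ IsPurelyInseparable k E ∧
      ∀ t ∈ T, t ∈ (Algebra.TensorProduct.map E.val (AlgHom.id k K)).range := by
    clear hST
    induction T using Finset.induction_on with
    | empty => exact ⟨⊥, inferInstance, inferInstance, by simp⟩
    | insert a T _ ih =>
      obtain ⟨E, hE, hEp, hET⟩ := ih (fun s hs => hT (by rw [Finset.coe_insert]; exact Set.mem_insert_of_mem _ hs))
      obtain ⟨-, F, hF, hFp, ⟨b, hb⟩⟩ := hT (by rw [Finset.coe_insert]; exact Set.mem_insert _ _ :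
        a ∈ ((insert a T : Finset _) : Set _))
      have hmono : ∀ (E F : IntermediateField k A), E ≤ F →
          (Algebra.TensorProduct.map E.val (AlgHom.id k K)).range ≤
          (Algebra.TensorProduct.map F.val (AlgHom.id k K)).range := by
        rintro E F hEF _ ⟨w, rfl⟩
        refine ⟨Algebra.TensorProduct.map (IntermediateField.inclusion hEF) (AlgHom.id k K) w, ?_⟩
        induction w using TensorProduct.induction_on with
        | zero => rfl
        | tmul c a => rfl
        | add a b ha hb =>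
          simp only [RingHom.coe_coe, AlgHom.toRingHom_eq_coe, map_add] at ha hb ⊢
          rw [ha, hb]
      refine ⟨E ⊔ F, IntermediateField.finiteDimensional_sup E F, ?_, ?_⟩
      · rw [← le_perfectClosure_iff] at hEp hFp ⊢
        exact sup_le hEp hFp
      · intro t ht
        rcases Finset.mem_insert.1 ht with rfl | ht
        · exact hmono F _ le_sup_right ⟨b, hb⟩
        · exact hmono E _ le_sup_left (hET t ht)
  obtain ⟨E, hE, hEp, hET⟩ := hE
  have hinj : Function.Injective (Algebra.TensorProduct.map E.val (AlgHom.id k K)) :=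
    Module.Flat.rTensor_preserves_injective_linearMap (M := K) E.val.toLinearMap E.val.injective
  refine ⟨E, hE, hEp, T.preimage (Algebra.TensorProduct.map E.val (AlgHom.id k K)) hinj.injOn, ?_, ?_⟩
  · intro s hs
    rw [Finset.mem_preimage] at hs
    have h1 := (hT hs).1
    rw [mem_intSub] at h1
    refine Intg.of_map hinj ?_
    rw [Algebra.TensorProduct.map_tmul, map_one]
    exact h1
  · intro z hz
    have himg : Algebra.TensorProduct.map E.val (AlgHom.id k K) ''
        (T.preimage (Algebra.TensorProduct.map E.val (AlgHom.id k K)) hinj.injOn : Set (E ⊗[k] K)) =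
        (T : Set (A ⊗[k] K)) := by
      rw [Finset.coe_preimage, Set.image_preimage_eq_iff]
      intro t ht
      obtain ⟨w, hw⟩ := hET t ht
      exact ⟨w, hw⟩
    rw [himg]
    have h1 := hS2 z hz
    refine (Submodule.span_le.2 ?_ : Submodule.span A (pows (1 ⊗ₜ x : A ⊗[k] K) (S : Set (A ⊗[k] K))) ≤ _) h1
    rintro _ ⟨m, s, hs, rfl⟩
    refine mul_mem_span_pows (A := A) (pow_mem (Algebra.self_mem_adjoin_singleton A _) m) ?_
    refine (Submodule.span_mono ?_ : Submodule.span A (T : Set (A ⊗[k] K)) ≤ _) (hST hs)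
    intro t ht
    exact ⟨0, t, ht, by ring⟩

omit [Field K] [Algebra k K] in
/-- A retraction. -/
theorem exists_retraction {L A : Type*} [Field L] [Algebra k L] [Field A] [Algebra k A] (σ : L →ₐ[k] A) :
    ∃ ρ : A →ₗ[k] L, (∀ c a, ρ (σ c * a) = c * ρ a) ∧ ∀ c, ρ (σ c) = c := by
  let _ : Algebra L A := σ.toRingHom.toAlgebra
  have _ : IsScalarTower k L A := IsScalarTower.of_algebraMap_eq fun c => (σ.commutes c).symm
  obtain ⟨ρ, hρ⟩ := LinearMap.exists_leftInverse_of_injective (Algebra.linearMap L A)
    (LinearMap.ker_eq_bot.2 (algebraMap L A).injective)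
  refine ⟨ρ.restrictScalars k, fun c a => ?_, fun c => ?_⟩
  · have := ρ.map_smul c a
    rw [Algebra.smul_def] at this
    exact this
  · exact LinearMap.congr_fun hρ c

/-- The same for every algebraic extension `L` of `E`. -/
theorem gen_all (hg : IsGeometric k K) {x : K} (hx : K660.Places.IsGen k K x) (A : Type w) [Field A]
    [Algebra k A] [Algebra.IsAlgebraic k A] [IsAlgClosed A] :
    ∃ E : IntermediateField k A, FiniteDimensional k E ∧ IsPurelyInseparable k E ∧
      ∃ S : Finset (E ⊗[k] K), (∀ s ∈ S, Intg k (1 ⊗ₜ x : E ⊗[k] K) s) ∧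
      ∀ (L : Type w') [Field L] [Algebra k L] [Algebra.IsAlgebraic k L] (j : E →ₐ[k] L) (z : L ⊗[k] K),
        Intg k (1 ⊗ₜ x : L ⊗[k] K) z →
        z ∈ Submodule.span L (pows (1 ⊗ₜ x : L ⊗[k] K)
          (Algebra.TensorProduct.map j (AlgHom.id k K) '' (S : Set (E ⊗[k] K)))) := by
  obtain ⟨E, hE, hEp, S, hS, hS2⟩ := gen_closure hg hx A
  refine ⟨E, hE, hEp, S, hS, fun L _ _ _ j z hz => ?_⟩
  -- an embedding of `L` into `A` over `E`
  obtain ⟨σ, hσ⟩ : ∃ σ : L →ₐ[k] A, ∀ c : E, σ (j c) = c := by
    let _ : Algebra E L := j.toRingHom.toAlgebra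
    have _ : IsScalarTower k E L := IsScalarTower.of_algebraMap_eq fun c => (j.commutes c).symm
    have _ : Algebra.IsAlgebraic E L := Algebra.IsAlgebraic.tower_top (K := k) E
    let σ : L →ₐ[E] A := IsAlgClosed.lift
    exact ⟨σ.restrictScalars k, fun c => σ.commutes c⟩
  obtain ⟨ρ, hρ, hρ1⟩ := exists_retraction σ
  have h1 := hz.map (Algebra.TensorProduct.map σ (AlgHom.id k K))
  rw [Algebra.TensorProduct.map_tmul, map_one] at h1
  have h2 := hS2 _ h1
  have h3 : ∀ z : L ⊗[k] K, LinearMap.rTensor K ρ (Algebra.TensorProduct.map σ (AlgHom.id k K) z) = z := by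
    intro z
    induction z using TensorProduct.induction_on with
    | zero => rw [map_zero, map_zero]
    | tmul c a =>
      rw [Algebra.TensorProduct.map_tmul, LinearMap.rTensor_tmul, hρ1]
      rfl
    | add a b ha hb => rw [map_add, map_add, ha, hb]
  have h4 : ∀ (c : A) (m : ℕ) (b : E ⊗[k] K),
      LinearMap.rTensor K ρ (c • ((1 ⊗ₜ x : A ⊗[k] K) ^ m *
        Algebra.TensorProduct.map E.val (AlgHom.id k K) b)) =
      ρ c • ((1 ⊗ₜ x : L ⊗[k] K) ^ m * Algebra.TensorProduct.map j (AlgHom.id k K) b) := by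
    intro c m b
    induction b using TensorProduct.induction_on with
    | zero => simp
    | tmul e y =>
      rw [Algebra.TensorProduct.map_tmul, Algebra.TensorProduct.map_tmul,
        Algebra.TensorProduct.tmul_pow, Algebra.TensorProduct.tmul_pow,
        Algebra.TensorProduct.tmul_mul_tmul, Algebra.TensorProduct.tmul_mul_tmul, smul_tmul', smul_tmul',
        LinearMap.rTensor_tmul, one_pow, one_pow, one_mul, one_mul, smul_eq_mul, smul_eq_mul]
      have h5 : (E.val e : A) = σ (j e) := (hσ e).symm
      rw [h5, mul_comm c, hρ, mul_comm]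
    | add a b ha hb => rw [map_add, map_add, mul_add, mul_add, smul_add, smul_add, map_add, ha, hb]
  have h5 : ∀ w ∈ Submodule.span A (pows (1 ⊗ₜ x : A ⊗[k] K)
      (Algebra.TensorProduct.map E.val (AlgHom.id k K) '' (S : Set (E ⊗[k] K)))), ∀ c : A,
      LinearMap.rTensor K ρ (c • w) ∈ Submodule.span L (pows (1 ⊗ₜ x : L ⊗[k] K)
        (Algebra.TensorProduct.map j (AlgHom.id k K) '' (S : Set (E ⊗[k] K)))) := by
    intro w hw
    induction hw using Submodule.span_induction with
    | mem w hw =>
      intro c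
      obtain ⟨m, _, ⟨b, hb, rfl⟩, rfl⟩ := hw
      rw [h4]
      exact Submodule.smul_mem _ _ (Submodule.subset_span ⟨m, _, ⟨b, hb, rfl⟩, rfl⟩)
    | zero => intro c; rw [smul_zero, map_zero]; exact zero_mem _
    | add a b _ _ ha hb => intro c; rw [smul_add, map_add]; exact add_mem (ha c) (hb c)
    | smul a w _ hw => intro c; rw [smul_smul]; exact hw _
  have h6 := h5 _ h2 1
  rw [one_smul, h3] at h6
  exact h6

end Gen

end K668.ScalarGen
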