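import Groth.Agent.FunFld.K661.OverInt
import Groth.Agent.FunFld.K661.Residue
import Groth.Agent.FunFld.K664.WeakApprox
import Groth.Agent.FunFld.K666.Ext
import Groth.Agent.FunFld.K660.Rational
import Groth.Agent.FunFld.K668.ConstExt
import Mathlib.FieldTheory.PurelyInseparable.PerfectClosure
import Mathlib.FieldTheory.PurelyInseparable.Tower

/-!
# Places above a nonsingular place in a splitting constant extension
-/

set_option autoImplicit false

namespace K668.SplitCount

open FunFld TensorProduct Polynomial K660.Places ConstExt WithZero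

section Down

variable {k k' K' : Type*} [Field k] [Field k'] [Field K'] [Algebra k k'] [Algebra k' K'] [Algebra k K']
  [IsScalarTower k k' K']

/-- A place of `K'/k'` as a place of `K'/k`. -/
def down (k : Type*) {k' K' : Type*} [Field k] [Field k'] [Field K'] [Algebra k k'] [Algebra k' K']
    [Algebra k K'] [IsScalarTower k k' K'] (Q : Place k' K') : Place k K' :=
  ⟨Q.1, fun c => by rw [IsScalarTower.algebraMap_apply k k' K']; exact Q.2.1 _, Q.2.2⟩

@[simp] theorem down_val (Q : Place k' K') : (down k Q).1 = Q.1 := rfl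

theorem down_injective : Function.Injective (down k (k' := k') (K' := K')) := by
  intro Q₁ Q₂ h
  refine place_ext fun x => ?_
  have h1 : (down k Q₁).1 x = (down k Q₂).1 x := by rw [h]
  rw [down_val, down_val] at h1
  rw [h1]

theorem exists_down_eq [Algebra.IsIntegral k k'] (Q : Place k K') : ∃ Q' : Place k' K', down k Q' = Q := by
  refine ⟨⟨Q.1, fun c => ?_, Q.2.2⟩, rfl⟩
  have h1 : IsIntegral k c := Algebra.IsIntegral.isIntegral c
  exact val_le_one_of_isIntegral Q (fun r => Q.2.1 r) (h1.map (IsScalarTower.toAlgHom k k' K'))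

/-- The constants in the residue field. -/
noncomputable def cRes (Q : Place k' K') : k' →+* IsLocalRing.ResidueField (down k Q).O :=
  (IsLocalRing.residue (down k Q).O).comp
    ((algebraMap k' K').codRestrict (down k Q).O.toSubring fun c => Q.2.1 c)

theorem residue_eq_iff (P : Place k K') (a b : P.O) :
    IsLocalRing.residue P.O a = IsLocalRing.residue P.O b ↔ P.1 ((a : K') - b) < 1 := by
  rw [← sub_eq_zero, ← map_sub, IsLocalRing.residue_eq_zero_iff, K661.Place.mem_maximalIdeal_iff]
  rfl

theorem cRes_bijective (Q : Place k' K') (hQ : Q.deg = 1) : Function.Bijective (cRes (k := k) Q) := by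
  refine ⟨(cRes (k := k) Q).injective, fun y => ?_⟩
  obtain ⟨z, rfl⟩ := IsLocalRing.residue_surjective y
  obtain ⟨c, hc⟩ := K660.Rational.exists_const_of_deg_eq_one hQ (z := (z : K')) z.2
  refine ⟨c, ?_⟩
  refine (residue_eq_iff (down k Q) _ _).2 ?_
  show Q.1 (algebraMap k' K' c - z) < 1
  rw [Valuation.map_sub_swap]
  exact hc

theorem deg_down (Q : Place k' K') (hQ : Q.deg = 1) : (down k Q).deg = Module.finrank k k' := by
  let f : k' →ₗ[k] IsLocalRing.ResidueField (down k Q).O :=
    { toFun := cRes Q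
      map_add' := map_add _
      map_smul' := by
        intro c a
        rw [RingHom.id_apply]
        refine Eq.trans ?_ (K661.Residue.smul_eq (down k Q) c _).symm
        rw [Algebra.smul_def, map_mul]
        congr 1
        refine congrArg (IsLocalRing.residue (down k Q).O) (Subtype.ext ?_)
        exact (IsScalarTower.algebraMap_apply k k' K' c).symm }
  have hf : Function.Bijective f := cRes_bijective Q hQ
  exact (LinearEquiv.ofBijective f hf).finrank_eq.symm

end Down

section Val

variable {k' K' : Type*} [Field k'] [Field K'] [Algebra k' K']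

theorem val_aeval_ge (Q : Place k' K') {t : K'} (ht : Q.1 t = exp (-1)) (n : ℕ) (g : k'[X]) (hg0 : g ≠ 0)
    (hn : g.natDegree ≤ n) : exp (-(n : ℤ)) ≤ Q.1 (aeval t g) := by
  induction n generalizing g with
  | zero =>
    have h1 : g = C (g.coeff 0) := Polynomial.eq_C_of_natDegree_le_zero hn
    have h2 : g.coeff 0 ≠ 0 := by
      intro h
      rw [h, C_0] at h1
      exact hg0 h1
    rw [h1, aeval_C, K660.Ord.val_algebraMap Q h2]
    simp
  | succ n ih =>
    by_cases h0 : g.coeff 0 = 0
    · have h1 : g = X * g.divX := by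
        conv_lhs => rw [← Polynomial.divX_mul_X_add g]
        rw [h0, C_0, add_zero, mul_comm]
      have h2 : g.divX ≠ 0 := by
        intro h
        rw [h, mul_zero] at h1
        exact hg0 h1
      have h3 := ih g.divX h2 (by rw [Polynomial.natDegree_divX_eq_natDegree_tsub_one]; omega)
      rw [h1, map_mul, aeval_X, map_mul, ht]
      have h4 : exp (-((n + 1 : ℕ) : ℤ)) = exp (-1) * exp (-(n : ℤ)) := by
        rw [← exp_add]
        congr 1
        push_cast
        ring
      rw [h4]
      exact mul_le_mul_right h3 _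
    · have h1 : Q.1 (aeval t g) = 1 := by
        conv_lhs => rw [← Polynomial.divX_mul_X_add g]
        rw [map_add, map_mul, aeval_X, aeval_C, Valuation.map_add_eq_of_lt_right]
        · exact K660.Ord.val_algebraMap Q h0
        · rw [K660.Ord.val_algebraMap Q h0, map_mul, ht]
          have h2 : Q.1 (aeval t g.divX) ≤ 1 :=
            val_aeval_le Q (by rw [ht, ← exp_zero, exp_le_exp]; omega) _
          refine (mul_le_of_le_one_left' h2).trans_lt ?_
          rw [← exp_zero, exp_lt_exp]
          omega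
      rw [h1, ← exp_zero, exp_le_exp]
      omega

end Val

section Tau

variable {k k' K K' : Type*} [Field k] [Field k'] [Field K] [Field K'] [Algebra k k']
  [Algebra k K] [Algebra K K'] [Algebra k' K'] [Algebra k K'] [IsScalarTower k k' K']
  [IsScalarTower k K K']

/-- The value map `κ_P → k'` at a place `Q` of degree one above `P`. -/
noncomputable def tau (Q : Place k' K') (hQ : Q.deg = 1) (P : Place k K) (h : IsOver (down k Q) P) :
    IsLocalRing.ResidueField P.O →ₐ[k] k' :=
  { ((RingEquiv.ofBijective (cRes (k := k) Q) (cRes_bijective Q hQ)).symm : _ →+* k').comp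
      (K666.Ext.resMap (down k Q) P h) with
    commutes' := by
      intro c
      change (RingEquiv.ofBijective (cRes (k := k) Q) (cRes_bijective Q hQ)).symm
        (K666.Ext.resMap (down k Q) P h (algebraMap k _ c)) = _
      rw [RingEquiv.symm_apply_eq, K666.Ext.resMap_algebraMap]
      refine congrArg (IsLocalRing.residue (down k Q).O) (Subtype.ext ?_)
      exact IsScalarTower.algebraMap_apply k k' K' c }

theorem tau_spec (Q : Place k' K') (hQ : Q.deg = 1) (P : Place k K) (h : IsOver (down k Q) P) (a : P.O) :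
    Q.1 (algebraMap K K' a - algebraMap k' K' (tau Q hQ P h (IsLocalRing.residue P.O a))) < 1 := by
  have h1 : cRes (k := k) Q (tau Q hQ P h (IsLocalRing.residue P.O a)) =
      K666.Ext.resMap (down k Q) P h (IsLocalRing.residue P.O a) :=
    (RingEquiv.ofBijective (cRes (k := k) Q) (cRes_bijective Q hQ)).apply_symm_apply _
  rw [K666.Ext.resMap_residue] at h1
  exact (residue_eq_iff (down k Q) _ _).1 h1.symm

end Tau

section Approx

variable {k K K' : Type*} [Field k] [Field K] [Field K'] [Algebra k K] [Algebra K K'] [Algebra k K']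
  [IsScalarTower k K K']

/-- The subring of the hypotheses. -/
abbrev RO (P : Place k K) (K' : Type*) [Field K'] [Algebra K K'] : Subring K' :=
  P.O.toSubring.map (algebraMap K K')

theorem approx [FiniteDimensional K K'] (hK : IsFunctionField k K) (P : Place k K) (x : Place k K' → K')
    (hx : ∀ Q, IsOver Q P → Q.1 (x Q) ≤ 1) (N : ℕ) :
    ∃ b : K', IsIntegral (RO P K') b ∧ ∀ Q : Place k K', IsOver Q P → Q.1 (b - x Q) ≤ exp (-(N : ℤ)) := by
  classical
  have hfin := K661.OverFF.finite_over' (K' := K') hK P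
  obtain ⟨b, hb⟩ := K664.weak_approx_le hfin.toFinset x (fun _ => (N : ℤ))
  have hb' : ∀ Q : Place k K', IsOver Q P → Q.1 (b - x Q) ≤ exp (-(N : ℤ)) := fun Q hQ =>
    hb Q ((Set.Finite.mem_toFinset _).2 hQ)
  refine ⟨b, ?_, hb'⟩
  let _ : Algebra P.O K' := K661.OverFF.algO P K'
  have _ : IsScalarTower P.O K K' := K661.OverFF.towerO P K'
  have h1 : IsIntegral P.O b := by
    rw [K661.OverInt.isIntegral_iff (exists_isGen hK) P]
    intro Q hQ
    have h2 : b = (b - x Q) + x Q := by ring
    rw [h2]
    refine (Q.1.map_add _ _).trans (max_le ((hb' Q hQ).trans ?_) (hx Q hQ))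
    rw [← exp_zero, exp_le_exp]
    omega
  obtain ⟨p, hp, hpb⟩ := h1
  let g : P.O →+* RO P K' :=
    ((algebraMap K K').comp P.O.subtype).codRestrict _ (fun a => ⟨a, a.2, rfl⟩)
  refine ⟨p.map g, hp.map _, ?_⟩
  rw [eval₂_map]
  exact hpb

omit [Algebra k K'] [IsScalarTower k K K'] in
theorem mem_span_of_mem_adjoin {k' : Type*} [Field k'] [Algebra k' K'] (P : Place k K) {b : K'}
    (hb : b ∈ Algebra.adjoin (RO P K') (Set.range (algebraMap k' K'))) :
    b ∈ Submodule.span k' (algebraMap K K' '' {a | P.1 a ≤ 1}) := by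
  induction hb using Algebra.adjoin_induction with
  | mem b hb =>
    obtain ⟨c, rfl⟩ := hb
    have h1 : algebraMap k' K' c = c • algebraMap K K' 1 := by
      rw [map_one, Algebra.smul_def, mul_one]
    rw [h1]
    exact Submodule.smul_mem _ _ (Submodule.subset_span ⟨1, (map_one P.1).le, rfl⟩)
  | algebraMap r =>
    obtain ⟨a, ha, hr⟩ := r.2
    exact Submodule.subset_span ⟨a, ha, hr⟩
  | add a b _ _ ha hb => exact add_mem ha hb
  | mul a b _ _ ha hb =>
    have h1 := Submodule.mul_mem_mul ha hb
    rw [Submodule.span_mul_span] at h1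
    refine Submodule.span_mono ?_ h1
    rintro _ ⟨_, ⟨a, ha, rfl⟩, _, ⟨b, hb, rfl⟩, rfl⟩
    exact ⟨a * b, (map_mul P.1 a b).trans_le (mul_le_one' ha hb), map_mul _ _ _⟩

end Approx

section Ineq

variable {k k' K K' : Type*} [Field k] [Field k'] [Field K] [Field K'] [Algebra k k']
  [Algebra k K] [Algebra K K'] [Algebra k' K'] [Algebra k K'] [IsScalarTower k k' K']
  [IsScalarTower k K K']

theorem eq_zero_of_val_lt_one (Q : Place k' K') {c : k'} (h : Q.1 (algebraMap k' K' c) < 1) : c = 0 := by
  by_contra hc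
  exact absurd h (not_lt.2 (K660.Ord.val_algebraMap Q hc).ge)

/-- Places of degree one above a nonsingular place are determined by their value maps. -/
theorem tau_injective [FiniteDimensional K K'] (hK : IsFunctionField k K) (P : Place k K)
    (hns : integralClosure (RO P K') K' = Algebra.adjoin (RO P K') (Set.range (algebraMap k' K')))
    (Q₁ Q₂ : Place k' K') (hQ₁ : Q₁.deg = 1) (hQ₂ : Q₂.deg = 1) (h₁ : IsOver (down k Q₁) P)
    (h₂ : IsOver (down k Q₂) P) (h : tau Q₁ hQ₁ P h₁ = tau Q₂ hQ₂ P h₂) : Q₁ = Q₂ := by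
  classical
  by_contra hne
  have hne' : down k Q₂ ≠ down k Q₁ := fun h => hne (down_injective h).symm
  obtain ⟨b, hb, hb'⟩ := approx (K' := K') hK P (fun Q => if Q = down k Q₁ then 0 else 1)
    (fun Q _ => by split_ifs <;> simp) 1
  have hb₁ : Q₁.1 b < 1 := by
    have := hb' _ h₁
    rw [if_pos rfl, sub_zero, down_val] at this
    refine this.trans_lt ?_
    rw [← exp_zero, exp_lt_exp]; omega
  have hb₂ : Q₂.1 (b - 1) < 1 := by
    have := hb' _ h₂
    rw [if_neg hne', down_val] at this
    refine this.trans_lt ?_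
    rw [← exp_zero, exp_lt_exp]; omega
  have hb3 : b ∈ integralClosure (RO P K') K' := hb
  rw [hns] at hb3
  have hb4 := mem_span_of_mem_adjoin P hb3
  obtain ⟨c, hc₁, hc₂⟩ : ∃ c : k', Q₁.1 (b - algebraMap k' K' c) < 1 ∧
      Q₂.1 (b - algebraMap k' K' c) < 1 := by
    clear hb hb' hb₁ hb₂ hb3
    induction hb4 using Submodule.span_induction with
    | mem b hb =>
      obtain ⟨a, ha, rfl⟩ := hb
      refine ⟨tau Q₁ hQ₁ P h₁ (IsLocalRing.residue P.O ⟨a, ha⟩), tau_spec Q₁ hQ₁ P h₁ ⟨a, ha⟩, ?_⟩
      rw [h]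
      exact tau_spec Q₂ hQ₂ P h₂ ⟨a, ha⟩
    | zero => exact ⟨0, by simp, by simp⟩
    | add a b _ _ ha hb =>
      obtain ⟨c, hc₁, hc₂⟩ := ha
      obtain ⟨d, hd₁, hd₂⟩ := hb
      refine ⟨c + d, ?_, ?_⟩
      · have : a + b - algebraMap k' K' (c + d) = (a - algebraMap k' K' c) + (b - algebraMap k' K' d) := by
          rw [map_add]; ring
        rw [this]
        exact (Q₁.1.map_add _ _).trans_lt (max_lt hc₁ hd₁)
      · have : a + b - algebraMap k' K' (c + d) = (a - algebraMap k' K' c) + (b - algebraMap k' K' d) := by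
          rw [map_add]; ring
        rw [this]
        exact (Q₂.1.map_add _ _).trans_lt (max_lt hc₂ hd₂)
    | smul e a _ ha =>
      obtain ⟨c, hc₁, hc₂⟩ := ha
      have h3 : e • a - algebraMap k' K' (e * c) = algebraMap k' K' e * (a - algebraMap k' K' c) := by
        rw [map_mul, Algebra.smul_def]; ring
      refine ⟨e * c, ?_, ?_⟩
      · rw [h3, map_mul]
        exact (mul_le_of_le_one_left' (Q₁.2.1 e)).trans_lt hc₁
      · rw [h3, map_mul]
        exact (mul_le_of_le_one_left' (Q₂.2.1 e)).trans_lt hc₂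
  have hc0 : c = 0 := by
    apply eq_zero_of_val_lt_one Q₁
    have : algebraMap k' K' c = b - (b - algebraMap k' K' c) := by ring
    rw [this]
    exact (Q₁.1.map_sub _ _).trans_lt (max_lt hb₁ hc₁)
  rw [hc0, map_zero, sub_zero] at hc₂
  have : (1 : K') = b - (b - 1) := by ring
  have h5 : Q₂.1 (1 : K') < 1 := by
    rw [this]
    exact (Q₂.1.map_sub _ _).trans_lt (max_lt hc₂ hb₂)
  rw [map_one] at h5
  exact lt_irrefl _ h5

/-- An element whose residue is separable over `k` is a constant modulo the uniformizer of `P`. -/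
theorem exists_const_of_separable (Q : Place k' K') (hQ : Q.deg = 1) (P : Place k K)
    (h : IsOver (down k Q) P) {e : ℕ} (he : IsOverWith (down k Q) P e) (β : P.O)
    (hβ : IsSeparable k (IsLocalRing.residue P.O β)) :
    ∃ c : k', Q.1 (algebraMap K K' β - algebraMap k' K' c) ≤ exp (-(e : ℤ)) := by
  set χ := IsLocalRing.residue P.O β with hχ
  set f := minpoly k χ with hf
  set c := tau Q hQ P h χ with hc
  have hspec : Q.1 (algebraMap K K' β - algebraMap k' K' c) < 1 := tau_spec Q hQ P h β
  refine ⟨c, ?_⟩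
  set f' := f.map (algebraMap k k') with hf'
  have hfc : f'.eval c = 0 := by
    rw [hf', eval_map_algebraMap, hc, aeval_algHom_apply, minpoly.aeval, map_zero]
  have hsep : f'.Separable := by
    have : f.Separable := hβ
    exact this.map
  obtain ⟨g, hg⟩ := dvd_iff_isRoot.2 (show f'.IsRoot c from hfc)
  have hgc : g.eval c ≠ 0 := by
    intro h0
    obtain ⟨g', hg'⟩ := dvd_iff_isRoot.2 (show g.IsRoot c from h0)
    have h1 : (X - C c) * (X - C c) ∣ f' := ⟨g', by rw [hg, hg', mul_assoc]⟩
    exact (Polynomial.not_isUnit_X_sub_C c) (hsep.squarefree _ h1)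
  set b := algebraMap K K' (β : K) with hb
  have hbc : Q.1 b ≤ 1 := (K661.Place.val_algebraMap_le_one_iff h (β : K)).2 β.2
  have h1 : aeval b f' = (b - algebraMap k' K' c) * aeval b g := by
    rw [hg, map_mul, map_sub, aeval_X, aeval_C]
  have h2 : Q.1 (aeval b g) = 1 := by
    have h3 : aeval b g = aeval b (g - C (g.eval c)) + algebraMap k' K' (g.eval c) := by
      rw [map_sub, aeval_C]; ring
    obtain ⟨g₂, hg₂⟩ := dvd_iff_isRoot.2 (show (g - C (g.eval c)).IsRoot c by simp)
    have h4 : Q.1 (aeval b (g - C (g.eval c))) < 1 := by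
      rw [hg₂, map_mul, map_sub, aeval_X, aeval_C, map_mul]
      exact (mul_le_of_le_one_right' (val_aeval_le Q hbc g₂)).trans_lt hspec
    rw [h3, Valuation.map_add_eq_of_lt_right, K660.Ord.val_algebraMap Q hgc]
    rwa [K660.Ord.val_algebraMap Q hgc]
  have h3 : Q.1 (aeval b f') ≤ exp (-(e : ℤ)) := by
    have h4 : aeval b f' = algebraMap K K' (aeval (β : K) f) := by
      rw [hf', aeval_map_algebraMap, hb, aeval_algebraMap_apply]
    have h5 : P.1 (aeval (β : K) f) < 1 := by
      have h6 : K661.Scalar.resO P (aeval β f) = 0 := by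
        rw [← aeval_algHom_apply]
        exact minpoly.aeval k χ
      rw [K661.Scalar.resO_apply, IsLocalRing.residue_eq_zero_iff, K661.Place.mem_maximalIdeal_iff] at h6
      have h7 := aeval_algHom_apply (K661.Scalar.inclO P) β f
      rw [K661.Scalar.inclO_apply, K661.Scalar.inclO_apply] at h7
      rw [h7]
      exact h6
    rw [h4]
    have h6 := he (aeval (β : K) f)
    rw [down_val] at h6
    rw [h6]
    have h7 : P.1 (aeval (β : K) f) ≤ exp (-1) := (K660.Ord.lt_one_iff_le).1 h5
    calc P.1 (aeval (β : K) f) ^ e ≤ (exp (-1) : ℤᵐ⁰) ^ e := pow_le_pow_left' h7 e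
      _ = exp (-(e : ℤ)) := by rw [← exp_nsmul]; simp
  rwa [h1, map_mul, h2, mul_one] at h3

/-- The condition "congruent to a `k'`-combination of the `a i` modulo the uniformizer of `P`". -/
def Comb (Q : Place k' K') (e : ℕ) {m : ℕ} (a : Fin m → K') (z : K') : Prop :=
  ∃ c : Fin m → k', Q.1 (z - ∑ i, algebraMap k' K' (c i) * a i) ≤ exp (-(e : ℤ))

theorem Comb.add {Q : Place k' K'} {e m : ℕ} {a : Fin m → K'} {z w : K'} (hz : Comb Q e a z)
    (hw : Comb Q e a w) : Comb Q e a (z + w) := by
  obtain ⟨c, hc⟩ := hz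
  obtain ⟨d, hd⟩ := hw
  refine ⟨c + d, ?_⟩
  have : z + w - ∑ i, algebraMap k' K' ((c + d) i) * a i =
      (z - ∑ i, algebraMap k' K' (c i) * a i) + (w - ∑ i, algebraMap k' K' (d i) * a i) := by
    simp only [Pi.add_apply, map_add, add_mul, Finset.sum_add_distrib]
    ring
  rw [this]
  exact (Q.1.map_add _ _).trans (max_le hc hd)

theorem Comb.smul {Q : Place k' K'} {e m : ℕ} {a : Fin m → K'} {z : K'} (r : k') (hz : Comb Q e a z) :
    Comb Q e a (r • z) := by
  obtain ⟨c, hc⟩ := hz
  refine ⟨fun i => r * c i, ?_⟩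
  have : r • z - ∑ i, algebraMap k' K' (r * c i) * a i =
      algebraMap k' K' r * (z - ∑ i, algebraMap k' K' (c i) * a i) := by
    rw [mul_sub, Finset.mul_sum, Algebra.smul_def]
    congr 1
    refine Finset.sum_congr rfl fun i _ => ?_
    rw [map_mul]; ring
  rw [this, map_mul]
  exact (mul_le_of_le_one_left' (Q.2.1 r)).trans hc

theorem Comb.congr {Q : Place k' K'} {e m : ℕ} {a : Fin m → K'} {z w : K'} (hz : Comb Q e a z)
    (h : Q.1 (w - z) ≤ exp (-(e : ℤ))) : Comb Q e a w := by
  obtain ⟨c, hc⟩ := hz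
  refine ⟨c, ?_⟩
  have : w - ∑ i, algebraMap k' K' (c i) * a i = (w - z) + (z - ∑ i, algebraMap k' K' (c i) * a i) := by
    ring
  rw [this]
  exact (Q.1.map_add _ _).trans (max_le h hc)

theorem Comb.zero {Q : Place k' K'} {e m : ℕ} {a : Fin m → K'} : Comb Q e a 0 :=
  ⟨0, by simp⟩

/-- Elements integral at `P`. -/
theorem comb_of_mem (hK : IsFunctionField k K) (Q : Place k' K') (hQ : Q.deg = 1) (P : Place k K)
    (h : IsOver (down k Q) P) {e : ℕ} (he : IsOverWith (down k Q) P e) :
    ∃ a : Fin (Module.finrank (separableClosure k (IsLocalRing.ResidueField P.O))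
        (IsLocalRing.ResidueField P.O)) → K', ∀ β : P.O, Comb Q e a (algebraMap K K' β) := by
  have hfin := K661.Residue.finite_alg P (K660.Compare.finite_residue hK P)
  have hfin2 : FiniteDimensional (separableClosure k (IsLocalRing.ResidueField P.O))
      (IsLocalRing.ResidueField P.O) := inferInstance
  let θ := Module.finBasis (separableClosure k (IsLocalRing.ResidueField P.O))
    (IsLocalRing.ResidueField P.O)
  choose a ha using fun i => IsLocalRing.residue_surjective (R := P.O) (θ i)
  refine ⟨fun i => algebraMap K K' (a i), fun β => ?_⟩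
  choose d hd using fun i => IsLocalRing.residue_surjective (R := P.O)
    ((θ.repr (IsLocalRing.residue P.O β) i : separableClosure k (IsLocalRing.ResidueField P.O)) :
      IsLocalRing.ResidueField P.O)
  have hsep : ∀ i, IsSeparable k (IsLocalRing.residue P.O (d i)) := fun i => by
    rw [hd i]
    exact mem_separableClosure_iff.1 (θ.repr (IsLocalRing.residue P.O β) i).2
  choose c hc using fun i => exists_const_of_separable Q hQ P h he (d i) (hsep i)
  refine ⟨c, ?_⟩
  have h1 : P.1 ((β : K) - ∑ i, (d i : K) * (a i : K)) < 1 := by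
    have h2 : IsLocalRing.residue P.O β = IsLocalRing.residue P.O (∑ i, d i * a i) := by
      rw [map_sum]
      conv_lhs => rw [← θ.sum_repr (IsLocalRing.residue P.O β)]
      refine Finset.sum_congr rfl fun i _ => ?_
      rw [map_mul, hd, ha, Algebra.smul_def]
      rfl
    have h3 := (residue_eq_iff P _ _).1 h2
    have h4 : ((∑ i, d i * a i : P.O) : K) = ∑ i, (d i : K) * (a i : K) := by
      rw [← K661.Scalar.inclO_apply, map_sum]
      rfl
    rwa [h4] at h3
  have h2 : Q.1 (algebraMap K K' ((β : K) - ∑ i, (d i : K) * (a i : K))) ≤ exp (-(e : ℤ)) := by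
    have h6 := he ((β : K) - ∑ i, (d i : K) * (a i : K))
    rw [down_val] at h6
    rw [h6]
    calc P.1 ((β : K) - ∑ i, (d i : K) * (a i : K)) ^ e ≤ (exp (-1) : ℤᵐ⁰) ^ e :=
        pow_le_pow_left' ((K660.Ord.lt_one_iff_le).1 h1) e
      _ = exp (-(e : ℤ)) := by rw [← exp_nsmul]; simp
  have h3 : algebraMap K K' β - ∑ i, algebraMap k' K' (c i) * algebraMap K K' (a i) =
      algebraMap K K' ((β : K) - ∑ i, (d i : K) * (a i : K)) +
        ∑ i, (algebraMap K K' (d i) - algebraMap k' K' (c i)) * algebraMap K K' (a i) := by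
    rw [map_sub, map_sum]
    simp only [map_mul, sub_mul, Finset.sum_sub_distrib]
    ring
  rw [h3]
  refine (Q.1.map_add _ _).trans (max_le h2 ?_)
  refine Q.1.map_sum_le fun i _ => ?_
  rw [map_mul]
  have h4 : Q.1 (algebraMap K K' (a i : K)) ≤ 1 :=
    (K661.Place.val_algebraMap_le_one_iff h (a i : K)).2 (a i).2
  exact (mul_le_of_le_one_right' h4).trans (hc i)

/-- All elements integral at `Q`. -/
theorem comb_of_val_le [FiniteDimensional K K'] (hK : IsFunctionField k K) (Q : Place k' K')
    (P : Place k K) (hns : integralClosure (RO P K') K' = Algebra.adjoin (RO P K') (Set.range (algebraMap k' K')))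
    (h : IsOver (down k Q) P) {e m : ℕ} {a : Fin m → K'}
    (ha : ∀ β : P.O, Comb Q e a (algebraMap K K' β)) {z : K'} (hz : Q.1 z ≤ 1) : Comb Q e a z := by
  classical
  obtain ⟨b, hb, hb'⟩ := approx (K' := K') hK P (fun Q' => if Q' = down k Q then z else 0)
    (fun Q' _ => by
      split_ifs with h1
      · rw [h1]; exact hz
      · simp) e
  have h1 := hb' _ h
  rw [if_pos rfl, down_val, Valuation.map_sub_swap] at h1
  have hb3 : b ∈ integralClosure (RO P K') K' := hb
  rw [hns] at hb3
  have hb4 := mem_span_of_mem_adjoin P hb3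
  refine Comb.congr ?_ h1
  clear hb hb' hb3 h1
  induction hb4 using Submodule.span_induction with
  | mem b hb =>
    obtain ⟨β, hβ, rfl⟩ := hb
    exact ha ⟨β, hβ⟩
  | zero => exact Comb.zero
  | add a b _ _ ha hb => exact ha.add hb
  | smul r a _ ha => exact ha.smul r

/-- The ramification index is at most the number of generators. -/
theorem le_of_comb (Q : Place k' K') {e m : ℕ} {a : Fin m → K'} (h : ∀ z, Q.1 z ≤ 1 → Comb Q e a z) :
    e ≤ m := by
  classical
  by_contra hlt
  push Not at hlt
  obtain ⟨t, ht⟩ := K660.Ord.exists_unif Q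
  have ht1 : Q.1 t ≤ 1 := by rw [ht, ← exp_zero, exp_le_exp]; omega
  choose c hc using fun i : Fin (m + 1) => h (t ^ (i : ℕ)) (by rw [map_pow]; exact pow_le_one' ht1 _)
  have hker : ∃ v : Fin (m + 1) → k', v ≠ 0 ∧ (Matrix.of c).vecMul v = 0 := by
    have h1 : (LinearMap.ker (Matrix.vecMulLinear (Matrix.of c))) ≠ ⊥ := by
      apply LinearMap.ker_ne_bot_of_finrank_lt
      simp
    obtain ⟨v, hv, hv0⟩ := (Submodule.ne_bot_iff _).1 h1
    exact ⟨v, hv0, hv⟩
  obtain ⟨v, hv0, hv⟩ := hker
  set g : k'[X] := ∑ i : Fin (m + 1), C (v i) * X ^ (i : ℕ) with hg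
  have hcoef : ∀ i : Fin (m + 1), g.coeff i = v i := by
    intro i
    rw [hg, finsetSum_coeff, Finset.sum_eq_single i]
    · simp
    · intro j _ hj
      rw [coeff_C_mul, coeff_X_pow, if_neg, mul_zero]
      intro h; exact hj (Fin.ext h).symm
    · intro h; exact absurd (Finset.mem_univ i) h
  have hg0 : g ≠ 0 := by
    intro h0
    apply hv0
    funext i
    rw [← hcoef i, h0, coeff_zero]
    rfl
  have hdeg : g.natDegree ≤ m := by
    rw [hg]
    refine natDegree_sum_le_of_forall_le _ _ fun i _ => ?_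
    exact (natDegree_C_mul_X_pow_le _ _).trans (by omega)
  have h1 := val_aeval_ge Q ht m g hg0 hdeg
  have h2 : aeval t g = ∑ i : Fin (m + 1), algebraMap k' K' (v i) *
      (t ^ (i : ℕ) - ∑ j, algebraMap k' K' (c i j) * a j) := by
    have h3 : ∑ i : Fin (m + 1), algebraMap k' K' (v i) * ∑ j, algebraMap k' K' (c i j) * a j = 0 := by
      simp only [Finset.mul_sum]
      rw [Finset.sum_comm]
      refine Finset.sum_eq_zero fun j _ => ?_
      have h4 : ∑ i : Fin (m + 1), v i * c i j = 0 := congrFun hv j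
      have h5 : ∑ i : Fin (m + 1), algebraMap k' K' (v i) * (algebraMap k' K' (c i j) * a j) =
          algebraMap k' K' (∑ i : Fin (m + 1), v i * c i j) * a j := by
        rw [map_sum, Finset.sum_mul]
        refine Finset.sum_congr rfl fun i _ => ?_
        rw [map_mul, mul_assoc]
      rw [h5, h4, map_zero, zero_mul]
    simp only [mul_sub, Finset.sum_sub_distrib]
    rw [h3, sub_zero, hg, map_sum]
    refine Finset.sum_congr rfl fun i _ => ?_
    rw [map_mul, aeval_C, map_pow, aeval_X]
  have h3 : Q.1 (aeval t g) ≤ exp (-(e : ℤ)) := by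
    rw [h2]
    refine Q.1.map_sum_le fun i _ => ?_
    rw [map_mul]
    exact (mul_le_of_le_one_left' (Q.2.1 _)).trans (hc i)
  have h4 := h1.trans h3
  rw [exp_le_exp] at h4
  omega

end Ineq

section Main

variable {k k' K K' : Type*} [Field k] [Field k'] [Field K] [Field K'] [Algebra k k']
  [FiniteDimensional k k'] [Algebra k K] [Algebra K K'] [Algebra k' K'] [Algebra k K']
  [IsScalarTower k k' K'] [IsScalarTower k K K']

/-- Elementary counting. -/
theorem count {ι : Type*} (T : Finset ι) (r : ι → ℕ) (s m : ℕ) (hm : 0 < m) (hr : ∀ i ∈ T, r i ≤ m)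
    (hT : T.card ≤ s) (hsum : ∑ i ∈ T, r i = s * m) : T.card = s ∧ ∀ i ∈ T, r i = m := by
  have h1 : ∑ i ∈ T, r i ≤ T.card * m := by
    rw [← smul_eq_mul]
    exact Finset.sum_le_card_nsmul T r m hr
  have h2 : T.card = s := by
    rw [hsum] at h1
    exact le_antisymm hT (Nat.le_of_mul_le_mul_right h1 hm)
  refine ⟨h2, fun i hi => ?_⟩
  have h3 : ∑ i ∈ T, r i = ∑ i ∈ T, m := by
    rw [hsum, Finset.sum_const, smul_eq_mul, h2]
  exact (Finset.sum_eq_sum_iff_of_le hr).1 h3 i hi

theorem main (h : Function.Bijective (K661.Scalar.mulMap k k' K K'))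
    (hK : IsFunctionField k K) (P : Place k K)
    (hns : integralClosure (RO P K') K' = Algebra.adjoin (RO P K') (Set.range (algebraMap k' K')))
    (hsplit : ∀ Q : Place k' K', IsOver (down k Q) P → Q.deg = 1) :
    {Q : Place k' K' | IsOver (down k Q) P}.Finite ∧
    {Q : Place k' K' | IsOver (down k Q) P}.ncard =
      Field.finSepDegree k (IsLocalRing.ResidueField P.O) ∧
    ∀ Q : Place k' K', IsOver (down k Q) P →
      IsOverWith (down k Q) P (Module.finrank (separableClosure k (IsLocalRing.ResidueField P.O))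
        (IsLocalRing.ResidueField P.O)) := by
  classical
  have hfinK : FiniteDimensional K K' := K661.OverInt.finiteDimensional h
  have hfin := K661.OverFF.finite_over' (K' := K') hK P
  have hκ := K661.Residue.finite_alg P (K660.Compare.finite_residue hK P)
  have hSfin : {Q : Place k' K' | IsOver (down k Q) P}.Finite :=
    Set.Finite.preimage (f := down k (k' := k') (K' := K')) (down_injective.injOn) hfin
  have himg : {Q : Place k K' | IsOver Q P} = down k '' {Q : Place k' K' | IsOver (down k Q) P} := by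
    ext Q
    constructor
    · intro hQ
      obtain ⟨Q', rfl⟩ := exists_down_eq (k := k) (k' := k') Q
      exact ⟨Q', hQ, rfl⟩
    · rintro ⟨Q', hQ', rfl⟩
      exact hQ'
  have hcard : hfin.toFinset.card = {Q : Place k' K' | IsOver (down k Q) P}.ncard := by
    rw [← Set.ncard_eq_toFinset_card _ hfin, himg, Set.ncard_image_of_injective _ down_injective]
  set κ := IsLocalRing.ResidueField P.O with hκdef
  set m := Module.finrank (separableClosure k κ) κ with hm
  have hmpos : 0 < m := Module.finrank_pos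
  -- the number of places
  have hle : {Q : Place k' K' | IsOver (down k Q) P}.ncard ≤ Field.finSepDegree k κ := by
    rw [Field.finSepDegree_eq_of_isAlgClosed k κ (AlgebraicClosure k'), ← Nat.card_coe_set_eq]
    let F : {Q : Place k' K' | IsOver (down k Q) P} → (κ →ₐ[k] AlgebraicClosure k') := fun Q =>
      (IsScalarTower.toAlgHom k k' (AlgebraicClosure k')).comp (tau Q.1 (hsplit Q.1 Q.2) P Q.2)
    have hF : Function.Injective F := by
      rintro ⟨Q₁, hQ₁⟩ ⟨Q₂, hQ₂⟩ hQ
      have h1 : tau Q₁ (hsplit Q₁ hQ₁) P hQ₁ = tau Q₂ (hsplit Q₂ hQ₂) P hQ₂ := by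
        ext x
        apply (algebraMap k' (AlgebraicClosure k')).injective
        exact DFunLike.congr_fun hQ x
      exact Subtype.ext (tau_injective hK P hns Q₁ Q₂ (hsplit Q₁ hQ₁) (hsplit Q₂ hQ₂) hQ₁ hQ₂ h1)
    exact Nat.card_le_card_of_injective F hF
  -- ramification indices
  have hr : ∀ Q ∈ hfin.toFinset, ramIdx Q P ≤ m := by
    intro Q hQ
    have hQ' : IsOver Q P := hfin.mem_toFinset.1 hQ
    obtain ⟨Q', rfl⟩ := exists_down_eq (k := k) (k' := k') Q
    have he := K661.Place.isOverWith_ramIdx hQ'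
    obtain ⟨a, ha⟩ := comb_of_mem hK Q' (hsplit Q' hQ') P hQ' he
    exact le_of_comb Q' (fun z hz => comb_of_val_le hK Q' P hns hQ' ha hz)
  -- the sum
  have hsum : ∑ Q ∈ hfin.toFinset, ramIdx Q P = Field.finSepDegree k κ * m := by
    have h1 := K661.OverFF.sum_ramIdx_mul_deg' hK P hfin.toFinset (fun Q => hfin.mem_toFinset)
    have h2 : ∑ Q ∈ hfin.toFinset, ramIdx Q P * Q.deg =
        ∑ Q ∈ hfin.toFinset, ramIdx Q P * Module.finrank k k' := by
      refine Finset.sum_congr rfl fun Q hQ => ?_
      have hQ' : IsOver Q P := hfin.mem_toFinset.1 hQ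
      obtain ⟨Q', rfl⟩ := exists_down_eq (k := k) (k' := k') Q
      rw [deg_down Q' (hsplit Q' hQ')]
    rw [h2, ← Finset.sum_mul, K661.OverInt.finrank_eq h, mul_comm] at h1
    have h3 : (∑ Q ∈ hfin.toFinset, ramIdx Q P) = P.deg :=
      Nat.eq_of_mul_eq_mul_left (Module.finrank_pos (R := k) (M := k')) h1
    rw [h3, ← K661.Residue.finrank_alg P]
    exact (Field.finSepDegree_mul_finInsepDegree k κ).symm
  obtain ⟨hc1, hc2⟩ := count hfin.toFinset (fun Q => ramIdx Q P) _ m hmpos hr (hcard.le.trans hle) hsum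
  refine ⟨hSfin, hcard.symm.trans hc1, fun Q hQ => ?_⟩
  have h1 := hc2 (down k Q) (hfin.mem_toFinset.2 hQ)
  have h2 := K661.Place.isOverWith_ramIdx hQ
  rwa [h1] at h2

end Main

end K668.SplitCount
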