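import Groth.Agent.FunFld.K668.NonsingExt
import Groth.Agent.FunFld.K661.Residue
import Mathlib.RingTheory.Valuation.Extension

/-!
# Splitting the residue fields by a constant extension
-/

set_option autoImplicit false

namespace K668.SplitRes

open FunFld TensorProduct Polynomial K660.Places ConstExt ScalarGen NonsingExt K661.Scalar

section Res

variable {k' K' : Type*} [Field k'] [Field K'] [Algebra k' K'] (Q : Place k' K')

theorem eval₂_res (X B : Q.O) (p : k'[X][X])
    (h : eval₂ (aeval (X : K') : k'[X] →ₐ[k'] K').toRingHom (B : K') p = 0) :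
    eval₂ (aeval (resO Q X) : k'[X] →ₐ[k'] _).toRingHom (resO Q B) p = 0 := by
  have h1 : inclO Q (eval₂ (aeval X : k'[X] →ₐ[k'] Q.O).toRingHom B p) = 0 := by
    rw [hom_aux]
    exact h
  have h2 : eval₂ (aeval X : k'[X] →ₐ[k'] Q.O).toRingHom B p = 0 := Subtype.ext h1
  rw [← hom_aux, h2, map_zero]

theorem mem_range_of_eval₂ {κ : Type*} [Field κ] [Algebra k' κ] {c : k'} {β : κ} {p : k'[X][X]} (hp : p.Monic)
    (h : eval₂ (aeval (algebraMap k' κ c) : k'[X] →ₐ[k'] κ).toRingHom β p = 0)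
    (hs : (p.map (evalRingHom c)).Splits) : β ∈ (algebraMap k' κ).range := by
  refine hs.mem_range_of_isRoot (hp.map _).ne_zero (i := algebraMap k' κ) ?_
  rw [IsRoot, eval_map, eval₂_map]
  have h1 : (algebraMap k' κ).comp (evalRingHom c) =
      (aeval (algebraMap k' κ c) : k'[X] →ₐ[k'] κ).toRingHom := by
    ext q
    · simp
    · simp
  rw [h1, h]

theorem deg_eq_one (h : ∀ z : Q.O, resO Q z ∈ (algebraMap k' (IsLocalRing.ResidueField Q.O)).range) :
    Q.deg = 1 := by
  rw [Place.deg]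
  rw [finrank_eq_one_iff_of_nonzero' (1 : IsLocalRing.ResidueField Q.O) one_ne_zero]
  intro w
  obtain ⟨z, rfl⟩ := resO_surjective Q w
  obtain ⟨c, hc⟩ := h z
  refine ⟨c, (K661.Residue.smul_eq Q c 1).trans ?_⟩
  rw [mul_one, hc]

end Res

variable {k k' K K' : Type*} [Field k] [Field k'] [Field K] [Field K'] [Algebra k k']
  [Algebra k K] [Algebra K K'] [Algebra k' K'] [Algebra k K'] [IsScalarTower k k' K']
  [IsScalarTower k K K']

theorem residue_mem (h1 : Function.Bijective (pm k k' K K')) [Algebra.IsAlgebraic k k']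
    {x : K} (hx : IsGen k K x)
    {E : Type*} [Field E] [Algebra k E] (S : Set (E ⊗[k] K)) (j : E →ₐ[k] k') (hg : Gens k x E S k' j)
    (μ : k[X]) (hμ0 : μ ≠ 0) (Q : Place k' K') (hQx : Q.1 (algebraMap K K' x) ≤ 1)
    (hQμ : Q.1 (algebraMap K K' (aeval x μ)) < 1)
    (p : E ⊗[k] K → k[X][X]) (hp : ∀ s ∈ S, (p s).Monic)
    (hps : ∀ s ∈ S, eval₂ (aeval (1 ⊗ₜ x : E ⊗[k] K) : k[X] →ₐ[k] E ⊗[k] K).toRingHom s (p s) = 0)
    (hsplit1 : (μ.map (algebraMap k k')).Splits)
    (hsplit2 : ∀ c : k', (μ.map (algebraMap k k')).IsRoot c → ∀ s ∈ S,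
      ((p s).map (eval₂RingHom (algebraMap k k') c)).Splits) (z : Q.O) :
    resO Q z ∈ (algebraMap k' (IsLocalRing.ResidueField Q.O)).range := by
  set x' : K' := algebraMap K K' x with hx'
  set C := (algebraMap k' (IsLocalRing.ResidueField Q.O)).range with hC
  let Xo : Q.O := ⟨x', hQx⟩
  -- the residue of `x`
  have hχ0 : aeval (resO Q Xo) (μ.map (algebraMap k k')) = 0 := by
    rw [aeval_algHom_apply (resO Q), resO_apply]
    rw [IsLocalRing.residue_eq_zero_iff, K661.Place.mem_maximalIdeal_iff]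
    have h2 : ((aeval Xo (μ.map (algebraMap k k')) : Q.O) : K') = algebraMap K K' (aeval x μ) := by
      have h3 := aeval_algHom_apply (inclO Q) Xo (μ.map (algebraMap k k'))
      rw [inclO_apply, inclO_apply] at h3
      rw [← h3, aeval_map_algebraMap, ← aeval_algebraMap_apply]
    rw [h2]
    exact hQμ
  have hχ : resO Q Xo ∈ C := by
    refine hsplit1.mem_range_of_isRoot (Polynomial.map_ne_zero hμ0) ?_
    rw [IsRoot, eval_map_algebraMap]
    exact hχ0
  obtain ⟨c, hc⟩ := hχ
  have hcroot : (μ.map (algebraMap k k')).IsRoot c := by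
    apply (algebraMap k' (IsLocalRing.ResidueField Q.O)).injective
    rw [map_zero, ← hχ0, ← hc, aeval_def, eval₂_at_apply]
  -- residues of the generators
  have hgenC : ∀ s ∈ S, ∃ B : Q.O, (B : K') = pm k k' K K' (Algebra.TensorProduct.map j (AlgHom.id k K) s) ∧
      resO Q B ∈ C := by
    intro s hs
    have h2 : Intg k (1 ⊗ₜ x : E ⊗[k] K) s := ⟨p s, hp s hs, hps s hs⟩
    set b := pm k k' K K' (Algebra.TensorProduct.map j (AlgHom.id k K) s) with hb
    let f : E ⊗[k] K →ₐ[k] K' := (pm k k' K K').comp (Algebra.TensorProduct.map j (AlgHom.id k K))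
    have hf1 : f (1 ⊗ₜ x) = x' := by
      show pm k k' K K' (Algebra.TensorProduct.map j (AlgHom.id k K) (1 ⊗ₜ x)) = x'
      rw [Algebra.TensorProduct.map_tmul, map_one, pm_tmul, map_one, one_mul]
      rfl
    have h3 : Intg k x' b := by
      have := h2.map f
      rwa [hf1] at this
    have hQb : Q.1 b ≤ 1 := by
      have h4 := h3.tower_top (L := k')
      rw [intg_iff] at h4
      exact val_le_one_of_isIntegral Q (fun r => val_adjoin_le Q hQx r) h4
    refine ⟨⟨b, hQb⟩, rfl, ?_⟩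
    set p' : k'[X][X] := (p s).map (mapRingHom (algebraMap k k')) with hp'
    have h5 : eval₂ (aeval x' : k'[X] →ₐ[k'] K').toRingHom b p' = 0 := by
      have h6 := congrArg f (hps s hs)
      rw [hom_aux, hf1, map_zero] at h6
      rw [hp', eval₂_map]
      have h7 : (aeval x' : k'[X] →ₐ[k'] K').toRingHom.comp (mapRingHom (algebraMap k k')) =
          (aeval x' : k[X] →ₐ[k] K').toRingHom := by
        ext q
        · simp [← IsScalarTower.algebraMap_apply]
        · simp
      rw [h7]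
      exact h6
    have h8 := eval₂_res Q Xo ⟨b, hQb⟩ p' h5
    rw [← hc] at h8
    refine mem_range_of_eval₂ ((hp s hs).map _) h8 ?_
    have h9 := hsplit2 c hcroot s hs
    rw [Polynomial.map_map]
    have h10 : (evalRingHom c).comp (mapRingHom (algebraMap k k')) = eval₂RingHom (algebraMap k k') c := by
      ext q
      · simp
      · simp
    rw [h10]
    exact h9
  -- residues of all elements integral over `k[x]`
  have hB : ∀ a : K', Intg k' x' a → ∃ B : Q.O, (B : K') = a ∧ resO Q B ∈ C := by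
    intro a ha
    let e : k' ⊗[k] K ≃ₐ[k] K' := AlgEquiv.ofBijective _ h1
    have he : ∀ w, e w = pm k k' K K' w := fun _ => rfl
    have hey : e.symm x' = 1 ⊗ₜ x := by
      rw [AlgEquiv.symm_apply_eq, he, pm_tmul, map_one, one_mul, hx']
    have h4 : Intg k (e.symm x') (e.symm a) := (ha.of_isAlgebraic (k := k)).map (e.symm : K' →ₐ[k] k' ⊗[k] K)
    rw [hey] at h4
    have h5 := hg _ h4
    have h6 : ∀ w ∈ Submodule.span k' (pows (1 ⊗ₜ x : k' ⊗[k] K)
        (Algebra.TensorProduct.map j (AlgHom.id k K) '' S)),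
        ∃ B : Q.O, (B : K') = pm k k' K K' w ∧ resO Q B ∈ C := by
      intro w hw
      induction hw using Submodule.span_induction with
      | mem w hw =>
        obtain ⟨m, _, ⟨b, hb, rfl⟩, rfl⟩ := hw
        obtain ⟨B, hB, hBC⟩ := hgenC b hb
        refine ⟨Xo ^ m * B, ?_, ?_⟩
        · rw [map_mul, map_pow, pm_tmul, map_one, one_mul, ← hB]
          rfl
        · rw [map_mul, map_pow, ← hc]
          exact mul_mem (pow_mem (⟨c, rfl⟩ : algebraMap k' (IsLocalRing.ResidueField Q.O) c ∈ C) m) hBC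
      | zero => exact ⟨0, by rw [map_zero]; rfl, by rw [map_zero]; exact zero_mem _⟩
      | add a b _ _ ha hb =>
        obtain ⟨A, hA, hAC⟩ := ha
        obtain ⟨B, hB, hBC⟩ := hb
        refine ⟨A + B, ?_, by rw [map_add]; exact add_mem hAC hBC⟩
        rw [map_add, ← hA, ← hB]
        rfl
      | smul d w _ hw =>
        obtain ⟨A, hA, hAC⟩ := hw
        refine ⟨algebraMap k' Q.O d * A, ?_, ?_⟩
        · rw [PlaceLoc.pm_smul, ← hA]
          rfl
        · rw [map_mul, AlgHom.commutes]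
          exact mul_mem (⟨d, rfl⟩ : algebraMap k' (IsLocalRing.ResidueField Q.O) d ∈ C) hAC
    obtain ⟨B, hB, hBC⟩ := h6 _ h5
    refine ⟨B, ?_, hBC⟩
    rw [hB, ← he, AlgEquiv.apply_symm_apply]
  -- general elements
  obtain ⟨s, hs, hs1, hsz⟩ := PlaceLoc.exists_denominator (ConstExt.isGen h1 hx) Q hQx (a := (z : K')) z.2
  rw [← intg_iff] at hs hsz
  obtain ⟨B₁, hB₁, hC₁⟩ := hB s hs
  obtain ⟨B₂, hB₂, hC₂⟩ := hB _ hsz
  have h2 : B₂ = B₁ * z := Subtype.ext (by rw [hB₂]; show _ = (B₁ : K') * z; rw [hB₁])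
  have h3 : resO Q B₁ ≠ 0 := by
    rw [resO_apply, Ne, IsLocalRing.residue_eq_zero_iff, K661.Place.mem_maximalIdeal_iff, hB₁, hs1]
    exact lt_irrefl _
  obtain ⟨c₁, hc₁⟩ := hC₁
  obtain ⟨c₂, hc₂⟩ := hC₂
  refine ⟨c₂ / c₁, ?_⟩
  rw [map_div₀, hc₁, hc₂, h2, map_mul, mul_div_cancel_left₀ _ h3]

section Main

universe u v w

theorem exists_sub {k : Type*} [Field k] (A : Type w) [Field A] [Algebra k A] [Algebra.IsAlgebraic k A]
    {E : Type*} [Field E] [Algebra k E] (e : E →ₐ[k] A) (hE : FiniteDimensional k E) (T : Finset A) :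
    ∃ (k' : Type w) (_ : Field k') (_ : Algebra k k') (h : k' →ₐ[k] A), FiniteDimensional k k' ∧
      Nonempty (E →ₐ[k] k') ∧ ∀ t ∈ T, ∃ c, h c = t := by
  have f₁ : FiniteDimensional k e.fieldRange :=
    Module.Finite.equiv (AlgEquiv.ofInjectiveField e).toLinearEquiv
  have f₂ : FiniteDimensional k (IntermediateField.adjoin k (T : Set A)) :=
    IntermediateField.finiteDimensional_adjoin fun x _ => Algebra.IsIntegral.isIntegral x
  refine ⟨↥(e.fieldRange ⊔ IntermediateField.adjoin k (T : Set A)), inferInstance, inferInstance,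
    IntermediateField.val _, IntermediateField.finiteDimensional_sup _ _, ?_, ?_⟩
  · exact ⟨(IntermediateField.inclusion le_sup_left).comp (AlgEquiv.ofInjectiveField e).toAlgHom⟩
  · intro t ht
    exact ⟨⟨t, (le_sup_right : IntermediateField.adjoin k (T : Set A) ≤ _)
      (IntermediateField.subset_adjoin _ _ ht)⟩, rfl⟩

theorem exists_minpoly {k K : Type*} [Field k] [Field K] [Algebra k K] (hK : IsFunctionField k K)
    (P : Place k K) {x : K} (hx : P.1 x ≤ 1) : ∃ μ : k[X], μ ≠ 0 ∧ P.1 (aeval x μ) < 1 := by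
  have h1 := K661.Residue.finite_alg P (K660.Compare.finite_residue hK P)
  have h2 : IsIntegral k (resO P ⟨x, hx⟩) := IsIntegral.of_finite k _
  refine ⟨minpoly k (resO P ⟨x, hx⟩), minpoly.ne_zero h2, ?_⟩
  have h3 := minpoly.aeval k (resO P ⟨x, hx⟩)
  rw [aeval_algHom_apply (resO P), resO_apply, IsLocalRing.residue_eq_zero_iff,
    K661.Place.mem_maximalIdeal_iff] at h3
  have h4 : ((aeval (⟨x, hx⟩ : P.O) (minpoly k (resO P ⟨x, hx⟩)) : P.O) : K) =
      aeval x (minpoly k (resO P ⟨x, hx⟩)) := by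
    have h5 := aeval_algHom_apply (inclO P) ⟨x, hx⟩ (minpoly k (resO P ⟨x, hx⟩))
    rw [inclO_apply, inclO_apply] at h5
    exact h5.symm
  rw [h4] at h3
  exact h3

theorem main (k : Type u) (K : Type v) [Field k] [Field K] [Algebra k K]
    (hK : FunFld.IsFunctionField k K) (hg : FunFld.IsGeometric k K) (P : FunFld.Place k K)
    (A : Type u) [Field A] [Algebra k A] [Algebra.IsAlgebraic k A] [IsAlgClosed A] :
    ∃ (k' : Type u) (_ : Field k') (_ : Algebra k k'), FiniteDimensional k k' ∧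
      ∀ (K' : Type v) [Field K'] [Algebra K K'] [Algebra k' K'] [Algebra k K']
        [IsScalarTower k k' K'] [IsScalarTower k K K'],
        Function.Bijective (Algebra.TensorProduct.productMap
          (IsScalarTower.toAlgHom k k' K') (IsScalarTower.toAlgHom k K K')) →
        ∀ Q : FunFld.Place k' K', P.1.HasExtension Q.1 → Q.deg = 1 := by
  classical
  obtain ⟨x, hx, hPx⟩ : ∃ x, IsGen k K x ∧ P.1 x ≤ 1 := by
    obtain ⟨x₀, hx₀⟩ := exists_isGen hK
    rcases le_or_inv_le P x₀ with h | h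
    · exact ⟨x₀, hx₀, h⟩
    · exact ⟨x₀⁻¹, hx₀.inv, h⟩
  obtain ⟨E, _, _, ⟨e⟩, f, -, S, hS, g⟩ := gen_abs.{u, v, u, u} hg hx A
  obtain ⟨μ, hμ0, hμ⟩ := exists_minpoly hK P hPx
  have hp : ∀ s, ∃ p : k[X][X], s ∈ S → p.Monic ∧
      eval₂ (aeval (1 ⊗ₜ x : E ⊗[k] K) : k[X] →ₐ[k] E ⊗[k] K).toRingHom s p = 0 := fun s => by
    by_cases hs : s ∈ S
    · obtain ⟨p, hp⟩ := hS s hs
      exact ⟨p, fun _ => hp⟩
    · exact ⟨0, fun h => absurd h hs⟩
  choose p hp using hp
  set R₀ : Finset A := (μ.map (algebraMap k A)).roots.toFinset with hR₀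
  set R₁ : Finset A := R₀.biUnion fun ξ => S.biUnion fun s =>
    ((p s).map (eval₂RingHom (algebraMap k A) ξ)).roots.toFinset with hR₁
  obtain ⟨k', i₁, i₂, h, hfin, ⟨j⟩, hT⟩ := exists_sub A e f (R₀ ∪ R₁)
  refine ⟨k', i₁, i₂, hfin, ?_⟩
  intro K' _ _ _ _ _ _ h1 Q hPQ
  have ia : Algebra.IsAlgebraic k k' := inferInstance
  have hhk : h.toRingHom.comp (algebraMap k k') = algebraMap k A := by
    ext c
    exact h.commutes c
  apply deg_eq_one
  refine residue_mem h1 hx (S : Set (E ⊗[k] K)) j (@g k' _ _ _ j) μ hμ0 Q ?_ ?_ p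
    (fun s hs => (hp s (Finset.mem_coe.1 hs)).1) (fun s hs => (hp s (Finset.mem_coe.1 hs)).2) ?_ ?_
  · exact (Valuation.HasExtension.val_map_le_one_iff P.1 Q.1 x).2 hPx
  · exact (Valuation.HasExtension.val_map_lt_one_iff P.1 Q.1 _).2 hμ
  · refine Splits.of_splits_map h.toRingHom (IsAlgClosed.splits _) fun a ha => ?_
    rw [Polynomial.map_map, hhk] at ha
    exact hT a (Finset.mem_union_left _ (Multiset.mem_toFinset.2 ha))
  · intro c hc s hs
    refine Splits.of_splits_map h.toRingHom (IsAlgClosed.splits _) fun a ha => ?_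
    have h2 : h.toRingHom.comp (eval₂RingHom (algebraMap k k') c) =
        eval₂RingHom (algebraMap k A) (h c) := by
      ext q
      · simp
      · simp
    rw [Polynomial.map_map, h2] at ha
    refine hT a (Finset.mem_union_right _ ?_)
    rw [hR₁, Finset.mem_biUnion]
    refine ⟨h c, ?_, ?_⟩
    · rw [hR₀, Multiset.mem_toFinset, mem_roots (Polynomial.map_ne_zero hμ0), ← hhk, ← Polynomial.map_map]
      exact hc.map (f := h.toRingHom)
    · rw [Finset.mem_biUnion]
      exact ⟨s, Finset.mem_coe.1 hs, Multiset.mem_toFinset.2 ha⟩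

end Main

end K668.SplitRes
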