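import Groth.Agent.S12606
import Groth.Agent.FunFld.K669.FixedPos
import Groth.Agent.FunFld.K660.Weil

/-! The Weierstrass divisor is nonnegative; its coefficient at a strong fixed point; its degree. -/

set_option autoImplicit false

namespace K668.WDivBound

open FunFld WithZero

variable {k K : Type*} [Field k] [Field K] [Algebra k K]

theorem val_det_le_one (P : Place k K) {m : ℕ} (A : Matrix (Fin m) (Fin m) K)
    (hA : ∀ i j, P.1 (A i j) ≤ 1) : P.1 A.det ≤ 1 := by
  have h : A = (Matrix.of fun i j => (⟨A i j, (Valuation.mem_valuationSubring_iff P.1 _).mpr (hA i j)⟩ :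
      P.1.valuationSubring)).map (algebraMap P.1.valuationSubring K) := by
    ext i j
    rfl
  rw [h, ← RingHom.mapMatrix_apply, ← RingHom.map_det]
  exact (Valuation.mem_valuationSubring_iff P.1 _).mp (Subtype.prop _)

variable [IsAlgClosed k]

/-- The valuation of a generalized Wronskian whose Hasse columns are integral. -/
theorem val_det_wrMat_le (hK : IsFunctionField k K) (P : Place k K) {t : K} (ht : P.1 t = exp (-1))
    (Ht : K →ₐ[k] PowerSeries K) (hHt : LocRes.IsHasseFamily t Ht) {n : ℕ} (τ : K →ₐ[k] K)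
    (φ : Fin (n + 1) → K) (hnorm : ∀ i, P.1 (φ i) ≤ 1) (e : ℤ) (he : ∀ i, P.1 (τ (φ i)) ≤ exp e)
    (J : Fin n → ℕ) : P.1 (wrMat τ Ht φ J).det ≤ exp e := by
  rw [Matrix.det_succ_column_zero]
  refine P.1.map_sum_le fun i _ => ?_
  rw [map_mul, map_mul]
  have h1 : P.1 ((-1 : K) ^ (i : ℕ)) = 1 := by
    rw [map_pow, Valuation.map_neg, map_one, one_pow]
  have h2 : P.1 ((wrMat τ Ht φ J).submatrix i.succAbove Fin.succ).det ≤ 1 := by
    apply val_det_le_one
    intro a b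
    exact K669.Local.val_hasseD_le hK P ht Ht hHt (hnorm _) _
  rw [h1, one_mul]
  exact (mul_le_of_le_one_right' h2).trans (he i)

/-- The Weierstrass divisor is nonnegative. -/
theorem wDiv_nonneg (hK : IsFunctionField k K) {n : ℕ} (φ : Fin (n + 1) → K) (hφ : LinearIndependent k φ)
    (τ : K →ₐ[k] K) (s : K) (H : K →ₐ[k] PowerSeries K) (hH : LocRes.IsHasseFamily s H)
    (J : Fin n → ℕ) (hJ : IsOrders K (hcol τ H φ) J)
    (Φ : Place k K → (K →ₐ[k] LaurentSeries k))
    (hΦ : ∀ P : Place k K, LocRes.IsExpansionAt P.1 (Φ P)) :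
    0 ≤ wDiv τ H Φ s φ J := by
  intro P
  have hτinj : ∀ z : K, z ≠ 0 → τ z ≠ 0 := fun z hz => (map_ne_zero τ).mpr hz
  obtain ⟨t, Ht, ht, hHt⟩ := K669.Normalize.exists_parameter hK P H hH
  obtain ⟨y, hy, heff, hnorm, hli⟩ := K669.Normalize.exists_normalization hK hφ P
  obtain ⟨hJ1, hw⟩ := K669.WDivEquiv.main hK φ hφ τ s H hH t Ht hHt J hJ 1 (by simp) y hy (y • φ)
    (fun i => by simp [Matrix.one_apply]) Φ hΦ
  rw [← hw]
  set ψ : Fin (n + 1) → K := y • φ with hψ
  have h1 : mapDiv k ψ P = 0 :=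
    K669.MapDiv.mapDiv_eq_zero_of_normalized hK (K669.MapDiv.good_of_linearIndependent hli) P heff hnorm
  have hgood : K669.MapDiv.Good (τ ∘ ψ) := Or.inl fun i => hτinj _ (hli.ne_zero i)
  have h3 : divDiff Φ 1 t P = 0 := by
    rw [K669.DivDiff.divDiff_apply hK Φ hΦ one_ne_zero (K669.DiffCalc.D_ne_zero_of_isHasseFamily Ht hHt),
      K669.DiffCalc.ordDiff_one_of_val (Φ P) (hΦ P) ht]
  have h4 := val_det_wrMat_le hK P ht Ht hHt τ ψ hnorm (mapDiv k (τ ∘ ψ) P)
    (fun i => (K669.MapDiv.mapDiv_le_iff' hK hgood P _).mp le_rfl i) J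
  have h5 := (K660.Ord.val_le_exp_iff P (K669.WDivEquiv.det_ne_zero hK hli τ Ht hHt hJ1)).mp h4
  rw [wDiv]
  simp only [Finsupp.add_apply, Finsupp.smul_apply, h1, h3, K669.MapDiv.div_apply hK]
  simp only [smul_zero, add_zero, Finsupp.coe_zero, Pi.zero_apply]
  linarith

/-- The coefficient of the Weierstrass divisor at a strong fixed point. -/
theorem le_wDiv_of_strong (hK : IsFunctionField k K) {n : ℕ} (φ : Fin (n + 1) → K)
    (hφ : LinearIndependent k φ) (τ : K →ₐ[k] K) (hτφ : ¬ ∃ y : K, ∀ i, τ (φ i) = y * φ i)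
    (s : K) (H : K →ₐ[k] PowerSeries K) (hH : LocRes.IsHasseFamily s H)
    (J : Fin n → ℕ) (hJ : IsOrders K (hcol τ H φ) J)
    (Φ : Place k K → (K →ₐ[k] LaurentSeries k))
    (hΦ : ∀ P : Place k K, LocRes.IsExpansionAt P.1 (Φ P)) (P : Place k K)
    (hP : IsStrongFixedPt τ P) :
    (n : ℤ) ≤ wDiv τ H Φ s φ J P := by
  have hn : 0 < n := by
    rcases Nat.eq_zero_or_pos n with rfl | h
    · exfalso
      apply hτφ
      refine ⟨τ (φ 0) / φ 0, fun i => ?_⟩
      have : i = 0 := Fin.ext (by omega)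
      subst this
      rw [div_mul_cancel₀ _ (hφ.ne_zero 0)]
    · exact h
  obtain ⟨t, Ht, ht, hHt⟩ := K669.Normalize.exists_parameter hK P H hH
  obtain ⟨y, hy, heff, hnorm, hli⟩ := K669.Normalize.exists_normalization hK hφ P
  obtain ⟨hJ1, hw⟩ := K669.WDivEquiv.main hK φ hφ τ s H hH t Ht hHt J hJ 1 (by simp) y hy (y • φ)
    (fun i => by simp [Matrix.one_apply]) Φ hΦ
  rw [← hw]
  obtain ⟨J', hJ'⟩ := K669.Normalize.exists_ordersAt hK P hli heff hnorm ht Ht hHt
  have h3 := (K669.WDivFixed.main hK τ P (K669.WDivFixed.isStrong_isFixed hP) (y • φ) hli heff hnorm t ht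
    Ht hHt J hJ1 J' hJ' Φ hΦ).1
  have hτψ : ¬ ∃ z : K, ∀ i, τ ((y • φ) i) = z * (y • φ) i := by
    rintro ⟨z, hz⟩
    apply hτφ
    refine ⟨z * y / τ y, fun i => ?_⟩
    have h := hz i
    rw [Pi.smul_apply, smul_eq_mul, map_mul] at h
    have hy' : τ y ≠ 0 := (map_ne_zero τ).mpr hy
    field_simp
    rw [mul_comm, h]
    ring
  have h4 := Groth.Agent.S12606.result k K hK τ P hP hn (y • φ) hli heff hnorm hτψ t ht Ht hHt J hJ1 J' hJ'
  have h5 := K669.Adapted.orders_pos P hHt hJ' ⟨0, hn⟩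
  refine le_trans ?_ h3
  have h6 : ∀ l, (1 : ℤ) ≤ (J' l : ℤ) - J l := fun l => by
    have := h4 l
    omega
  calc (n : ℤ) = ∑ _l : Fin n, (1 : ℤ) := by simp
    _ ≤ _ := Finset.sum_le_sum fun l _ => h6 l

omit [IsAlgClosed k] in
/-- The degree of the Weierstrass divisor, from the degrees of `[ds]` and `[τ(φ)]`. -/
theorem deg_wDiv (hK : IsFunctionField k K) {n : ℕ} (φ : Fin (n + 1) → K)
    (τ : K →ₐ[k] K) (s : K) (H : K →ₐ[k] PowerSeries K) (J : Fin n → ℕ)
    (Φ : Place k K → (K →ₐ[k] LaurentSeries k))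
    (h1 : (divDiff Φ 1 s).deg = 2 * (genus k K : ℤ) - 2)
    (h2 : (mapDiv k (τ ∘ φ)).deg = Module.finrank τ.fieldRange K * (mapDiv k φ).deg) :
    (wDiv τ H Φ s φ J).deg =
      ((Module.finrank τ.fieldRange K : ℤ) + n) * (mapDiv k φ).deg +
        (2 * (genus k K : ℤ) - 2) * ∑ l, (J l : ℤ) := by
  rw [wDiv, K660.Compare.deg_add, K660.Compare.deg_add, K660.Compare.deg_add, K660.Compare.deg_zsmul,
    K660.Compare.deg_zsmul, K660.Compare.deg_div hK, h1, h2]
  ring

omit [IsAlgClosed k] in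
/-- Counting places with large coefficients in a nonnegative divisor. -/
theorem finite_and_card_le (hK : IsFunctionField k K) {W : Divisor k K} (hW : 0 ≤ W) {n : ℕ} (hn : 0 < n)
    {S : Set (Place k K)} (hS : ∀ P ∈ S, (n : ℤ) ≤ W P) : S.Finite ∧ (n : ℤ) * (S.ncard : ℤ) ≤ W.deg := by
  classical
  have hsub : S ⊆ (W.support : Set (Place k K)) := by
    intro P hP
    rw [Finset.mem_coe, Finsupp.mem_support_iff]
    have := hS P hP
    omega
  have hfin : S.Finite := W.support.finite_toSet.subset hsub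
  refine ⟨hfin, ?_⟩
  rw [Set.ncard_eq_toFinset_card S hfin]
  have h1 : W.deg = ∑ P ∈ W.support, W P * (P.deg : ℤ) := rfl
  rw [h1]
  have h2 : hfin.toFinset ⊆ W.support := by
    intro P hP
    rw [Set.Finite.mem_toFinset] at hP
    exact hsub hP
  calc (n : ℤ) * (hfin.toFinset.card : ℤ) = ∑ P ∈ hfin.toFinset, (n : ℤ) := by
        rw [Finset.sum_const, nsmul_eq_mul, mul_comm]
    _ ≤ ∑ P ∈ hfin.toFinset, W P * (P.deg : ℤ) := by
        refine Finset.sum_le_sum fun P hP => ?_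
        rw [Set.Finite.mem_toFinset] at hP
        have h3 := hS P hP
        have h4 : (1 : ℤ) ≤ P.deg := by exact_mod_cast K660.Compare.place_deg_pos hK P
        nlinarith
    _ ≤ ∑ P ∈ W.support, W P * (P.deg : ℤ) := by
        refine Finset.sum_le_sum_of_subset_of_nonneg h2 fun P _ _ => ?_
        have h3 : (0 : ℤ) ≤ W P := hW P
        positivity

/-- The number of strong fixed points, from the degrees of `[ds]` and `[τ(φ)]`. -/
theorem strong_count (hK : IsFunctionField k K) (τ : K →ₐ[k] K) {n : ℕ} (φ : Fin (n + 1) → K)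
    (hφ : LinearIndependent k φ) (hτφ : ¬ ∃ y : K, ∀ i, τ (φ i) = y * φ i) (s : K)
    (H : K →ₐ[k] PowerSeries K) (hH : LocRes.IsHasseFamily s H)
    (J : Fin n → ℕ) (hJ : IsOrders K (hcol τ H φ) J)
    (Φ : Place k K → (K →ₐ[k] LaurentSeries k))
    (hΦ : ∀ P : Place k K, LocRes.IsExpansionAt P.1 (Φ P))
    (h1 : (divDiff Φ 1 s).deg = 2 * (genus k K : ℤ) - 2)
    (h2 : (mapDiv k (τ ∘ φ)).deg = Module.finrank τ.fieldRange K * (mapDiv k φ).deg) :
    {P : Place k K | IsStrongFixedPt τ P}.Finite ∧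
    (n : ℤ) * (Set.ncard {P : Place k K | IsStrongFixedPt τ P} : ℤ) ≤
      ((n : ℤ) + Module.finrank τ.fieldRange K) * (mapDiv k φ).deg +
        (2 * (genus k K : ℤ) - 2) * ∑ l, (J l : ℤ) := by
  have hn : 0 < n := by
    rcases Nat.eq_zero_or_pos n with rfl | h
    · exfalso
      apply hτφ
      refine ⟨τ (φ 0) / φ 0, fun i => ?_⟩
      have : i = 0 := Fin.ext (by omega)
      subst this
      rw [div_mul_cancel₀ _ (hφ.ne_zero 0)]
    · exact h
  have h := finite_and_card_le hK (wDiv_nonneg hK φ hφ τ s H hH J hJ Φ hΦ) hn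
    (S := {P : Place k K | IsStrongFixedPt τ P})
    (fun P hP => le_wDiv_of_strong hK φ hφ τ hτφ s H hH J hJ Φ hΦ P hP)
  rw [deg_wDiv hK φ τ s H J Φ h1 h2, add_comm (Module.finrank τ.fieldRange K : ℤ) n] at h
  exact h

end K668.WDivBound
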