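import Groth.Agent.FunFld.K668.Adapted
import Groth.Agent.S12596

/-!
# Order of a generalized Wronskian at a fixed point
-/

set_option autoImplicit false

namespace K668.Loc

open FunFld LocRes LaurentSeries WithZero IntermediateField K668.Orders

variable {k K : Type*} [Field k] [Field K] [Algebra k K]
variable {P : Place k K} {t : K} {ψ : K →ₐ[k] k⸨X⸩} {Ht : K →ₐ[k] PowerSeries K}

/-- The matrix of leading coefficients. -/
noncomputable def leadMat {n : ℕ} (ψ : K →ₐ[k] k⸨X⸩) (τ : K →ₐ[k] K) (φ : Fin (n + 1) → K)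
    (q : Fin (n + 1) → ℕ) (I : Fin n → ℕ) : Matrix (Fin (n + 1)) (Fin (n + 1)) k :=
  Matrix.of fun r c => Fin.cases (motive := fun _ => k) ((ψ (τ (φ r))).coeff (q r))
    (fun l => ((q r).choose (I l) : k)) c

theorem IsExp.det_wrMat (h : IsExp P t ψ) [Algebra.IsSeparable (adjoin k ({t} : Set K)) K]
    (hHt : IsHasseFamily t Ht) {n : ℕ} (τ : K →ₐ[k] K) (φ : Fin (n + 1) → K)
    (q : Fin (n + 1) → ℕ) (hlow : ∀ r, ∀ i < (q r : ℤ), (ψ (φ r)).coeff i = 0)
    (h1 : ∀ r, (ψ (φ r)).coeff (q r) = 1) (hτ : ∀ r, P.1 (τ (φ r)) ≤ exp (-(q r : ℤ)))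
    (I : Fin n → ℕ) :
    (∀ i < ∑ r, (q r : ℤ) - ∑ l, (I l : ℤ), (ψ (wrMat τ Ht φ I).det).coeff i = 0) ∧
      (ψ (wrMat τ Ht φ I).det).coeff (∑ r, (q r : ℤ) - ∑ l, (I l : ℤ)) =
        (leadMat ψ τ φ q I).det := by
  have hmap : ψ (wrMat τ Ht φ I).det = (Matrix.map (wrMat τ Ht φ I) ψ).det :=
    AlgHom.map_det ψ _
  rw [hmap]
  have hsum : ∑ l, (I l : ℤ) = ∑ c, (Fin.cons 0 (fun l => (I l : ℤ)) : Fin (n + 1) → ℤ) c := by
    rw [Fin.sum_univ_succ]; simp
  rw [hsum]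
  apply DetLead.det_leading
  · intro r c i hi
    induction c using Fin.cases with
    | zero =>
      rw [Fin.cons_zero, sub_zero] at hi
      exact h.le_iff.1 (hτ r) i hi
    | succ l =>
      rw [Fin.cons_succ] at hi
      change (ψ (hasseD Ht (I l) (φ r))).coeff i = 0
      rw [h.coeff_hasseD hHt, hlow r _ (by omega), smul_zero]
  · intro r c
    induction c using Fin.cases with
    | zero =>
      rw [Fin.cons_zero, sub_zero]
      rfl
    | succ l =>
      rw [Fin.cons_succ]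
      change (ψ (hasseD Ht (I l) (φ r))).coeff ((q r : ℤ) - I l) = ((q r).choose (I l) : k)
      rw [h.coeff_hasseD hHt, sub_add_cancel, h1 r, Ring.choose_natCast]
      simp

theorem det_leadMat_of_pos {n : ℕ} (τ : K →ₐ[k] K) (φ : Fin (n + 1) → K) {J : Fin n → ℕ}
    (h0 : (ψ (τ (φ 0))).coeff 0 = 1) {I : Fin n → ℕ} (hI : ∀ l, 0 < I l) :
    (leadMat ψ τ φ (cz J) I).det = (binomMat k J I).det := by
  rw [DetLead.det_of_row_zero]
  · congr 1
  · exact h0
  · intro l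
    change ((cz J 0).choose (I l) : k) = 0
    rw [cz_zero, Nat.choose_eq_zero_of_lt (hI l), Nat.cast_zero]

theorem det_leadMat_of_strong {n : ℕ} (τ : K →ₐ[k] K) (φ : Fin (n + 1) → K) {J : Fin n → ℕ}
    (h0 : (ψ (τ (φ 0))).coeff 0 = 1) {I : Fin n → ℕ} (hτ : ∀ l : Fin n, (ψ (τ (φ l.succ))).coeff (J l) = 0) :
    (leadMat ψ τ φ (cz J) I).det = (binomMat k J I).det := by
  rw [DetLead.det_of_column_zero]
  · congr 1
  · exact h0
  · intro l
    exact hτ l

end K668.Loc
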